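import Cfsg.Agent.TAB.B.Fin.DatF

/-!
# The table of the Baby Monster: data (helper51, TAB)

The first 166 rows are irreducible characters, the last 9 are sums of two; the table is given by its columns.
-/

set_option autoImplicit false
set_option maxRecDepth 100000

namespace Cfsg.Agent.TAB.B.Fin

open Cfsg.Agent.TAB.Eng

/-- the values at 1A -/
def col0 : List ℤ :=
  [.ofNat 1, .ofNat 4371, .ofNat 96255, .ofNat 1139374, .ofNat 9458750, .ofNat 9550635, .ofNat 63532485,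
  .ofNat 347643114, .ofNat 356054375, .ofNat 1407126890, .ofNat 3214743741, .ofNat 4221380670,
  .ofNat 4275362520, .ofNat 4622913750, .ofNat 9287037474, .ofNat 12501781215, .ofNat 13508418144,
  .ofNat 27416186875, .ofNat 75844139371, .ofNat 80426400000, .ofNat 108348770530, .ofNat 156871952640,
  .ofNat 309720864375, .ofNat 536105794455, .ofNat 551549171250, .ofNat 635966233056, .ofNat 641238778125,
  .ofNat 1095935366250, .ofNat 1917448516791, .ofNat 2624476798125, .ofNat 4375623425250,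
  .ofNat 4836998684375, .ofNat 6143375289051, .ofNat 6145833622500, .ofNat 6619124890560,
  .ofNat 6697382793750, .ofNat 7331420799495, .ofNat 8165038927500, .ofNat 9958526703125,
  .ofNat 10238958815085, .ofNat 10238958815085, .ofNat 10529575087500, .ofNat 10853720317440,
  .ofNat 12927978301875, .ofNat 17413195263750, .ofNat 19246163186250, .ofNat 19946023665750,
  .ofNat 22348485900000, .ofNat 24573501156204, .ofNat 35301999416320, .ofNat 38348970335820,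
  .ofNat 38658236225625, .ofNat 40955835260340, .ofNat 47097393520320, .ofNat 78359378686875,
  .ofNat 89626740328125, .ofNat 94981065075000, .ofNat 118479380574555, .ofNat 119483690332160,
  .ofNat 123485536419840, .ofNat 140763279350304, .ofNat 162746401888125, .ofNat 181844090400000,
  .ofNat 210919336847010, .ofNat 211069033500000, .ofNat 226187908369605, .ofNat 260522896303125,
  .ofNat 284415522641250, .ofNat 284415522641250, .ofNat 349055414150625, .ofNat 364635285437500,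
  .ofNat 386959894750000, .ofNat 422966584586250, .ofNat 563729863936554, .ofNat 581759023584375,
  .ofNat 595404085985280, .ofNat 646398915093750, .ofNat 652994822390625, .ofNat 662947625486250,
  .ofNat 665029816320000, .ofNat 665029816320000, .ofNat 677025031854600, .ofNat 714865488180480,
  .ofNat 718889622405120, .ofNat 775438738408125, .ofNat 809403858900000, .ofNat 820429392234375,
  .ofNat 835517991997440, .ofNat 844994666880000, .ofNat 968283412561920, .ofNat 1042755084800000,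
  .ofNat 1093905856312500, .ofNat 1198405322994375, .ofNat 1370975689505565, .ofNat 1370975689505565,
  .ofNat 1391162882484375, .ofNat 1458928219297500, .ofNat 1523654585578125, .ofNat 1679281227336960,
  .ofNat 1711786747207680, .ofNat 1807462370115584, .ofNat 1928549534519790, .ofNat 2123804897280000,
  .ofNat 2437847336925000, .ofNat 2565217512000000, .ofNat 2611979289562500, .ofNat 2642676197359616,
  .ofNat 2730389017356000, .ofNat 2788834713600000, .ofNat 2908795117921875, .ofNat 2952870715858140,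
  .ofNat 2991219686193960, .ofNat 3068619025500000, .ofNat 3469068040246875, .ofNat 3555194033015625,
  .ofNat 3555194033015625, .ofNat 3669877711500000, .ofNat 3839609555656875, .ofNat 4068660047203125,
  .ofNat 4095583526034000, .ofNat 4193877530658816, .ofNat 4231406449091250, .ofNat 4231406449091250,
  .ofNat 4250407956480000, .ofNat 4570963756734375, .ofNat 4619851069640625, .ofNat 4643518737000000,
  .ofNat 4740258710687500, .ofNat 4740258710687500, .ofNat 4919769220713750, .ofNat 5191701169700864,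
  .ofNat 5223958579125000, .ofNat 5257393731060471, .ofNat 5257393731060471, .ofNat 5485156508081250,
  .ofNat 5992026614971875, .ofNat 6414993199558125, .ofNat 6692129944500000, .ofNat 6934321313920000,
  .ofNat 6979512601119240, .ofNat 7575407965125000, .ofNat 7679219111313750, .ofNat 7698465274500000,
  .ofNat 7744013981383680, .ofNat 7853379563452500, .ofNat 7863520369985280, .ofNat 8351460096890625,
  .ofNat 8388837260960625, .ofNat 8602825703915520, .ofNat 8774244412835616, .ofNat 9211433539600384,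
  .ofNat 9211433539600384, .ofNat 9558000449712000, .ofNat 9569488431021750, .ofNat 9596829826538955,
  .ofNat 9845152706812500, .ofNat 10134024677130240, .ofNat 10161349228100070, .ofNat 11381560819200000,
  .ofNat 11854109736960000, .ofNat 11854109736960000, .ofNat 13046344927150080, .ofNat 13940902029600000,
  .ofNat 14014628339712000, .ofNat 14220776132062500, .ofNat 16547812226400000, .ofNat 181614468750,
  .ofNat 505969406250, .ofNat 8194674237750, .ofNat 16758955797012, .ofNat 23780562093750,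
  .ofNat 42693014000000, .ofNat 8663551182000000, .ofNat 19147171536281250, .ofNat 24848631808000000]

/-- the values at 2A -/
def col1 : List ℤ :=
  [.ofNat 1, .negSucc 492, .ofNat 4863, .negSucc 26961, .ofNat 118846, .ofNat 119339, .negSucc 468026,
  .ofNat 1511146, .negSucc 1901976, .negSucc 3199637, .ofNat 3059133, .negSucc 999361, .ofNat 10237656,
  .ofNat 11656918, .ofNat 16720418, .negSucc 15693600, .negSucc 18677151, .negSucc 37543428,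
  .negSucc 56581524, .negSucc 87975679, .ofNat 84710626, .ofNat 119318784, .negSucc 124219016,
  .ofNat 267461271, .ofNat 67178034, .ofNat 350269920, .ofNat 348069645, .negSucc 488660885,
  .negSucc 707107400, .negSucc 749628242, .ofNat 1192564450, .ofNat 1062116055, .ofNat 631449819,
  .ofNat 1307779044, .ofNat 961268672, .negSucc 1667387369, .negSucc 1735627256, .ofNat 828158604,
  .negSucc 978052074, .negSucc 2423952530, .ofNat 1052416365, .negSucc 662332019, .negSucc 496624127,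
  .negSucc 2955201612, .negSucc 2845334777, .ofNat 3964722762, .ofNat 2050161750, .ofNat 3108998880,
  .ofNat 2525799276, .ofNat 632067072, .negSucc 1121764787, .ofNat 5058537561, .ofNat 4209665460,
  .ofNat 5507206848, .ofNat 9011981979, .ofNat 8725441725, .negSucc 9392827079, .negSucc 7935316388,
  .negSucc 9270317055, .negSucc 12201197567, .negSucc 8764026335, .negSucc 12226310018, .ofNat 17795697920,
  .ofNat 5765644962, .ofNat 4639055200, .ofNat 10449476037, .ofNat 19387175445, .ofNat 23053576546,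
  .ofNat 4512942434, .negSucc 23852507678, .negSucc 13527336899, .negSucc 26179925199, .ofNat 13540709898,
  .ofNat 4776683562, .ofNat 18712024695, .negSucc 27243380735, .negSucc 29247504649, .ofNat 19229635425,
  .ofNat 30727030698, .negSucc 40081850367, .ofNat 24946638848, .negSucc 26189162999, .negSucc 2370251519,
  .ofNat 25583910912, .ofNat 25760740797, .ofNat 35652533280, .ofNat 6332778375, .ofNat 37614440448,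
  .negSucc 13273408511, .ofNat 1926299648, .negSucc 45853716479, .negSucc 27211361099, .negSucc 46990500920,
  .negSucc 40103091170, .ofNat 37476692253, .ofNat 50414138775, .negSucc 53463253283, .negSucc 31693737074,
  .negSucc 53080904447, .negSucc 23837958143, .negSucc 53936390143, .negSucc 20035837457, .ofNat 56233132032,
  .negSucc 35811255479, .negSucc 37246809599, .ofNat 20161498500, .ofNat 0, .ofNat 48886437600,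
  .ofNat 81179770880, .ofNat 81708865875, .negSucc 86375888675, .ofNat 53556498216, .negSucc 58621399199,
  .negSucc 81059700644, .ofNat 27442039625, .negSucc 44982312374, .negSucc 9053043999, .negSucc 69439110740,
  .ofNat 66401039925, .ofNat 73329656400, .negSucc 13905475583, .negSucc 9480477005, .ofNat 113114736306,
  .ofNat 79348727808, .negSucc 1964187224, .negSucc 77275536974, .ofNat 83140200000, .ofNat 55902546700,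
  .negSucc 2036934899, .ofNat 33520660758, .ofNat 0, .negSucc 55454513399, .ofNat 44547766263,
  .ofNat 44547766263, .negSucc 39603834269, .ofNat 78802563555, .negSucc 33733182482, .ofNat 72104832800,
  .negSucc 66547633151, .negSucc 6685379063, .ofNat 77335057800, .negSucc 3299834537, .ofNat 85561476000,
  .negSucc 80453108735, .ofNat 29807296596, .negSucc 26072766719, .negSucc 14930776574, .negSucc 47910235022,
  .negSucc 119801020415, .negSucc 132532130015, .ofNat 68719476736, .negSucc 68719476735, .ofNat 35916566400,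
  .negSucc 99418091849, .negSucc 99702143540, .negSucc 17601206699, .negSucc 69442043903,
  .negSucc 105566975513, .ofNat 48243486720, .ofNat 68719476736, .negSucc 68719476735, .negSucc 25954353151,
  .ofNat 38975489280, .ofNat 27880652800, .ofNat 51828676900, .ofNat 102447537920, .ofNat 110174350,
  .ofNat 113163050, .negSucc 85135049, .ofNat 1722577428, .negSucc 1366661449, .negSucc 1453379199,
  .ofNat 171131875200, .negSucc 63124365149, .ofNat 55761305600]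

/-- the values at 2B -/
def col2 : List ℤ :=
  [.ofNat 1, .ofNat 275, .ofNat 2047, .ofNat 8878, .ofNat 37950, .ofNat 35627, .ofNat 134597, .ofNat 392426,
  .ofNat 419175, .ofNat 789866, .ofNat 1214653, .ofNat 1615934, .ofNat 1710808, .ofNat 2011350,
  .ofNat 1896994, .ofNat 2075359, .ofNat 3512928, .ofNat 6369275, .ofNat 3402091, .ofNat 10451200,
  .ofNat 15223010, .ofNat 16386304, .ofNat 27321975, .ofNat 22612887, .ofNat 36697650, .ofNat 41884128,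
  .ofNat 35578125, .ofNat 60806250, .ofNat 68232375, .ofNat 86858925, .ofNat 73514210, .ofNat 124444375,
  .ofNat 79710939, .ofNat 127638500, .ofNat 159742912, .ofNat 112521750, .ofNat 159891975, .ofNat 116354700,
  .ofNat 58095125, .ofNat 147359597, .ofNat 16787309, .ofNat 173026700, .ofNat 201383424, .ofNat 233687475,
  .ofNat 137113350, .ofNat 326079050, .ofNat 100532310, .ofNat 219199200, .ofNat 318843756,
  .negSucc 104688639, .ofNat 448945740, .ofNat 360257625, .ofNat 67149236, .ofNat 193076928,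
  .ofNat 383845275, .ofNat 522856125, .ofNat 700787000, .ofNat 800481627, .ofNat 645607424, .ofNat 596148224,
  .ofNat 322820640, .ofNat 868960125, .ofNat 1020243200, .ofNat 958293666, .ofNat 1096732000,
  .negSucc 3064634, .ofNat 785531925, .ofNat 788714850, .ofNat 788714850, .ofNat 1264723425,
  .ofNat 1290173500, .ofNat 628958000, .ofNat 507760650, .ofNat 830581290, .ofNat 1811117175,
  .ofNat 738918400, .ofNat 638485750, .ofNat 737526625, .ofNat 917620650, .ofNat 1526169600,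
  .ofNat 1526169600, .ofNat 1936087560, .negSucc 30788351, .ofNat 1335066624, .ofNat 930894525,
  .ofNat 2204423200, .ofNat 182634375, .ofNat 1426968576, .ofNat 457497600, .ofNat 2337865728,
  .ofNat 647680000, .ofNat 243512500, .ofNat 1438655175, .ofNat 1948003101, .ofNat 185277213,
  .ofNat 1216436375, .ofNat 1850939100, .ofNat 727786125, .ofNat 1653509376, .ofNat 2124390400,
  .ofNat 42205184, .ofNat 1778766318, .ofNat 1450803200, .ofNat 2097117000, .ofNat 2452032000,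
  .ofNat 2950106500, .ofNat 0, .ofNat 2348771040, .ofNat 2976972800, .ofNat 1059681875, .ofNat 2336120028,
  .ofNat 1777793832, .ofNat 400476000, .ofNat 2507830875, .ofNat 791415625, .ofNat 3511671625,
  .negSucc 1523059999, .ofNat 2486882475, .ofNat 739171125, .negSucc 1119413679, .negSucc 3151869951,
  .ofNat 1608131250, .ofNat 1608131250, .ofNat 946176000, .ofNat 2831038375, .ofNat 242888625,
  .negSucc 742807999, .ofNat 2264223500, .negSucc 1362784499, .ofNat 3556560150, .negSucc 3758096383,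
  .ofNat 2273205000, .ofNat 2227974903, .negSucc 1450757384, .ofNat 3552689250, .negSucc 1391428124,
  .negSucc 3172921874, .ofNat 2769844000, .negSucc 667110399, .negSucc 2628007415, .ofNat 195525000,
  .negSucc 466747049, .negSucc 140667999, .negSucc 104924159, .negSucc 752093099, .negSucc 338671871,
  .negSucc 2900613374, .negSucc 231058574, .ofNat 1915060224, .negSucc 22952159, .ofNat 0, .ofNat 0,
  .negSucc 2950991999, .ofNat 2130247350, .negSucc 1221239348, .negSucc 1435395499, .ofNat 671514624,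
  .negSucc 2004092441, .ofNat 1424896000, .ofNat 0, .ofNat 0, .negSucc 4244635647, .negSucc 4065811199,
  .negSucc 1906769919, .negSucc 461345499, .negSucc 2119532799, .ofNat 4996750, .ofNat 1790250,
  .negSucc 42557129, .negSucc 34674155, .ofNat 5293750, .negSucc 167439999, .ofNat 5260464000,
  .ofNat 2259353250, .ofNat 4145152000]

/-- the values at 2C -/
def col3 : List ℤ :=
  [.ofNat 1, .negSucc 52, .ofNat 103, .ofNat 782, .ofNat 3486, .negSucc 780, .negSucc 4810, .ofNat 1274,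
  .negSucc 1376, .ofNat 25194, .ofNat 22933, .negSucc 44641, .ofNat 48568, .negSucc 42041, .ofNat 87074,
  .ofNat 65807, .negSucc 134367, .negSucc 44148, .ofNat 162435, .ofNat 104960, .ofNat 108290, .ofNat 113152,
  .ofNat 165087, .ofNat 713727, .negSucc 189293, .ofNat 127008, .negSucc 244034, .negSucc 268565,
  .ofNat 373167, .negSucc 682226, .ofNat 1374450, .negSucc 946984, .negSucc 1137044, .ofNat 2169284,
  .ofNat 693056, .ofNat 123590, .ofNat 2311335, .ofNat 3075436, .ofNat 1071525, .negSucc 335698,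
  .ofNat 530621, .negSucc 463539, .ofNat 1584128, .negSucc 1916732, .negSucc 2228121, .negSucc 300117,
  .ofNat 696150, .ofNat 3612960, .ofNat 1689324, .ofNat 0, .negSucc 3993299, .negSucc 3005990, .ofNat 43316,
  .ofNat 2164032, .negSucc 1937948, .ofNat 1417325, .negSucc 256359, .negSucc 2436524, .negSucc 6823935,
  .ofNat 3411968, .ofNat 3740256, .ofNat 773109, .negSucc 304639, .ofNat 2955042, .ofNat 1944800,
  .ofNat 10233405, .ofNat 9700965, .negSucc 7515325, .ofNat 6345794, .ofNat 8024289, .negSucc 6747299,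
  .ofNat 5215600, .ofNat 8809722, .ofNat 12549978, .negSucc 8284184, .ofNat 9052160, .ofNat 3790150,
  .ofNat 7055425, .ofNat 4332042, .negSucc 5640191, .ofNat 12464128, .ofNat 6762600, .negSucc 16633343,
  .negSucc 5640191, .ofNat 13837797, .negSucc 1732639, .ofNat 8642375, .ofNat 11280384, .ofNat 22177792,
  .ofNat 0, .ofNat 9052160, .ofNat 11078900, .negSucc 23399360, .negSucc 16451018, .ofNat 17202861,
  .negSucc 16514224, .ofNat 17311644, .negSucc 18293274, .ofNat 9165312, .negSucc 18104319, .ofNat 0,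
  .ofNat 5262894, .ofNat 14692352, .negSucc 8230039, .ofNat 26956800, .negSucc 42144699, .ofNat 33554432,
  .negSucc 8663199, .negSucc 9052159, .negSucc 270724, .negSucc 2737475, .ofNat 13318344, .ofNat 5997600,
  .ofNat 1645515, .negSucc 37630774, .ofNat 7851025, .negSucc 8663199, .negSucc 24787580, .negSucc 3744674,
  .ofNat 21658000, .negSucc 22177791, .ofNat 14531634, .negSucc 15701165, .negSucc 3411967,
  .negSucc 14348424, .ofNat 30528225, .ofNat 3182400, .negSucc 18409299, .ofNat 42233100, .ofNat 18581238,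
  .ofNat 0, .ofNat 25857000, .ofNat 23683023, .ofNat 23683023, .ofNat 974610, .negSucc 10527164,
  .negSucc 1717442, .ofNat 7644000, .negSucc 22177791, .ofNat 7017192, .ofNat 1146600, .negSucc 15788681,
  .negSucc 16088799, .ofNat 0, .ofNat 14304276, .ofNat 16633344, .ofNat 38039625, .negSucc 13427126,
  .negSucc 3411967, .negSucc 7446815, .ofNat 16777216, .ofNat 16777216, .ofNat 30326400, .negSucc 7871849,
  .ofNat 6140043, .ofNat 8413300, .ofNat 5640192, .negSucc 23218649, .negSucc 9052159, .negSucc 16777215,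
  .negSucc 16777215, .ofNat 0, .negSucc 18869759, .ofNat 0, .negSucc 3248699, .negSucc 27722239,
  .negSucc 237249, .negSucc 458149, .negSucc 2579849, .ofNat 644436, .ofNat 2124150, .ofNat 2038400,
  .ofNat 30326400, .ofNat 16074450, .ofNat 0]

/-- the values at 2D -/
def col4 : List ℤ :=
  [.ofNat 1, .ofNat 19, .ofNat 255, .negSucc 337, .ofNat 2110, .negSucc 2004, .ofNat 1989, .ofNat 8938,
  .ofNat 3175, .negSucc 12949, .negSucc 32834, .ofNat 36926, .ofNat 69336, .negSucc 13609, .ofNat 90658,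
  .negSucc 27424, .ofNat 37472, .negSucc 2564, .negSucc 58260, .negSucc 75519, .ofNat 77026, .negSucc 71423,
  .ofNat 8055, .ofNat 469143, .negSucc 74189, .ofNat 467424, .negSucc 464114, .ofNat 211050, .ofNat 4023,
  .ofNat 320685, .ofNat 1637090, .ofNat 217815, .ofNat 759003, .ofNat 1804260, .ofNat 1043392, .ofNat 211990,
  .negSucc 825848, .ofNat 268940, .ofNat 661525, .negSucc 150674, .ofNat 1666413, .negSucc 868979,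
  .negSucc 352767, .ofNat 817075, .ofNat 1018630, .ofNat 472650, .ofNat 3011670, .ofNat 2653920,
  .negSucc 2469011, .ofNat 2659328, .ofNat 2789964, .negSucc 1931174, .ofNat 1160628, .ofNat 2895552,
  .negSucc 3875684, .ofNat 6670525, .negSucc 1815239, .ofNat 1028187, .ofNat 1060864, .negSucc 2064383,
  .negSucc 1490399, .negSucc 488834, .ofNat 2100480, .negSucc 3442013, .ofNat 5045600, .ofNat 8305605,
  .ofNat 9936405, .negSucc 3026589, .ofNat 9875810, .negSucc 2077214, .ofNat 7639100, .negSucc 1467599,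
  .ofNat 6156810, .ofNat 4666410, .negSucc 3659144, .negSucc 7667711, .negSucc 3677449, .ofNat 9974625,
  .ofNat 5236650, .ofNat 3112960, .ofNat 3112960, .negSucc 1069559, .negSucc 1370879, .negSucc 9732095,
  .ofNat 13775805, .ofNat 4492320, .ofNat 16336775, .negSucc 995327, .negSucc 12723199, .ofNat 65536,
  .ofNat 1167360, .negSucc 1633099, .ofNat 6108615, .negSucc 123362, .ofNat 12684573, .negSucc 15698024,
  .negSucc 8941859, .ofNat 11926925, .negSucc 7803647, .ofNat 1155072, .negSucc 1835007, .ofNat 11395566,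
  .ofNat 6389760, .ofNat 3359560, .negSucc 6796799, .ofNat 9178500, .ofNat 0, .negSucc 18532639,
  .ofNat 9502720, .negSucc 11978924, .ofNat 721116, .negSucc 5253335, .ofNat 8028000, .ofNat 4097115,
  .negSucc 5665974, .ofNat 2353225, .ofNat 23077600, .ofNat 7121835, .ofNat 9782325, .ofNat 6607440,
  .ofNat 13977600, .negSucc 659789, .negSucc 10981709, .negSucc 26378239, .ofNat 4580775, .ofNat 1775025,
  .ofNat 9832000, .ofNat 11141900, .ofNat 927500, .ofNat 6142230, .ofNat 0, .ofNat 769800, .negSucc 24638984,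
  .ofNat 17164791, .negSucc 5738909, .negSucc 14419484, .negSucc 8124434, .negSucc 1663199, .ofNat 9548800,
  .ofNat 8367624, .ofNat 6827400, .ofNat 23006550, .negSucc 6626399, .negSucc 5833727, .ofNat 10162260,
  .negSucc 15079679, .ofNat 10548225, .ofNat 11034225, .ofNat 2981888, .negSucc 6308063, .ofNat 0, .ofNat 0,
  .negSucc 10350719, .negSucc 2519369, .negSucc 9316916, .ofNat 9494100, .negSucc 22118399, .ofNat 9456102,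
  .negSucc 17879039, .ofNat 0, .ofNat 0, .ofNat 16777216, .negSucc 17038079, .negSucc 16711679,
  .ofNat 12996900, .negSucc 9560319, .negSucc 84849, .negSucc 270549, .ofNat 20790, .negSucc 2325995,
  .negSucc 1874249, .ofNat 291200, .ofNat 34992000, .negSucc 26790749, .ofNat 29491200]

/-- the values at 3A -/
def col5 : List ℤ :=
  [.ofNat 1, .ofNat 78, .ofNat 351, .ofNat 1000, .ofNat 2729, .ofNat 3003, .ofNat 8073, .ofNat 16224,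
  .ofNat 18227, .ofNat 25103, .ofNat 32670, .ofNat 37401, .ofNat 42471, .ofNat 58422, .ofNat 19734,
  .ofNat 52404, .ofNat 57135, .ofNat 129349, .negSucc 1000, .ofNat 169170, .ofNat 230230, .ofNat 243594,
  .ofNat 316953, .ofNat 208494, .ofNat 336699, .ofNat 360855, .ofNat 405405, .ofNat 560196, .ofNat 577368,
  .ofNat 725517, .ofNat 98175, .ofNat 837980, .negSucc 81080, .ofNat 467181, .ofNat 959322, .ofNat 803880,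
  .ofNat 852930, .ofNat 340704, .negSucc 114399, .ofNat 432432, .ofNat 432432, .ofNat 936495, .ofNat 962676,
  .ofNat 1067703, .negSucc 18017, .ofNat 1613898, .ofNat 447525, .ofNat 787995, .ofNat 1135134,
  .ofNat 123760, .ofNat 1213785, .ofNat 1876446, .ofNat 27027, .ofNat 208494, .ofNat 1482624, .ofNat 997425,
  .ofNat 2371005, .ofNat 2606175, .ofNat 1566488, .ofNat 1493856, .ofNat 1791153, .ofNat 2397681,
  .ofNat 2781570, .ofNat 2453814, .ofNat 2501850, .ofNat 0, .ofNat 360855, .negSucc 24023, .negSucc 24023,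
  .ofNat 1297296, .ofNat 1424500, .negSucc 722149, .ofNat 1791153, .negSucc 1791152, .ofNat 3046680,
  .ofNat 1235520, .ofNat 2340975, .negSucc 965249, .ofNat 85293, .ofNat 2400672, .ofNat 2400672,
  .ofNat 2606175, .ofNat 1046682, .ofNat 2729376, .ofNat 577368, .ofNat 1683045, .negSucc 848924,
  .ofNat 2152008, .ofNat 91728, .ofNat 1878240, .negSucc 165879, .negSucc 1651649, .ofNat 2368521,
  .negSucc 938222, .negSucc 938222, .ofNat 2702700, .ofNat 2729376, .negSucc 1286999, .negSucc 1876445,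
  .ofNat 2162160, .negSucc 267903, .ofNat 1791153, .ofNat 731808, .ofNat 2168595, .ofNat 1158300,
  .negSucc 386099, .negSucc 1441791, .ofNat 450450, .ofNat 3132480, .negSucc 2641274, .ofNat 577368,
  .ofNat 1791153, .ofNat 87075, .ofNat 360855, .negSucc 2327324, .ofNat 1726725, .ofNat 1651650,
  .negSucc 324323, .negSucc 2606174, .ofNat 2702700, .ofNat 4324320, .negSucc 208493, .negSucc 208493,
  .ofNat 812448, .ofNat 193050, .ofNat 3316950, .ofNat 600600, .ofNat 275275, .ofNat 275275,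
  .negSucc 1791152, .ofNat 4100096, .negSucc 2799224, .ofNat 0, .ofNat 0, .ofNat 1621620, .negSucc 852929,
  .ofNat 938223, .negSucc 1876874, .ofNat 32032, .ofNat 3667599, .ofNat 2606175, .negSucc 648647,
  .ofNat 965250, .ofNat 0, .negSucc 2237300, .negSucc 162161, .ofNat 0, .negSucc 1430297, .negSucc 1574495,
  .negSucc 938222, .negSucc 1114111, .negSucc 1114111, .ofNat 0, .ofNat 0, .ofNat 1876446, .negSucc 51974,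
  .negSucc 2729375, .ofNat 0, .negSucc 2007719, .negSucc 2555903, .negSucc 2555903, .ofNat 1896960,
  .ofNat 852930, .ofNat 3775200, .negSucc 1201199, .ofNat 1034670, .negSucc 21449, .negSucc 46199, .ofNat 0,
  .ofNat 0, .negSucc 300299, .ofNat 673400, .ofNat 0, .ofNat 0, .negSucc 4347199]

/-- the values at 3B -/
def col6 : List ℤ :=
  [.ofNat 1, .negSucc 2, .ofNat 27, .negSucc 52, .negSucc 24, .ofNat 6, .ofNat 135, .negSucc 218,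
  .negSucc 159, .ofNat 155, .ofNat 270, .ofNat 465, .ofNat 594, .ofNat 345, .ofNat 1023, .ofNat 1293,
  .ofNat 1488, .negSucc 1384, .ofNat 2887, .negSucc 119, .negSucc 1186, .negSucc 215, .ofNat 2025,
  .ofNat 2187, .negSucc 3419, .ofNat 0, .ofNat 810, .negSucc 404, .ofNat 0, .ofNat 1620, .negSucc 158,
  .ofNat 2465, .negSucc 2348, .ofNat 945, .ofNat 3036, .negSucc 2474, .ofNat 0, .negSucc 5894, .ofNat 5075,
  .negSucc 6101, .negSucc 6101, .negSucc 674, .negSucc 2519, .negSucc 2954, .ofNat 4500, .negSucc 9989,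
  .ofNat 12312, .negSucc 539, .ofNat 10287, .ofNat 13276, .ofNat 0, .ofNat 0, .negSucc 17846, .ofNat 8748,
  .ofNat 20250, .ofNat 23805, .ofNat 8640, .ofNat 10935, .negSucc 6207, .negSucc 1727, .ofNat 0,
  .negSucc 10934, .negSucc 8879, .ofNat 0, .ofNat 2190, .ofNat 26244, .ofNat 0, .ofNat 11535, .ofNat 11535,
  .ofNat 18630, .ofNat 26845, .ofNat 370, .ofNat 0, .ofNat 0, .negSucc 1754, .ofNat 1728, .ofNat 27210,
  .negSucc 39014, .ofNat 0, .negSucc 12479, .negSucc 12479, .negSucc 21869, .ofNat 12960, .ofNat 0, .ofNat 0,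
  .negSucc 539, .ofNat 30330, .ofNat 0, .ofNat 31140, .ofNat 4224, .negSucc 39519, .negSucc 6944, .ofNat 0,
  .ofNat 0, .ofNat 0, .ofNat 19575, .ofNat 0, .ofNat 11025, .ofNat 0, .negSucc 47519, .ofNat 63872, .ofNat 0,
  .negSucc 17279, .ofNat 39510, .ofNat 6480, .negSucc 24839, .ofNat 51200, .negSucc 33605, .negSucc 29759,
  .negSucc 30644, .ofNat 0, .ofNat 0, .ofNat 46980, .ofNat 0, .ofNat 18435, .negSucc 25304, .ofNat 70530,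
  .ofNat 8100, .ofNat 21870, .negSucc 13229, .negSucc 11447, .ofNat 10935, .ofNat 10935, .ofNat 11520,
  .negSucc 10664, .negSucc 25514, .negSucc 39299, .ofNat 53740, .ofNat 53740, .ofNat 0, .ofNat 35840,
  .negSucc 27809, .ofNat 0, .ofNat 0, .ofNat 39690, .ofNat 0, .ofNat 0, .ofNat 42420, .ofNat 8380, .ofNat 0,
  .ofNat 43740, .ofNat 16200, .ofNat 6210, .ofNat 26244, .ofNat 0, .negSucc 14903, .negSucc 32804, .ofNat 0,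
  .negSucc 27071, .ofNat 0, .negSucc 35839, .negSucc 35839, .ofNat 52488, .ofNat 6561, .ofNat 0,
  .negSucc 40634, .ofNat 0, .ofNat 0, .ofNat 30240, .ofNat 15360, .ofNat 15360, .negSucc 31487, .ofNat 0,
  .negSucc 27263, .negSucc 13739, .negSucc 20759, .negSucc 3629, .ofNat 1590, .negSucc 13121, .ofNat 0,
  .ofNat 9120, .ofNat 9200, .ofNat 0, .ofNat 0, .negSucc 18559]

/-- the values at 4A -/
def col7 : List ℤ :=
  [.ofNat 1, .negSucc 76, .ofNat 351, .negSucc 977, .ofNat 2750, .ofNat 2827, .negSucc 7546, .ofNat 14378,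
  .negSucc 18424, .negSucc 18325, .ofNat 17501, .negSucc 8129, .ofNat 45144, .ofNat 57750, .ofNat 24354,
  .negSucc 47200, .negSucc 60575, .negSucc 125124, .ofNat 4235, .negSucc 172799, .ofNat 195426,
  .ofNat 244992, .negSucc 202024, .ofNat 224631, .ofNat 89650, .ofNat 401632, .ofNat 395725, .negSucc 553749,
  .negSucc 628264, .negSucc 654674, .ofNat 210210, .ofNat 645975, .negSucc 68452, .ofNat 601700,
  .ofNat 667072, .negSucc 804649, .negSucc 896632, .ofNat 300300, .ofNat 103125, .negSucc 569106,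
  .ofNat 234157, .negSucc 438899, .negSucc 129535, .negSucc 1254924, .ofNat 9350, .ofNat 1781450,
  .ofNat 621270, .ofNat 1029600, .ofNat 1066604, .ofNat 21504, .negSucc 511027, .ofNat 1857625,
  .negSucc 246091, .ofNat 310464, .ofNat 1511675, .ofNat 1280125, .negSucc 2115399, .negSucc 2318084,
  .negSucc 2207743, .negSucc 1835007, .negSucc 1759967, .negSucc 2635874, .ofNat 3027200, .ofNat 1381666,
  .ofNat 604000, .negSucc 542618, .ofNat 877525, .negSucc 11549, .ofNat 974050, .negSucc 1638174,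
  .negSucc 2194499, .ofNat 638000, .ofNat 1672650, .negSucc 87317, .ofNat 2798775, .negSucc 1441791,
  .negSucc 1538249, .negSucc 1321374, .ofNat 315050, .negSucc 3276799, .ofNat 3276800, .negSucc 2918519,
  .ofNat 944384, .ofNat 3276800, .ofNat 1412125, .ofNat 3085600, .ofNat 298375, .ofNat 2207744,
  .ofNat 179200, .ofNat 0, .ofNat 1126400, .ofNat 2040500, .negSucc 1977624, .negSucc 84930,
  .negSucc 1563682, .ofNat 3224375, .negSucc 2980899, .ofNat 1566125, .ofNat 1134848, .negSucc 991231,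
  .ofNat 1835008, .negSucc 1522961, .ofNat 0, .negSucc 3372599, .negSucc 703999, .ofNat 346500, .ofNat 0,
  .ofNat 1268960, .ofNat 3276800, .negSucc 2722124, .negSucc 1592227, .ofNat 2636712, .ofNat 252000,
  .negSucc 2087524, .negSucc 1992374, .negSucc 2300374, .negSucc 307999, .negSucc 1942324, .negSucc 3328874,
  .negSucc 1250479, .ofNat 157696, .ofNat 1638450, .ofNat 371250, .ofNat 0, .negSucc 1241624,
  .negSucc 1551374, .negSucc 791999, .ofNat 1039500, .negSucc 192499, .ofNat 1113750, .ofNat 0,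
  .ofNat 2277000, .ofNat 639639, .negSucc 2376296, .ofNat 111650, .negSucc 2957724, .ofNat 2410925,
  .negSucc 2155999, .ofNat 1971200, .negSucc 580215, .ofNat 693000, .ofNat 1166550, .negSucc 1979999,
  .ofNat 2128896, .ofNat 1116500, .negSucc 2227455, .ofNat 1670625, .negSucc 1176174, .ofNat 0,
  .ofNat 3166240, .ofNat 0, .ofNat 0, .negSucc 2471039, .negSucc 1309769, .ofNat 423115, .negSucc 2579499,
  .ofNat 1441792, .ofNat 3735270, .negSucc 1126399, .ofNat 0, .ofNat 0, .ofNat 0, .negSucc 915199, .ofNat 0,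
  .ofNat 654500, .negSucc 492799, .negSucc 19249, .negSucc 57749, .ofNat 20790, .negSucc 282347,
  .ofNat 365750, .ofNat 112000, .ofNat 1584000, .ofNat 2945250, .ofNat 0]

/-- the values at 4B -/
def col8 : List ℤ :=
  [.ofNat 1, .ofNat 51, .ofNat 223, .ofNat 558, .ofNat 1214, .ofNat 1163, .ofNat 2437, .ofNat 4394,
  .ofNat 8327, .ofNat 3178, .negSucc 3874, .negSucc 8129, .ofNat 20056, .ofNat 22678, .ofNat 31522,
  .ofNat 11935, .ofNat 18272, .ofNat 32827, .ofNat 49931, .ofNat 77056, .ofNat 25954, .ofNat 52480,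
  .negSucc 16808, .ofNat 108279, .negSucc 74189, .ofNat 142560, .ofNat 131277, .ofNat 124650, .ofNat 169047,
  .ofNat 76461, .ofNat 344610, .ofNat 62807, .ofNat 69531, .ofNat 188516, .negSucc 92735, .ofNat 292822,
  .ofNat 255879, .negSucc 18675, .ofNat 117205, .ofNat 552685, .ofNat 31661, .negSucc 209523,
  .negSucc 252415, .ofNat 513779, .ofNat 522886, .ofNat 532682, .ofNat 122070, .ofNat 270816, .negSucc 44435,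
  .ofNat 21504, .negSucc 372275, .ofNat 280665, .ofNat 492212, .ofNat 660672, .ofNat 804987, .ofNat 623485,
  .ofNat 368312, .negSucc 197252, .ofNat 315392, .ofNat 917504, .ofNat 147744, .ofNat 282141, .ofNat 1147136,
  .negSucc 694493, .negSucc 819359, .ofNat 546021, .ofNat 1353429, .ofNat 1984738, .negSucc 226589,
  .ofNat 1207521, .negSucc 169539, .ofNat 2035760, .negSucc 89909, .ofNat 57834, .negSucc 593480,
  .ofNat 917504, .ofNat 818230, .ofNat 557665, .ofNat 1317546, .ofNat 1835008, .ofNat 0, .negSucc 84599,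
  .negSucc 231167, .ofNat 0, .ofNat 488349, .ofNat 698656, .ofNat 83335, .ofNat 995328, .negSucc 50175,
  .negSucc 1310719, .ofNat 2142208, .ofNat 965300, .ofNat 1165671, .ofNat 843453, .ofNat 1219293,
  .ofNat 1123255, .ofNat 976860, .ofNat 716845, .ofNat 1679616, .negSucc 925695, .ofNat 1835008,
  .negSucc 942353, .ofNat 917504, .negSucc 767031, .negSucc 744959, .negSucc 923259, .ofNat 0,
  .negSucc 92959, .ofNat 917504, .ofNat 2712115, .ofNat 1858140, .negSucc 141911, .ofNat 912480,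
  .ofNat 1019547, .ofNat 229705, .negSucc 1256534, .negSucc 92959, .ofNat 418635, .ofNat 1250325,
  .ofNat 1007440, .negSucc 71679, .negSucc 909773, .ofNat 2799666, .ofNat 917504, .negSucc 1424664,
  .ofNat 303345, .ofNat 1522240, .negSucc 447859, .negSucc 84979, .negSucc 1084265, .ofNat 0, .negSucc 19319,
  .negSucc 852200, .ofNat 454167, .negSucc 1751261, .ofNat 1419363, .ofNat 572589, .negSucc 256479,
  .ofNat 431104, .negSucc 476279, .negSucc 343799, .negSucc 349481, .ofNat 344480, .ofNat 359424,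
  .ofNat 146772, .negSucc 478463, .ofNat 236385, .negSucc 5102, .ofNat 917504, .ofNat 1868832, .ofNat 0,
  .ofNat 0, .ofNat 293760, .negSucc 342089, .ofNat 422091, .negSucc 339499, .ofNat 0, .ofNat 1182438,
  .negSucc 831487, .ofNat 0, .ofNat 0, .ofNat 0, .ofNat 186624, .negSucc 1310719, .negSucc 617819,
  .negSucc 120063, .ofNat 84430, .ofNat 40810, .ofNat 20790, .ofNat 224532, .ofNat 150710, .negSucc 31359,
  .ofNat 1399680, .negSucc 2296349, .negSucc 2621439]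

/-- the values at 4C -/
def col9 : List ℤ :=
  [.ofNat 1, .ofNat 19, .negSucc 0, .negSucc 81, .ofNat 318, .ofNat 43, .ofNat 197, .negSucc 533,
  .negSucc 152, .negSucc 405, .ofNat 1469, .negSucc 705, .ofNat 1240, .negSucc 1065, .ofNat 2850,
  .negSucc 1056, .ofNat 3680, .ofNat 2299, .ofNat 875, .negSucc 1791, .negSucc 29, .ofNat 2304,
  .negSucc 4232, .ofNat 6807, .ofNat 2866, .negSucc 2591, .negSucc 1522, .negSucc 5269, .negSucc 5192,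
  .ofNat 10157, .ofNat 11746, .negSucc 8232, .ofNat 27867, .ofNat 6628, .negSucc 3135, .negSucc 4841,
  .negSucc 10232, .ofNat 28812, .negSucc 15850, .negSucc 1938, .negSucc 1938, .ofNat 16268, .negSucc 8703,
  .ofNat 19635, .ofNat 32774, .ofNat 4938, .ofNat 2902, .ofNat 25312, .ofNat 25452, .ofNat 21504,
  .negSucc 16307, .negSucc 9638, .ofNat 20916, .ofNat 26304, .negSucc 3684, .negSucc 11330, .ofNat 6968,
  .ofNat 19803, .ofNat 28672, .ofNat 0, .negSucc 6623, .negSucc 26498, .negSucc 21247, .negSucc 15965,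
  .negSucc 2719, .ofNat 42693, .ofNat 10773, .negSucc 32157, .ofNat 21602, .negSucc 27166, .negSucc 9155,
  .negSucc 41167, .ofNat 44298, .ofNat 37674, .negSucc 28552, .ofNat 0, .ofNat 5110, .ofNat 5217,
  .ofNat 36522, .ofNat 0, .ofNat 0, .negSucc 26615, .ofNat 62720, .ofNat 0, .ofNat 67005, .negSucc 59359,
  .ofNat 25991, .ofNat 36864, .ofNat 7168, .ofNat 65536, .ofNat 36864, .ofNat 112308, .ofNat 53703,
  .ofNat 54045, .ofNat 31005, .negSucc 14440, .negSucc 39203, .ofNat 2957, .negSucc 62207, .ofNat 8192,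
  .ofNat 0, .negSucc 39185, .ofNat 0, .negSucc 17079, .negSucc 13823, .negSucc 53883, .ofNat 0, .ofNat 89824,
  .ofNat 0, .ofNat 14931, .negSucc 20771, .ofNat 59688, .negSucc 46239, .ofNat 32859, .ofNat 93513,
  .negSucc 35510, .negSucc 17695, .ofNat 124075, .ofNat 6453, .negSucc 22959, .negSucc 14335, .ofNat 24498,
  .negSucc 18509, .ofNat 0, .negSucc 51032, .negSucc 31310, .negSucc 104895, .negSucc 72435, .negSucc 25843,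
  .ofNat 20502, .ofNat 0, .negSucc 34551, .ofNat 36855, .ofNat 85239, .ofNat 90466, .negSucc 56348,
  .negSucc 60434, .negSucc 93407, .ofNat 29696, .negSucc 32759, .ofNat 24456, .ofNat 16982, .ofNat 11168,
  .ofNat 15360, .negSucc 12203, .ofNat 1792, .ofNat 50433, .ofNat 4977, .ofNat 0, .negSucc 50399, .ofNat 0,
  .ofNat 0, .ofNat 44928, .ofNat 12726, .negSucc 13364, .ofNat 53844, .ofNat 0, .ofNat 21222, .ofNat 28672,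
  .ofNat 0, .ofNat 0, .ofNat 0, .negSucc 6911, .ofNat 65536, .negSucc 9435, .ofNat 16128, .negSucc 6001,
  .ofNat 12586, .ofNat 10038, .negSucc 17387, .ofNat 14518, .ofNat 4480, .ofNat 44928, .negSucc 82781,
  .negSucc 131071]

/-- the values at 4D -/
def col10 : List ℤ :=
  [.ofNat 1, .negSucc 20, .ofNat 71, .negSucc 113, .ofNat 286, .ofNat 83, .negSucc 266, .ofNat 826,
  .negSucc 1088, .negSucc 405, .negSucc 586, .ofNat 414, .ofNat 2360, .ofNat 1414, .ofNat 4642, .ofNat 1743,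
  .negSucc 3039, .negSucc 1588, .negSucc 3548, .negSucc 4607, .ofNat 1666, .negSucc 511, .negSucc 1856,
  .ofNat 5727, .ofNat 1170, .ofNat 14112, .ofNat 1149, .negSucc 7829, .negSucc 3248, .ofNat 5901,
  .ofNat 28210, .ofNat 2391, .ofNat 12075, .ofNat 26692, .ofNat 1344, .ofNat 3206, .negSucc 12248,
  .negSucc 4115, .negSucc 2714, .negSucc 37330, .negSucc 18178, .ofNat 9548, .negSucc 11263, .negSucc 33788,
  .negSucc 23321, .ofNat 22826, .ofNat 3030, .ofNat 4128, .negSucc 4115, .ofNat 0, .ofNat 5292,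
  .negSucc 24614, .ofNat 9268, .ofNat 33600, .ofNat 6339, .ofNat 21805, .negSucc 5095, .ofNat 12915,
  .ofNat 0, .negSucc 28671, .ofNat 42336, .ofNat 16533, .ofNat 36352, .negSucc 20573, .ofNat 12000,
  .ofNat 6237, .ofNat 85797, .ofNat 53186, .ofNat 29890, .negSucc 55838, .negSucc 40739, .negSucc 36239,
  .negSucc 35909, .ofNat 6426, .negSucc 14552, .ofNat 8192, .ofNat 60550, .ofNat 42305, .ofNat 25866,
  .negSucc 36863, .negSucc 20479, .negSucc 9239, .negSucc 10751, .negSucc 36863, .ofNat 50373, .ofNat 57568,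
  .ofNat 58695, .ofNat 0, .negSucc 14335, .ofNat 0, .negSucc 65535, .ofNat 22260, .negSucc 23840,
  .negSucc 49706, .ofNat 32877, .negSucc 15504, .negSucc 39779, .ofNat 18565, .negSucc 78335, .ofNat 0,
  .ofNat 0, .ofNat 37422, .ofNat 45056, .ofNat 12264, .negSucc 46079, .ofNat 26180, .ofNat 0, .ofNat 28000,
  .negSucc 8191, .negSucc 23204, .negSucc 6083, .negSucc 66743, .ofNat 3360, .negSucc 58868, .negSucc 34614,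
  .ofNat 83825, .negSucc 79519, .negSucc 35804, .ofNat 42045, .negSucc 69999, .ofNat 14336, .negSucc 61517,
  .ofNat 31698, .ofNat 28672, .negSucc 32584, .ofNat 26145, .negSucc 48319, .ofNat 16940, .negSucc 13299,
  .negSucc 29321, .ofNat 0, .ofNat 15720, .ofNat 5103, .ofNat 5103, .ofNat 5586, .negSucc 75068,
  .negSucc 6146, .negSucc 16799, .ofNat 14336, .ofNat 25704, .negSucc 49559, .negSucc 34313, .ofNat 67360,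
  .ofNat 0, .ofNat 30996, .ofNat 96768, .negSucc 58454, .negSucc 18710, .ofNat 28672, .ofNat 2016, .ofNat 0,
  .ofNat 0, .ofNat 51840, .ofNat 111510, .ofNat 59787, .negSucc 94219, .ofNat 36864, .ofNat 5670,
  .negSucc 65535, .ofNat 0, .ofNat 0, .ofNat 0, .ofNat 50688, .ofNat 0, .negSucc 36539, .ofNat 10752,
  .ofNat 3710, .negSucc 3429, .ofNat 630, .ofNat 1620, .ofNat 27510, .negSucc 4479, .ofNat 51840,
  .negSucc 73709, .ofNat 0]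

/-- the values at 4E -/
def col11 : List ℤ :=
  [.ofNat 1, .ofNat 35, .ofNat 111, .ofNat 238, .ofNat 510, .ofNat 603, .ofNat 1317, .ofNat 2186,
  .ofNat 2295, .ofNat 3178, .ofNat 4173, .ofNat 4542, .ofNat 3480, .ofNat 5430, .ofNat 1058, .ofNat 3647,
  .ofNat 3808, .ofNat 10395, .ofNat 315, .ofNat 8960, .ofNat 16546, .ofNat 13056, .ofNat 21735, .ofNat 5319,
  .ofNat 25010, .ofNat 14688, .ofNat 18285, .ofNat 23850, .ofNat 17415, .ofNat 30765, .negSucc 1021,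
  .ofNat 34455, .ofNat 5691, .ofNat 6180, .ofNat 38080, .ofNat 18550, .ofNat 26055, .ofNat 6860,
  .negSucc 1034, .ofNat 1197, .ofNat 525, .ofNat 44940, .ofNat 43520, .ofNat 22995, .ofNat 9030,
  .ofNat 32010, .ofNat 3606, .ofNat 19040, .ofNat 38892, .ofNat 7168, .ofNat 47628, .ofNat 38745,
  .negSucc 3275, .negSucc 575, .ofNat 1035, .ofNat 13725, .ofNat 44280, .ofNat 45675, .ofNat 0, .ofNat 0,
  .ofNat 6048, .ofNat 41805, .ofNat 34560, .ofNat 64098, .ofNat 54880, .negSucc 1322, .ofNat 4725,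
  .ofNat 8610, .ofNat 8610, .ofNat 5985, .negSucc 1539, .negSucc 2639, .ofNat 9450, .ofNat 15498,
  .ofNat 49175, .ofNat 0, .negSucc 9449, .negSucc 1694, .negSucc 16469, .ofNat 0, .ofNat 0, .ofNat 51912,
  .negSucc 26879, .ofNat 0, .negSucc 28754, .negSucc 10079, .ofNat 11655, .ofNat 0, .negSucc 35839,
  .ofNat 65536, .ofNat 0, .ofNat 24500, .negSucc 19304, .negSucc 2834, .ofNat 12285, .negSucc 38744,
  .negSucc 8099, .ofNat 1245, .ofNat 34560, .ofNat 0, .ofNat 0, .ofNat 25326, .ofNat 0, .negSucc 1399,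
  .ofNat 7680, .negSucc 2939, .ofNat 0, .negSucc 1567, .ofNat 0, .ofNat 21315, .negSucc 23651, .negSucc 8855,
  .ofNat 8160, .negSucc 54404, .ofNat 32585, .negSucc 2694, .negSucc 12319, .negSucc 6404, .ofNat 15525,
  .negSucc 34607, .negSucc 43007, .negSucc 23309, .negSucc 23309, .ofNat 0, .negSucc 8504, .negSucc 62894,
  .negSucc 959, .ofNat 6860, .ofNat 140, .ofNat 16470, .ofNat 0, .ofNat 5320, .ofNat 27783, .ofNat 27783,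
  .ofNat 10050, .ofNat 52515, .ofNat 53325, .negSucc 10079, .ofNat 15360, .negSucc 28727, .negSucc 64439,
  .ofNat 57750, .negSucc 17759, .negSucc 27647, .ofNat 18900, .ofNat 5376, .ofNat 41265, .ofNat 16065,
  .ofNat 0, .ofNat 6048, .ofNat 0, .ofNat 0, .ofNat 40320, .negSucc 19529, .ofNat 3915, .negSucc 1259,
  .ofNat 0, .ofNat 21222, .ofNat 0, .ofNat 0, .ofNat 0, .ofNat 0, .ofNat 34560, .negSucc 65535, .ofNat 7140,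
  .negSucc 8959, .negSucc 209, .ofNat 1610, .ofNat 4662, .ofNat 6804, .ofNat 7350, .negSucc 13439,
  .negSucc 51839, .negSucc 28349, .ofNat 0]

/-- the values at 4F -/
def col12 : List ℤ :=
  [.ofNat 1, .negSucc 12, .ofNat 31, .ofNat 46, .ofNat 190, .negSucc 52, .negSucc 250, .negSucc 85,
  .negSucc 184, .ofNat 874, .ofNat 157, .negSucc 705, .ofNat 1368, .negSucc 489, .ofNat 1570, .ofNat 543,
  .negSucc 1695, .negSucc 324, .ofNat 203, .ofNat 1280, .ofNat 866, .ofNat 1280, .ofNat 1175, .ofNat 3127,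
  .negSucc 1229, .ofNat 2784, .negSucc 2994, .negSucc 789, .negSucc 1256, .negSucc 5714, .ofNat 7842,
  .negSucc 6824, .ofNat 2587, .ofNat 6500, .ofNat 2496, .ofNat 2390, .ofNat 7815, .ofNat 7180, .ofNat 10325,
  .ofNat 1261, .ofNat 4653, .ofNat 3980, .ofNat 5632, .negSucc 8844, .negSucc 11129, .negSucc 2869,
  .ofNat 13014, .ofNat 8160, .ofNat 3180, .ofNat 5120, .negSucc 12083, .negSucc 3494, .ofNat 11444,
  .ofNat 16576, .negSucc 11844, .ofNat 8445, .ofNat 10680, .negSucc 13252, .negSucc 12287, .ofNat 0,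
  .ofNat 1824, .ofNat 6365, .ofNat 6400, .ofNat 1314, .ofNat 4960, .ofNat 8613, .ofNat 16725, .negSucc 16669,
  .ofNat 14050, .ofNat 7905, .negSucc 19779, .ofNat 10800, .ofNat 11850, .ofNat 13674, .negSucc 14024,
  .ofNat 0, .ofNat 4790, .ofNat 3425, .negSucc 1109, .ofNat 0, .ofNat 0, .ofNat 4232, .negSucc 3839,
  .ofNat 0, .ofNat 12765, .negSucc 9439, .ofNat 14215, .ofNat 12288, .ofNat 15360, .ofNat 0, .negSucc 20479,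
  .negSucc 20299, .negSucc 13784, .negSucc 386, .ofNat 7005, .ofNat 2935, .ofNat 32220, .negSucc 18194,
  .ofNat 14592, .negSucc 8191, .ofNat 0, .negSucc 10769, .ofNat 0, .ofNat 5320, .ofNat 12800, .negSucc 1659,
  .ofNat 0, .negSucc 7967, .ofNat 0, .negSucc 16524, .negSucc 2723, .ofNat 10920, .negSucc 16799,
  .negSucc 10724, .ofNat 32585, .ofNat 35305, .negSucc 5919, .negSucc 18164, .ofNat 26965, .negSucc 18095,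
  .ofNat 10240, .ofNat 50, .negSucc 17869, .ofNat 0, .negSucc 13464, .negSucc 9614, .negSucc 3519,
  .negSucc 19059, .negSucc 10739, .ofNat 150, .ofNat 0, .negSucc 15479, .negSucc 18728, .ofNat 22743,
  .negSucc 8029, .ofNat 36195, .ofNat 3885, .negSucc 33759, .ofNat 5120, .ofNat 12936, .ofNat 3080,
  .negSucc 16169, .ofNat 11680, .ofNat 15360, .ofNat 13140, .negSucc 9471, .negSucc 33374, .ofNat 465,
  .ofNat 0, .ofNat 5664, .ofNat 0, .ofNat 0, .negSucc 31871, .negSucc 14153, .negSucc 14132, .negSucc 299,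
  .ofNat 0, .ofNat 28134, .ofNat 20480, .ofNat 0, .ofNat 0, .ofNat 0, .negSucc 3839, .ofNat 0, .ofNat 420,
  .negSucc 11519, .negSucc 3249, .ofNat 4330, .ofNat 10038, .negSucc 5867, .negSucc 15689, .negSucc 639,
  .ofNat 17280, .ofNat 47970, .ofNat 0]

/-- the values at 4G -/
def col13 : List ℤ :=
  [.ofNat 1, .ofNat 11, .ofNat 39, .ofNat 14, .ofNat 158, .negSucc 76, .ofNat 181, .ofNat 378, .ofNat 223,
  .negSucc 405, .negSucc 554, .ofNat 414, .ofNat 1208, .negSucc 185, .ofNat 1058, .negSucc 880, .ofNat 1312,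
  .ofNat 11, .negSucc 572, .ofNat 512, .ofNat 514, .ofNat 512, .ofNat 159, .ofNat 2239, .negSucc 877,
  .ofNat 3616, .negSucc 3522, .ofNat 3050, .ofNat 2287, .negSucc 242, .ofNat 2930, .negSucc 552, .negSucc 20,
  .ofNat 7876, .ofNat 5952, .negSucc 4537, .negSucc 3160, .ofNat 2668, .negSucc 1754, .ofNat 5037,
  .ofNat 317, .negSucc 4787, .negSucc 1023, .ofNat 5955, .negSucc 665, .ofNat 4778, .ofNat 6230, .ofNat 3872,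
  .negSucc 7955, .ofNat 0, .ofNat 6188, .negSucc 6694, .ofNat 1844, .ofNat 8512, .negSucc 4188, .ofNat 8685,
  .negSucc 3687, .ofNat 3731, .ofNat 8192, .ofNat 4096, .negSucc 6047, .negSucc 1738, .ofNat 512,
  .negSucc 2013, .ofNat 4320, .negSucc 386, .ofNat 10213, .negSucc 8125, .ofNat 4418, .ofNat 737,
  .ofNat 9820, .negSucc 4239, .ofNat 2682, .negSucc 3365, .negSucc 2456, .ofNat 8192, .negSucc 13369,
  .ofNat 2625, .ofNat 10, .negSucc 4095, .ofNat 12288, .negSucc 2199, .ofNat 14848, .negSucc 4095,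
  .ofNat 8101, .ofNat 8672, .negSucc 5304, .negSucc 8191, .ofNat 10240, .ofNat 0, .negSucc 8191, .ofNat 4340,
  .ofNat 11647, .ofNat 3445, .ofNat 8749, .negSucc 3184, .ofNat 4508, .ofNat 805, .ofNat 512, .ofNat 16384,
  .ofNat 0, .ofNat 558, .ofNat 12288, .ofNat 1128, .negSucc 15359, .negSucc 1979, .ofNat 0, .negSucc 5279,
  .negSucc 8191, .negSucc 964, .ofNat 1468, .ofNat 3528, .ofNat 9760, .negSucc 1972, .negSucc 9014,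
  .negSucc 3374, .negSucc 15519, .negSucc 316, .negSucc 994, .negSucc 7279, .negSucc 10239, .ofNat 13106,
  .negSucc 14253, .negSucc 4095, .ofNat 8695, .negSucc 1694, .negSucc 2239, .ofNat 940, .ofNat 780,
  .ofNat 4086, .ofNat 0, .negSucc 279, .negSucc 15344, .negSucc 6128, .negSucc 7021, .ofNat 8003,
  .ofNat 5309, .ofNat 2400, .negSucc 10239, .negSucc 6679, .ofNat 3560, .negSucc 1417, .ofNat 3360, .ofNat 0,
  .negSucc 8683, .negSucc 6655, .negSucc 2294, .ofNat 2953, .negSucc 4095, .ofNat 8416, .ofNat 0, .ofNat 0,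
  .ofNat 5760, .negSucc 15209, .ofNat 10891, .negSucc 139, .ofNat 4096, .negSucc 3545, .ofNat 8192, .ofNat 0,
  .ofNat 0, .ofNat 0, .ofNat 14848, .ofNat 0, .negSucc 9019, .ofNat 5632, .negSucc 1089, .ofNat 730,
  .ofNat 630, .ofNat 3924, .negSucc 649, .ofNat 640, .ofNat 5760, .negSucc 1709, .ofNat 0]

/-- the values at 4H -/
def col14 : List ℤ :=
  [.ofNat 1, .ofNat 3, .ofNat 15, .negSucc 17, .negSucc 1, .negSucc 4, .negSucc 26, .negSucc 53, .ofNat 87,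
  .negSucc 21, .ofNat 45, .ofNat 62, .ofNat 280, .negSucc 9, .ofNat 418, .negSucc 0, .negSucc 31,
  .negSucc 36, .ofNat 27, .negSucc 255, .negSucc 93, .negSucc 255, .ofNat 7, .negSucc 152, .ofNat 50,
  .ofNat 96, .ofNat 301, .ofNat 42, .negSucc 152, .negSucc 82, .ofNat 578, .negSucc 360, .negSucc 1156,
  .ofNat 1188, .negSucc 319, .ofNat 310, .ofNat 327, .negSucc 691, .ofNat 821, .negSucc 82, .negSucc 690,
  .ofNat 140, .ofNat 512, .ofNat 1299, .ofNat 70, .negSucc 245, .ofNat 278, .ofNat 352, .negSucc 787,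
  .negSucc 1023, .ofNat 396, .ofNat 1113, .ofNat 52, .ofNat 960, .negSucc 1876, .ofNat 1117, .negSucc 1415,
  .ofNat 459, .ofNat 0, .ofNat 0, .ofNat 672, .negSucc 1874, .ofNat 768, .ofNat 354, .ofNat 96, .ofNat 309,
  .negSucc 74, .ofNat 1186, .ofNat 1954, .negSucc 1950, .ofNat 1660, .ofNat 688, .negSucc 1109, .negSucc 437,
  .negSucc 1064, .ofNat 0, .ofNat 1622, .ofNat 1761, .ofNat 42, .ofNat 0, .ofNat 0, .ofNat 72, .ofNat 768,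
  .ofNat 0, .ofNat 3789, .negSucc 1631, .ofNat 5767, .ofNat 0, .negSucc 3071, .ofNat 0, .ofNat 0,
  .negSucc 1355, .negSucc 776, .negSucc 818, .ofNat 2109, .negSucc 888, .negSucc 1187, .ofNat 317,
  .ofNat 768, .ofNat 0, .ofNat 0, .negSucc 401, .ofNat 0, .ofNat 1800, .ofNat 1536, .ofNat 1156, .ofNat 0,
  .negSucc 31, .ofNat 0, .ofNat 483, .negSucc 1763, .negSucc 23, .ofNat 224, .ofNat 1851, .ofNat 1609,
  .ofNat 2201, .ofNat 2528, .ofNat 475, .negSucc 2234, .ofNat 1488, .negSucc 2047, .ofNat 3570, .ofNat 3570,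
  .ofNat 0, .negSucc 1272, .ofNat 1809, .negSucc 1983, .ofNat 76, .negSucc 1651, .negSucc 425, .ofNat 0,
  .ofNat 1096, .ofNat 2151, .negSucc 3608, .negSucc 1021, .negSucc 92, .ofNat 2445, .negSucc 3167,
  .negSucc 1023, .ofNat 840, .ofNat 456, .negSucc 873, .ofNat 160, .negSucc 3071, .ofNat 1236, .negSucc 1791,
  .negSucc 1454, .ofNat 417, .ofNat 0, .ofNat 2208, .ofNat 0, .ofNat 0, .ofNat 384, .negSucc 3017,
  .ofNat 843, .ofNat 2452, .ofNat 0, .negSucc 2969, .ofNat 0, .ofNat 0, .ofNat 0, .ofNat 0, .ofNat 768,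
  .ofNat 0, .ofNat 868, .ofNat 256, .ofNat 1006, .negSucc 245, .negSucc 713, .ofNat 2196, .ofNat 1974,
  .ofNat 1920, .negSucc 5759, .ofNat 1026, .ofNat 0]

/-- the values at 4I -/
def col15 : List ℤ :=
  [.ofNat 1, .negSucc 0, .negSucc 0, .negSucc 25, .negSucc 25, .ofNat 27, .ofNat 1, .ofNat 78, .ofNat 27,
  .ofNat 26, .negSucc 26, .negSucc 77, .ofNat 0, .negSucc 77, .ofNat 26, .negSucc 52, .ofNat 0, .negSucc 0,
  .negSucc 272, .ofNat 0, .ofNat 26, .ofNat 0, .negSucc 272, .ofNat 651, .ofNat 326, .ofNat 0, .ofNat 25,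
  .ofNat 246, .ofNat 351, .negSucc 246, .ofNat 350, .negSucc 324, .negSucc 324, .ofNat 676, .ofNat 0,
  .negSucc 349, .ofNat 351, .ofNat 676, .ofNat 325, .negSucc 246, .negSucc 350, .ofNat 300, .ofNat 0,
  .negSucc 376, .ofNat 598, .negSucc 701, .ofNat 650, .ofNat 0, .negSucc 675, .ofNat 1248, .ofNat 324,
  .ofNat 729, .negSucc 675, .ofNat 0, .ofNat 351, .negSucc 974, .ofNat 0, .negSucc 272, .ofNat 0,
  .negSucc 1727, .ofNat 0, .negSucc 50, .ofNat 0, .negSucc 377, .ofNat 0, .negSucc 350, .negSucc 674,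
  .ofNat 1274, .ofNat 26, .negSucc 350, .ofNat 300, .ofNat 0, .negSucc 377, .negSucc 377, .ofNat 975,
  .ofNat 0, .ofNat 650, .ofNat 325, .ofNat 702, .ofNat 1728, .negSucc 1727, .ofNat 0, .ofNat 0, .ofNat 1728,
  .negSucc 26, .ofNat 0, .negSucc 24, .ofNat 0, .negSucc 1247, .ofNat 0, .ofNat 0, .ofNat 300, .ofNat 351,
  .negSucc 350, .ofNat 1053, .negSucc 324, .ofNat 324, .negSucc 974, .ofNat 0, .ofNat 0, .ofNat 0,
  .ofNat 702, .ofNat 1728, .ofNat 0, .ofNat 0, .negSucc 1299, .ofNat 0, .ofNat 0, .ofNat 0, .negSucc 324,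
  .negSucc 323, .ofNat 0, .ofNat 0, .ofNat 675, .negSucc 974, .negSucc 974, .ofNat 0, .ofNat 351,
  .negSucc 674, .ofNat 0, .ofNat 0, .ofNat 1326, .negSucc 1325, .negSucc 1727, .negSucc 324, .negSucc 974,
  .ofNat 0, .ofNat 1300, .negSucc 1299, .ofNat 702, .ofNat 0, .ofNat 0, .ofNat 351, .ofNat 351, .negSucc 649,
  .ofNat 675, .ofNat 1053, .ofNat 0, .negSucc 1247, .ofNat 0, .ofNat 0, .negSucc 2001, .ofNat 0, .ofNat 1248,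
  .ofNat 324, .ofNat 0, .negSucc 974, .negSucc 26, .negSucc 1727, .ofNat 0, .ofNat 4096, .negSucc 4095,
  .ofNat 0, .ofNat 1650, .negSucc 1052, .ofNat 300, .ofNat 1728, .ofNat 702, .ofNat 0, .negSucc 4095,
  .ofNat 4096, .ofNat 0, .ofNat 0, .ofNat 0, .ofNat 1300, .ofNat 0, .negSucc 649, .ofNat 650, .ofNat 1950,
  .negSucc 1403, .negSucc 1249, .ofNat 0, .ofNat 0, .negSucc 1349, .ofNat 0]

/-- the values at 4J -/
def col16 : List ℤ :=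
  [.ofNat 1, .negSucc 4, .negSucc 8, .ofNat 14, .ofNat 30, .ofNat 3, .ofNat 21, .ofNat 26, .ofNat 15,
  .negSucc 85, .ofNat 69, .negSucc 33, .ofNat 120, .negSucc 89, .ofNat 98, .ofNat 111, .negSucc 95,
  .negSucc 84, .ofNat 435, .ofNat 0, .negSucc 253, .ofNat 0, .ofNat 175, .ofNat 15, .ofNat 210, .negSucc 95,
  .ofNat 285, .negSucc 149, .negSucc 224, .ofNat 205, .ofNat 402, .ofNat 215, .negSucc 628, .ofNat 260,
  .ofNat 64, .negSucc 89, .ofNat 615, .ofNat 940, .ofNat 965, .ofNat 301, .negSucc 1058, .negSucc 819,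
  .ofNat 0, .negSucc 284, .negSucc 409, .negSucc 469, .negSucc 553, .ofNat 160, .negSucc 147, .ofNat 2048,
  .negSucc 275, .ofNat 345, .negSucc 75, .ofNat 64, .ofNat 115, .negSucc 434, .ofNat 600, .ofNat 195,
  .ofNat 0, .ofNat 0, .negSucc 1055, .ofNat 1125, .ofNat 0, .negSucc 605, .ofNat 480, .ofNat 1837,
  .ofNat 645, .negSucc 1469, .ofNat 450, .negSucc 414, .negSucc 99, .negSucc 1039, .ofNat 2010, .ofNat 954,
  .negSucc 184, .ofNat 0, .negSucc 1689, .ofNat 1025, .ofNat 330, .ofNat 0, .ofNat 0, .negSucc 983, .ofNat 0,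
  .ofNat 0, .negSucc 74, .ofNat 1120, .ofNat 455, .ofNat 0, .ofNat 0, .ofNat 0, .ofNat 0, .ofNat 2420,
  .negSucc 464, .negSucc 794, .negSucc 434, .negSucc 384, .ofNat 540, .ofNat 85, .ofNat 0, .ofNat 0,
  .ofNat 0, .ofNat 1902, .ofNat 0, .ofNat 680, .ofNat 0, .negSucc 1979, .ofNat 0, .ofNat 1632, .ofNat 0,
  .ofNat 1675, .ofNat 1404, .negSucc 1271, .ofNat 160, .ofNat 555, .ofNat 1865, .negSucc 1694, .ofNat 1120,
  .negSucc 844, .ofNat 365, .ofNat 16, .ofNat 2048, .negSucc 589, .negSucc 1709, .ofNat 0, .negSucc 744,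
  .ofNat 705, .ofNat 320, .ofNat 620, .ofNat 1420, .ofNat 630, .ofNat 0, .ofNat 680, .ofNat 639,
  .negSucc 4160, .negSucc 269, .ofNat 1155, .negSucc 674, .negSucc 799, .ofNat 0, .ofNat 936, .ofNat 680,
  .ofNat 630, .ofNat 2080, .negSucc 2047, .ofNat 660, .ofNat 0, .ofNat 665, .negSucc 134, .ofNat 0,
  .ofNat 864, .ofNat 0, .ofNat 0, .negSucc 1919, .ofNat 1494, .negSucc 884, .negSucc 1099, .ofNat 0,
  .negSucc 1433, .ofNat 0, .ofNat 0, .ofNat 0, .ofNat 0, .ofNat 0, .ofNat 0, .negSucc 379, .ofNat 0,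
  .ofNat 30, .negSucc 709, .ofNat 502, .ofNat 852, .negSucc 1289, .negSucc 1919, .negSucc 1919, .ofNat 690,
  .ofNat 0]

/-- the values at 5A -/
def col17 : List ℤ :=
  [.ofNat 1, .ofNat 21, .ofNat 55, .ofNat 99, .ofNat 175, .ofNat 210, .ofNat 385, .ofNat 539, .ofNat 650,
  .ofNat 615, .ofNat 616, .ofNat 595, .ofNat 770, .ofNat 1275, .ofNat 99, .ofNat 715, .ofNat 694,
  .ofNat 1925, .negSucc 153, .ofNat 1750, .ofNat 2255, .ofNat 2190, .ofNat 2100, .ofNat 1155, .ofNat 1925,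
  .ofNat 2156, .ofNat 2750, .ofNat 3200, .ofNat 2441, .ofNat 3025, .ofNat 0, .ofNat 2750, .negSucc 923,
  .ofNat 825, .ofNat 2310, .ofNat 2750, .ofNat 2795, .ofNat 175, .ofNat 0, .ofNat 385, .ofNat 385,
  .ofNat 1750, .ofNat 1540, .ofNat 2100, .negSucc 1099, .ofNat 3850, .ofNat 0, .ofNat 1750, .ofNat 2079,
  .negSucc 979, .ofNat 595, .ofNat 3200, .negSucc 384, .negSucc 329, .ofNat 1925, .ofNat 0, .ofNat 2750,
  .ofNat 1980, .ofNat 2310, .ofNat 1365, .ofNat 1254, .ofNat 825, .ofNat 1750, .ofNat 385, .ofNat 0,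
  .negSucc 944, .negSucc 1749, .negSucc 1924, .negSucc 1924, .negSucc 174, .ofNat 0, .ofNat 0, .negSucc 1274,
  .negSucc 20, .negSucc 1749, .negSucc 769, .ofNat 0, .ofNat 0, .ofNat 1100, .ofNat 1275, .ofNat 1275,
  .ofNat 0, .ofNat 1330, .ofNat 595, .ofNat 1100, .ofNat 1750, .ofNat 0, .ofNat 890, .ofNat 2100,
  .negSucc 2079, .negSucc 2749, .ofNat 0, .negSucc 174, .negSucc 384, .negSucc 384, .ofNat 0, .negSucc 1924,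
  .ofNat 0, .negSucc 3289, .negSucc 2419, .negSucc 615, .negSucc 2309, .negSucc 3024, .negSucc 2749,
  .ofNat 0, .ofNat 0, .ofNat 2816, .ofNat 0, .negSucc 1749, .ofNat 0, .negSucc 384, .ofNat 210, .ofNat 0,
  .ofNat 2750, .ofNat 0, .ofNat 0, .ofNat 0, .negSucc 1924, .ofNat 0, .ofNat 0, .ofNat 616, .ofNat 825,
  .ofNat 825, .negSucc 4024, .ofNat 0, .ofNat 0, .ofNat 0, .ofNat 0, .ofNat 0, .negSucc 2099, .negSucc 3135,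
  .ofNat 0, .negSucc 2078, .negSucc 2078, .negSucc 2749, .negSucc 2749, .negSucc 4024, .ofNat 0,
  .negSucc 1099, .ofNat 440, .ofNat 0, .negSucc 3849, .ofNat 0, .ofNat 1980, .ofNat 1925, .negSucc 769,
  .ofNat 0, .ofNat 650, .ofNat 2695, .negSucc 483, .ofNat 384, .ofNat 384, .ofNat 0, .ofNat 0, .negSucc 2694,
  .ofNat 0, .ofNat 2465, .negSucc 1979, .ofNat 2750, .ofNat 3200, .ofNat 3200, .ofNat 2080, .negSucc 1749,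
  .ofNat 0, .ofNat 0, .ofNat 1750, .ofNat 0, .ofNat 0, .ofNat 0, .negSucc 1187, .ofNat 0, .ofNat 0, .ofNat 0,
  .ofNat 0, .ofNat 0]

/-- the values at 5B -/
def col18 : List ℤ :=
  [.ofNat 1, .negSucc 3, .ofNat 5, .negSucc 0, .ofNat 0, .ofNat 10, .negSucc 14, .negSucc 10, .ofNat 0,
  .ofNat 15, .negSucc 8, .ofNat 45, .ofNat 20, .ofNat 0, .negSucc 25, .negSucc 34, .ofNat 19, .ofNat 0,
  .negSucc 3, .ofNat 0, .negSucc 94, .ofNat 140, .ofNat 0, .ofNat 80, .ofNat 0, .negSucc 68, .ofNat 0,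
  .ofNat 0, .negSucc 83, .ofNat 0, .ofNat 250, .ofNat 0, .ofNat 301, .ofNat 0, .negSucc 64, .ofNat 0,
  .ofNat 120, .ofNat 0, .ofNat 0, .ofNat 85, .ofNat 85, .ofNat 0, .negSucc 59, .ofNat 0, .ofNat 0, .ofNat 0,
  .ofNat 125, .ofNat 0, .negSucc 45, .ofNat 70, .ofNat 195, .ofNat 0, .negSucc 284, .negSucc 304, .ofNat 0,
  .ofNat 0, .ofNat 0, .ofNat 180, .negSucc 339, .negSucc 159, .negSucc 320, .ofNat 0, .ofNat 0, .ofNat 135,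
  .ofNat 0, .ofNat 230, .ofNat 0, .ofNat 0, .ofNat 0, .ofNat 0, .ofNat 0, .ofNat 0, .ofNat 0, .negSucc 320,
  .ofNat 0, .ofNat 280, .ofNat 0, .ofNat 0, .ofNat 0, .ofNat 0, .ofNat 0, .ofNat 225, .ofNat 480, .ofNat 120,
  .ofNat 0, .ofNat 0, .ofNat 0, .negSucc 59, .ofNat 0, .negSucc 579, .ofNat 0, .ofNat 0, .ofNat 0,
  .negSucc 59, .negSucc 59, .ofNat 0, .ofNat 0, .ofNat 0, .negSucc 539, .ofNat 180, .ofNat 584, .negSucc 209,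
  .ofNat 0, .ofNat 0, .ofNat 0, .ofNat 0, .negSucc 383, .negSucc 249, .ofNat 0, .ofNat 0, .ofNat 15,
  .ofNat 210, .ofNat 0, .ofNat 0, .ofNat 0, .ofNat 0, .ofNat 0, .ofNat 0, .ofNat 0, .negSucc 374, .ofNat 66,
  .ofNat 0, .ofNat 0, .ofNat 0, .ofNat 0, .ofNat 0, .ofNat 0, .ofNat 0, .ofNat 0, .ofNat 0, .ofNat 864,
  .ofNat 0, .ofNat 471, .ofNat 471, .ofNat 0, .ofNat 0, .ofNat 0, .ofNat 0, .ofNat 0, .negSucc 134, .ofNat 0,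
  .ofNat 0, .ofNat 0, .negSucc 69, .ofNat 0, .ofNat 280, .ofNat 0, .ofNat 0, .ofNat 520, .negSucc 8,
  .ofNat 384, .ofNat 384, .negSucc 499, .negSucc 124, .negSucc 419, .ofNat 0, .ofNat 240, .negSucc 554,
  .ofNat 0, .ofNat 0, .ofNat 0, .ofNat 80, .ofNat 0, .negSucc 499, .ofNat 0, .ofNat 0, .ofNat 0, .ofNat 0,
  .ofNat 250, .ofNat 762, .ofNat 0, .ofNat 0, .ofNat 0, .ofNat 0, .ofNat 0]

/-- the values at 6A -/
def col19 : List ℤ :=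
  [.ofNat 1, .negSucc 33, .ofNat 111, .negSucc 231, .ofNat 505, .ofNat 539, .negSucc 1142, .ofNat 1792,
  .negSucc 2364, .negSucc 2000, .ofNat 1518, .negSucc 550, .ofNat 3927, .ofNat 5446, .ofNat 2486,
  .negSucc 3387, .negSucc 4464, .negSucc 9162, .negSucc 2232, .negSucc 10813, .ofNat 12166, .ofNat 12858,
  .negSucc 10646, .ofNat 8910, .ofNat 4059, .ofNat 18711, .ofNat 18909, .negSucc 24011, .negSucc 21383,
  .negSucc 24002, .ofNat 11935, .ofNat 24156, .ofNat 7623, .ofNat 14685, .ofNat 18074, .negSucc 24023,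
  .negSucc 29645, .ofNat 11760, .negSucc 8799, .negSucc 22175, .ofNat 3696, .negSucc 9680, .negSucc 5675,
  .negSucc 36168, .negSucc 21713, .ofNat 48378, .negSucc 1034, .ofNat 18459, .ofNat 26334, .negSucc 4367,
  .negSucc 10934, .ofNat 37422, .ofNat 8547, .ofNat 8910, .ofNat 26928, .ofNat 31185, .negSucc 48530,
  .negSucc 31184, .negSucc 22791, .negSucc 28895, .negSucc 5102, .negSucc 40094, .ofNat 57266, .ofNat 16038,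
  .ofNat 13210, .ofNat 0, .ofNat 18711, .ofNat 59752, .negSucc 19095, .negSucc 55439, .negSucc 4619,
  .negSucc 45429, .negSucc 5102, .ofNat 5103, .ofNat 24696, .negSucc 6335, .negSucc 18304, .ofNat 27390,
  .ofNat 26973, .negSucc 32415, .ofNat 10592, .negSucc 31184, .negSucc 12725, .ofNat 7776, .negSucc 21383,
  .ofNat 34629, .negSucc 35804, .ofNat 29160, .ofNat 3024, .ofNat 5600, .negSucc 15575, .negSucc 43889,
  .negSucc 10934, .negSucc 40094, .ofNat 2673, .negSucc 13859, .ofNat 7776, .negSucc 48839, .negSucc 37421,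
  .negSucc 11087, .negSucc 11647, .negSucc 5102, .ofNat 7392, .ofNat 34419, .ofNat 1980, .ofNat 1980,
  .ofNat 0, .ofNat 6930, .ofNat 17984, .ofNat 70245, .negSucc 21383, .negSucc 5102, .ofNat 7875,
  .ofNat 18711, .ofNat 50435, .negSucc 28874, .ofNat 37730, .ofNat 19404, .ofNat 31185, .negSucc 13859,
  .ofNat 7392, .negSucc 8909, .negSucc 8909, .negSucc 14111, .ofNat 34650, .ofNat 51030, .negSucc 27719,
  .negSucc 20404, .ofNat 10395, .ofNat 5103, .ofNat 0, .negSucc 58904, .ofNat 0, .ofNat 0, .negSucc 19403,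
  .ofNat 29646, .negSucc 2672, .ofNat 57365, .negSucc 7391, .ofNat 5103, .negSucc 31184, .negSucc 16631,
  .negSucc 27389, .ofNat 0, .negSucc 56132, .ofNat 26334, .ofNat 0, .ofNat 51030, .ofNat 7392, .ofNat 2673,
  .negSucc 32767, .ofNat 32768, .ofNat 0, .ofNat 0, .ofNat 37422, .ofNat 95865, .negSucc 7775, .ofNat 0,
  .ofNat 39864, .negSucc 32767, .ofNat 32768, .ofNat 17920, .negSucc 29645, .negSucc 12319, .negSucc 30799,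
  .negSucc 58113, .ofNat 3190, .ofNat 3080, .ofNat 0, .ofNat 0, .negSucc 16939, .ofNat 8120, .ofNat 0,
  .ofNat 0, .negSucc 24639]

/-- the values at 6B -/
def col20 : List ℤ :=
  [.ofNat 1, .ofNat 20, .ofNat 57, .ofNat 92, .ofNat 181, .ofNat 161, .ofNat 315, .ofNat 334, .ofNat 713,
  .negSucc 56, .negSucc 371, .negSucc 550, .ofNat 1227, .ofNat 1288, .ofNat 470, .ofNat 446, .ofNat 881,
  .ofNat 1691, .negSucc 846, .ofNat 2470, .ofNat 826, .ofNat 2598, .negSucc 1196, .ofNat 2106, .negSucc 3500,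
  .ofNat 3645, .ofNat 2655, .ofNat 3204, .ofNat 5832, .ofNat 1377, .ofNat 1225, .negSucc 1979, .negSucc 1826,
  .ofNat 3669, .negSucc 825, .ofNat 3570, .ofNat 2430, .negSucc 2855, .negSucc 2049, .ofNat 3780,
  .negSucc 1973, .negSucc 5144, .negSucc 5675, .ofNat 8057, .negSucc 3317, .ofNat 8742, .ofNat 6525,
  .ofNat 4905, .negSucc 881, .ofNat 3696, .negSucc 6074, .ofNat 5346, .negSucc 7328, .ofNat 2106,
  .ofNat 6084, .ofNat 5175, .negSucc 3494, .ofNat 2025, .ofNat 7448, .ofNat 7392, .ofNat 5103, .ofNat 4131,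
  .ofNat 4670, .negSucc 11177, .negSucc 10549, .ofNat 0, .ofNat 3645, .negSucc 7783, .ofNat 8624,
  .negSucc 5543, .ofNat 4200, .negSucc 7449, .ofNat 5103, .negSucc 5102, .negSucc 629, .ofNat 10368,
  .negSucc 5074, .negSucc 2849, .negSucc 7046, .ofNat 12512, .ofNat 2528, .negSucc 2024, .negSucc 11969,
  .ofNat 7776, .ofNat 5832, .ofNat 3255, .negSucc 524, .negSucc 1943, .negSucc 4031, .negSucc 12543,
  .negSucc 4919, .negSucc 7349, .negSucc 4130, .negSucc 4130, .negSucc 9476, .ofNat 15750, .ofNat 7776,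
  .ofNat 300, .negSucc 5345, .negSucc 2447, .negSucc 11647, .negSucc 5102, .negSucc 1247, .ofNat 10155,
  .negSucc 4499, .negSucc 10799, .ofNat 0, .negSucc 3149, .ofNat 1280, .negSucc 11024, .ofNat 5832,
  .negSucc 5102, .negSucc 4274, .ofNat 3645, .ofNat 5075, .negSucc 9974, .ofNat 2450, .ofNat 6174,
  .ofNat 2025, .negSucc 12599, .negSucc 7727, .negSucc 2105, .ofNat 2106, .ofNat 6048, .negSucc 899,
  .ofNat 0, .ofNat 0, .negSucc 4024, .ofNat 1575, .ofNat 5103, .ofNat 0, .ofNat 4275, .ofNat 0, .ofNat 0,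
  .negSucc 6929, .negSucc 2429, .ofNat 9477, .negSucc 7524, .ofNat 7728, .negSucc 17252, .negSucc 2024,
  .ofNat 5292, .negSucc 13349, .ofNat 0, .ofNat 8991, .ofNat 19530, .ofNat 0, .ofNat 8262, .negSucc 4703,
  .negSucc 9476, .ofNat 4096, .negSucc 4095, .ofNat 0, .ofNat 0, .ofNat 5346, .ofNat 8925, .negSucc 7775,
  .ofNat 0, .negSucc 8519, .ofNat 4096, .negSucc 4095, .negSucc 18943, .ofNat 2430, .ofNat 6400,
  .ofNat 13300, .negSucc 3429, .negSucc 949, .negSucc 699, .ofNat 0, .ofNat 0, .ofNat 700, .negSucc 6999,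
  .ofNat 0, .ofNat 0, .ofNat 12800]

/-- the values at 6C -/
def col21 : List ℤ :=
  [.ofNat 1, .ofNat 14, .ofNat 31, .ofNat 40, .ofNat 105, .ofNat 59, .ofNat 137, .ofNat 224, .ofNat 243,
  .ofNat 143, .ofNat 94, .ofNat 281, .ofNat 295, .ofNat 246, .ofNat 406, .negSucc 139, .ofNat 687,
  .ofNat 389, .ofNat 343, .ofNat 274, .ofNat 662, .ofNat 202, .ofNat 729, .negSucc 17, .ofNat 699,
  .ofNat 1431, .negSucc 98, .ofNat 900, .ofNat 216, .negSucc 434, .ofNat 1535, .negSucc 163, .ofNat 1863,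
  .ofNat 2093, .ofNat 346, .negSucc 983, .ofNat 1026, .ofNat 1440, .ofNat 800, .ofNat 1904, .negSucc 975,
  .negSucc 720, .ofNat 756, .ofNat 1719, .ofNat 1374, .ofNat 1418, .negSucc 794, .negSucc 740, .ofNat 1566,
  .ofNat 368, .ofNat 2457, .negSucc 1889, .ofNat 83, .negSucc 17, .negSucc 575, .ofNat 945, .negSucc 258,
  .negSucc 224, .ofNat 920, .ofNat 608, .negSucc 2510, .negSucc 206, .ofNat 194, .negSucc 1673, .ofNat 730,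
  .ofNat 0, .ofNat 1431, .ofNat 2856, .ofNat 2856, .ofNat 3600, .ofNat 3700, .ofNat 1370, .negSucc 2510,
  .ofNat 2511, .ofNat 1176, .negSucc 1471, .negSucc 1744, .ofNat 1150, .ofNat 621, .negSucc 863,
  .negSucc 863, .negSucc 224, .negSucc 1061, .negSucc 863, .ofNat 216, .ofNat 4069, .negSucc 284,
  .negSucc 1079, .ofNat 1104, .ofNat 1248, .ofNat 904, .negSucc 769, .negSucc 2294, .ofNat 3537,
  .negSucc 1646, .negSucc 339, .negSucc 863, .ofNat 360, .ofNat 1890, .negSucc 271, .negSucc 639,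
  .negSucc 2510, .negSucc 1119, .negSucc 620, .ofNat 540, .ofNat 3340, .ofNat 0, .ofNat 1170, .negSucc 1983,
  .ofNat 5, .ofNat 216, .negSucc 2510, .negSucc 3164, .ofNat 1431, .ofNat 355, .ofNat 325, .ofNat 1090,
  .ofNat 1116, .ofNat 225, .negSucc 339, .ofNat 4064, .ofNat 18, .ofNat 18, .ofNat 672, .negSucc 229,
  .negSucc 809, .negSucc 1639, .negSucc 2484, .ofNat 1035, .ofNat 2511, .ofNat 4096, .ofNat 2055, .ofNat 0,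
  .ofNat 0, .negSucc 395, .negSucc 1025, .ofNat 1647, .ofNat 1525, .negSucc 735, .ofNat 783, .negSucc 224,
  .negSucc 2567, .negSucc 1149, .ofNat 0, .ofNat 459, .ofNat 846, .ofNat 0, .negSucc 1241, .negSucc 2399,
  .negSucc 1646, .ofNat 0, .ofNat 0, .ofNat 0, .ofNat 0, .negSucc 1889, .ofNat 505, .ofNat 864, .ofNat 0,
  .negSucc 1063, .ofNat 0, .ofNat 0, .ofNat 512, .ofNat 1026, .ofNat 1760, .ofNat 80, .negSucc 1425,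
  .ofNat 310, .negSucc 119, .ofNat 0, .ofNat 0, .negSucc 139, .ofNat 1400, .ofNat 0, .ofNat 0, .negSucc 319]

/-- the values at 6D -/
def col22 : List ℤ :=
  [.ofNat 1, .negSucc 6, .ofNat 3, .ofNat 11, .ofNat 19, .ofNat 26, .negSucc 8, .negSucc 70, .negSucc 15,
  .negSucc 56, .ofNat 6, .ofNat 97, .ofNat 66, .negSucc 34, .ofNat 155, .negSucc 174, .negSucc 171,
  .ofNat 71, .negSucc 108, .ofNat 40, .ofNat 97, .negSucc 47, .ofNat 153, .negSucc 80, .negSucc 287,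
  .ofNat 0, .ofNat 90, .ofNat 207, .ofNat 0, .negSucc 215, .negSucc 250, .ofNat 477, .negSucc 260,
  .ofNat 429, .negSucc 447, .ofNat 141, .ofNat 0, .ofNat 429, .ofNat 83, .negSucc 233, .ofNat 618,
  .ofNat 201, .negSucc 167, .negSucc 366, .negSucc 311, .negSucc 113, .ofNat 396, .negSucc 467, .ofNat 171,
  .ofNat 420, .ofNat 0, .ofNat 0, .ofNat 285, .negSucc 323, .ofNat 630, .ofNat 549, .negSucc 335, .ofNat 243,
  .ofNat 752, .negSucc 383, .ofNat 0, .negSucc 242, .negSucc 783, .ofNat 0, .ofNat 34, .ofNat 972, .ofNat 0,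
  .ofNat 739, .ofNat 299, .negSucc 197, .ofNat 141, .ofNat 722, .ofNat 0, .ofNat 0, .negSucc 278,
  .ofNat 1152, .negSucc 349, .negSucc 446, .ofNat 0, .ofNat 416, .negSucc 351, .ofNat 162, .negSucc 359,
  .ofNat 0, .ofNat 0, .negSucc 11, .ofNat 978, .ofNat 0, .negSucc 395, .ofNat 1712, .ofNat 1200, .ofNat 111,
  .ofNat 0, .ofNat 0, .ofNat 0, .ofNat 567, .ofNat 0, .ofNat 597, .ofNat 0, .negSucc 287, .negSucc 1279,
  .ofNat 0, .ofNat 480, .negSucc 581, .negSucc 935, .negSucc 899, .ofNat 0, .negSucc 917, .ofNat 128,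
  .negSucc 764, .ofNat 0, .ofNat 0, .negSucc 1439, .ofNat 0, .negSucc 432, .negSucc 632, .ofNat 542,
  .negSucc 575, .negSucc 161, .negSucc 485, .negSucc 815, .negSucc 404, .ofNat 243, .ofNat 288, .ofNat 567,
  .negSucc 242, .negSucc 143, .negSucc 199, .ofNat 1260, .ofNat 0, .ofNat 0, .negSucc 989, .ofNat 0,
  .ofNat 0, .ofNat 522, .ofNat 0, .ofNat 0, .ofNat 404, .negSucc 155, .ofNat 0, .negSucc 323, .negSucc 971,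
  .negSucc 605, .negSucc 971, .ofNat 0, .negSucc 71, .negSucc 728, .ofNat 0, .ofNat 1344, .ofNat 0,
  .negSucc 511, .ofNat 512, .negSucc 971, .negSucc 242, .ofNat 0, .negSucc 578, .ofNat 0, .ofNat 0,
  .ofNat 768, .negSucc 511, .ofNat 512, .ofNat 1216, .ofNat 0, .ofNat 496, .negSucc 595, .ofNat 872,
  .negSucc 229, .negSucc 105, .ofNat 486, .ofNat 0, .ofNat 520, .negSucc 87, .ofNat 0, .ofNat 0, .ofNat 992]

/-- the values at 6E -/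
def col23 : List ℤ :=
  [.ofNat 1, .ofNat 4, .ofNat 9, .negSucc 19, .ofNat 37, .negSucc 30, .ofNat 27, .ofNat 46, .ofNat 25,
  .negSucc 88, .negSucc 35, .ofNat 89, .ofNat 123, .negSucc 103, .ofNat 118, .negSucc 49, .ofNat 113,
  .negSucc 20, .negSucc 30, .negSucc 105, .ofNat 106, .negSucc 41, .ofNat 99, .ofNat 378, .negSucc 140,
  .ofNat 189, .negSucc 128, .ofNat 180, .negSucc 215, .ofNat 177, .ofNat 425, .negSucc 155, .negSucc 2,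
  .ofNat 357, .ofNat 358, .ofNat 274, .negSucc 593, .ofNat 8, .negSucc 289, .negSucc 107, .ofNat 426,
  .negSucc 248, .negSucc 75, .ofNat 313, .ofNat 154, .negSucc 329, .ofNat 45, .ofNat 201, .negSucc 113,
  .negSucc 399, .ofNat 405, .negSucc 269, .ofNat 495, .ofNat 378, .negSucc 203, .ofNat 55, .negSucc 278,
  .negSucc 134, .negSucc 7, .negSucc 479, .negSucc 80, .ofNat 243, .ofNat 174, .ofNat 486, .ofNat 170,
  .ofNat 0, .ofNat 189, .negSucc 615, .ofNat 464, .negSucc 167, .ofNat 680, .negSucc 329, .negSucc 80,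
  .ofNat 81, .negSucc 245, .negSucc 383, .negSucc 34, .ofNat 30, .negSucc 566, .ofNat 544, .ofNat 544,
  .ofNat 135, .negSucc 593, .negSucc 863, .negSucc 215, .negSucc 8, .negSucc 204, .ofNat 648, .negSucc 1087,
  .negSucc 511, .negSucc 23, .ofNat 250, .ofNat 1053, .negSucc 242, .ofNat 27, .negSucc 329, .negSucc 863,
  .ofNat 380, .ofNat 270, .ofNat 48, .ofNat 128, .ofNat 81, .negSucc 287, .ofNat 331, .negSucc 179,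
  .negSucc 479, .ofNat 0, .negSucc 109, .ofNat 256, .negSucc 464, .negSucc 215, .ofNat 81, .ofNat 45,
  .ofNat 189, .negSucc 204, .negSucc 454, .negSucc 109, .negSucc 305, .negSucc 134, .ofNat 120, .ofNat 336,
  .negSucc 377, .ofNat 378, .ofNat 352, .ofNat 60, .ofNat 0, .ofNat 160, .negSucc 504, .negSucc 264,
  .negSucc 80, .ofNat 0, .negSucc 44, .ofNat 0, .ofNat 0, .ofNat 174, .ofNat 594, .negSucc 26, .ofNat 315,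
  .ofNat 688, .ofNat 891, .ofNat 135, .negSucc 419, .negSucc 389, .ofNat 0, .negSucc 80, .ofNat 666,
  .ofNat 0, .negSucc 809, .negSucc 159, .ofNat 27, .ofNat 0, .ofNat 0, .ofNat 0, .ofNat 0, .negSucc 269,
  .negSucc 194, .ofNat 864, .ofNat 0, .ofNat 1176, .ofNat 0, .ofNat 0, .negSucc 511, .negSucc 593, .ofNat 0,
  .ofNat 180, .negSucc 405, .negSucc 309, .ofNat 260, .ofNat 0, .ofNat 0, .ofNat 540, .negSucc 279, .ofNat 0,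
  .ofNat 0, .ofNat 0]

/-- the values at 6F -/
def col24 : List ℤ :=
  [.ofNat 1, .negSucc 7, .ofNat 13, .ofNat 8, .ofNat 57, .negSucc 6, .negSucc 76, .ofNat 14, .negSucc 26,
  .ofNat 111, .ofNat 64, .negSucc 118, .ofNat 175, .negSucc 83, .ofNat 134, .ofNat 98, .negSucc 294,
  .negSucc 48, .ofNat 21, .ofNat 146, .ofNat 182, .ofNat 202, .ofNat 63, .ofNat 90, .negSucc 140, .ofNat 189,
  .negSucc 440, .negSucc 167, .negSucc 215, .negSucc 314, .ofNat 105, .negSucc 355, .negSucc 146, .ofNat 545,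
  .ofNat 182, .ofNat 434, .ofNat 594, .ofNat 532, .negSucc 329, .negSucc 223, .ofNat 98, .negSucc 48,
  .ofNat 596, .negSucc 398, .negSucc 153, .ofNat 50, .ofNat 225, .ofNat 441, .ofNat 294, .ofNat 0,
  .negSucc 782, .negSucc 377, .ofNat 35, .ofNat 90, .negSucc 383, .ofNat 455, .ofNat 149, .negSucc 314,
  .negSucc 783, .ofNat 392, .ofNat 567, .negSucc 224, .negSucc 133, .ofNat 594, .negSucc 189, .ofNat 0,
  .ofNat 189, .negSucc 55, .ofNat 56, .ofNat 168, .ofNat 0, .negSucc 349, .ofNat 567, .negSucc 566,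
  .negSucc 125, .ofNat 176, .ofNat 385, .ofNat 190, .ofNat 621, .ofNat 216, .ofNat 568, .ofNat 315,
  .ofNat 42, .ofNat 216, .negSucc 215, .negSucc 328, .ofNat 35, .negSucc 431, .negSucc 223, .ofNat 0,
  .ofNat 176, .ofNat 350, .negSucc 26, .negSucc 350, .ofNat 27, .negSucc 349, .ofNat 216, .ofNat 440,
  .ofNat 378, .negSucc 351, .ofNat 0, .negSucc 566, .negSucc 39, .ofNat 91, .ofNat 540, .negSucc 579,
  .negSucc 1023, .negSucc 69, .negSucc 175, .ofNat 175, .negSucc 215, .negSucc 566, .negSucc 314, .ofNat 189,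
  .negSucc 244, .negSucc 34, .negSucc 69, .negSucc 293, .negSucc 314, .negSucc 139, .ofNat 224, .negSucc 89,
  .ofNat 90, .negSucc 391, .ofNat 140, .ofNat 0, .ofNat 0, .negSucc 384, .negSucc 524, .ofNat 567, .ofNat 0,
  .ofNat 315, .ofNat 0, .ofNat 0, .ofNat 126, .negSucc 593, .negSucc 26, .ofNat 1155, .ofNat 224,
  .negSucc 188, .ofNat 315, .ofNat 0, .ofNat 50, .ofNat 0, .negSucc 188, .negSucc 41, .ofNat 0, .ofNat 378,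
  .negSucc 391, .ofNat 27, .negSucc 511, .negSucc 511, .ofNat 0, .ofNat 0, .negSucc 377, .negSucc 34,
  .negSucc 215, .ofNat 0, .negSucc 175, .ofNat 512, .ofNat 512, .ofNat 0, .ofNat 594, .ofNat 0, .negSucc 419,
  .ofNat 406, .ofNat 170, .negSucc 139, .ofNat 0, .ofNat 0, .ofNat 420, .negSucc 279, .ofNat 0, .ofNat 0,
  .ofNat 0]

/-- the values at 6G -/
def col25 : List ℤ :=
  [.ofNat 1, .ofNat 5, .negSucc 4, .negSucc 4, .ofNat 15, .ofNat 14, .negSucc 24, .negSucc 18, .ofNat 0,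
  .ofNat 35, .negSucc 49, .ofNat 65, .ofNat 34, .negSucc 14, .ofNat 55, .ofNat 85, .ofNat 120, .negSucc 24,
  .negSucc 16, .ofNat 40, .ofNat 5, .negSucc 103, .negSucc 134, .negSucc 44, .ofNat 60, .ofNat 0, .ofNat 90,
  .negSucc 44, .ofNat 0, .ofNat 60, .ofNat 41, .ofNat 25, .negSucc 188, .ofNat 185, .ofNat 4, .negSucc 74,
  .ofNat 0, .ofNat 225, .ofNat 35, .ofNat 50, .ofNat 410, .negSucc 234, .ofNat 360, .ofNat 45, .ofNat 60,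
  .ofNat 50, .ofNat 240, .negSucc 299, .ofNat 135, .negSucc 243, .ofNat 0, .ofNat 0, .ofNat 209,
  .negSucc 179, .ofNat 450, .ofNat 45, .negSucc 159, .negSucc 224, .negSucc 159, .ofNat 320, .ofNat 0,
  .ofNat 225, .negSucc 399, .ofNat 0, .negSucc 169, .ofNat 324, .ofNat 0, .negSucc 104, .negSucc 104,
  .negSucc 449, .negSucc 34, .ofNat 290, .ofNat 0, .ofNat 0, .negSucc 434, .negSucc 319, .ofNat 10,
  .ofNat 25, .ofNat 0, .ofNat 0, .ofNat 0, .ofNat 450, .ofNat 720, .ofNat 0, .ofNat 0, .ofNat 100,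
  .ofNat 570, .ofNat 0, .ofNat 420, .ofNat 96, .negSucc 319, .ofNat 175, .ofNat 0, .ofNat 0, .ofNat 0,
  .negSucc 24, .ofNat 0, .ofNat 585, .ofNat 0, .ofNat 160, .ofNat 512, .ofNat 0, .ofNat 320, .ofNat 270,
  .ofNat 0, .ofNat 640, .ofNat 0, .negSucc 485, .ofNat 320, .negSucc 84, .ofNat 0, .ofNat 0, .negSucc 419,
  .ofNat 0, .negSucc 4, .ofNat 55, .ofNat 10, .negSucc 179, .negSucc 449, .negSucc 429, .ofNat 536,
  .negSucc 224, .negSucc 224, .ofNat 960, .negSucc 184, .ofNat 405, .ofNat 340, .ofNat 260, .ofNat 540,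
  .ofNat 0, .negSucc 511, .negSucc 329, .ofNat 0, .ofNat 0, .ofNat 90, .ofNat 0, .ofNat 0, .negSucc 139,
  .negSucc 339, .ofNat 0, .negSucc 899, .negSucc 479, .negSucc 429, .ofNat 324, .ofNat 0, .negSucc 503,
  .ofNat 675, .ofNat 0, .negSucc 959, .ofNat 0, .ofNat 0, .ofNat 0, .ofNat 0, .ofNat 729, .ofNat 0,
  .ofNat 1045, .ofNat 0, .ofNat 0, .ofNat 160, .ofNat 0, .ofNat 0, .negSucc 639, .ofNat 0, .negSucc 543,
  .ofNat 260, .ofNat 680, .ofNat 130, .ofNat 150, .ofNat 270, .ofNat 0, .ofNat 400, .negSucc 1119, .ofNat 0,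
  .ofNat 0, .negSucc 319]

/-- the values at 6H -/
def col26 : List ℤ :=
  [.ofNat 1, .negSucc 1, .ofNat 15, .negSucc 7, .ofNat 25, .negSucc 36, .ofNat 9, .ofNat 64, .negSucc 28,
  .negSucc 16, .negSucc 113, .ofNat 89, .ofNat 183, .negSucc 25, .ofNat 118, .ofNat 100, .negSucc 48,
  .ofNat 21, .ofNat 167, .negSucc 93, .negSucc 25, .negSucc 101, .ofNat 9, .ofNat 270, .ofNat 27, .ofNat 279,
  .negSucc 290, .negSucc 107, .negSucc 71, .ofNat 285, .ofNat 95, .ofNat 348, .negSucc 56, .ofNat 189,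
  .ofNat 154, .ofNat 40, .ofNat 18, .negSucc 111, .ofNat 160, .negSucc 191, .ofNat 240, .negSucc 80,
  .negSucc 363, .negSucc 328, .ofNat 334, .ofNat 90, .ofNat 405, .ofNat 411, .negSucc 545, .negSucc 15,
  .ofNat 297, .negSucc 305, .ofNat 3, .ofNat 270, .negSucc 239, .ofNat 529, .negSucc 50, .ofNat 207,
  .ofNat 184, .negSucc 95, .ofNat 81, .negSucc 62, .ofNat 18, .negSucc 377, .ofNat 410, .ofNat 0, .ofNat 279,
  .negSucc 279, .negSucc 279, .ofNat 48, .negSucc 267, .negSucc 149, .ofNat 81, .negSucc 80, .negSucc 71,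
  .negSucc 191, .ofNat 799, .ofNat 126, .ofNat 189, .negSucc 31, .negSucc 31, .ofNat 207, .negSucc 341,
  .negSucc 287, .negSucc 71, .negSucc 122, .negSucc 348, .negSucc 215, .ofNat 208, .negSucc 31, .ofNat 360,
  .ofNat 46, .negSucc 566, .ofNat 513, .negSucc 206, .ofNat 60, .negSucc 287, .negSucc 39, .ofNat 306,
  .ofNat 48, .ofNat 128, .ofNat 81, .ofNat 96, .ofNat 307, .ofNat 252, .ofNat 540, .ofNat 0, .negSucc 109,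
  .ofNat 64, .ofNat 165, .negSucc 71, .ofNat 81, .negSucc 764, .ofNat 279, .negSucc 60, .negSucc 490,
  .ofNat 34, .negSucc 467, .negSucc 206, .ofNat 60, .negSucc 287, .negSucc 269, .negSucc 269, .negSucc 415,
  .negSucc 293, .ofNat 342, .negSucc 7, .ofNat 971, .ofNat 59, .negSucc 80, .ofNat 0, .negSucc 344, .ofNat 0,
  .ofNat 0, .negSucc 203, .negSucc 17, .ofNat 207, .negSucc 170, .negSucc 223, .negSucc 80, .ofNat 207,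
  .ofNat 552, .negSucc 125, .ofNat 0, .ofNat 27, .ofNat 126, .ofNat 0, .ofNat 54, .ofNat 608, .negSucc 206,
  .ofNat 0, .ofNat 0, .ofNat 0, .ofNat 0, .negSucc 305, .ofNat 249, .ofNat 288, .ofNat 0, .ofNat 120,
  .ofNat 0, .ofNat 0, .negSucc 511, .ofNat 18, .ofNat 480, .negSucc 143, .ofNat 158, .negSucc 9, .ofNat 8,
  .ofNat 0, .ofNat 0, .negSucc 107, .ofNat 56, .ofNat 0, .ofNat 0, .negSucc 575]

/-- the values at 6I -/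
def col27 : List ℤ :=
  [.ofNat 1, .ofNat 13, .ofNat 27, .ofNat 43, .ofNat 55, .ofNat 86, .ofNat 135, .ofNat 181, .ofNat 160,
  .ofNat 235, .ofNat 270, .ofNat 305, .ofNat 114, .ofNat 265, .negSucc 16, .ofNat 157, .ofNat 32, .ofNat 375,
  .ofNat 23, .ofNat 200, .ofNat 493, .ofNat 264, .ofNat 585, .ofNat 27, .ofNat 660, .ofNat 0, .ofNat 330,
  .ofNat 315, .ofNat 0, .ofNat 420, .negSucc 78, .ofNat 465, .ofNat 51, .negSucc 254, .ofNat 556, .ofNat 85,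
  .ofNat 0, .negSucc 54, .ofNat 115, .negSucc 197, .ofNat 138, .ofNat 525, .ofNat 680, .negSucc 154,
  .ofNat 100, .negSucc 149, .ofNat 72, .negSucc 59, .negSucc 32, .negSucc 3, .ofNat 0, .ofNat 0, .ofNat 153,
  .ofNat 108, .negSucc 149, .negSucc 34, .ofNat 0, .ofNat 135, .negSucc 511, .negSucc 191, .ofNat 0,
  .negSucc 134, .negSucc 239, .ofNat 0, .ofNat 350, .ofNat 324, .ofNat 0, .ofNat 95, .ofNat 95, .negSucc 329,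
  .negSucc 354, .ofNat 210, .ofNat 0, .ofNat 0, .negSucc 74, .ofNat 192, .ofNat 10, .ofNat 345, .ofNat 0,
  .negSucc 319, .negSucc 319, .negSucc 269, .ofNat 0, .ofNat 0, .ofNat 0, .negSucc 539, .negSucc 69,
  .ofNat 0, .ofNat 100, .ofNat 64, .ofNat 480, .negSucc 64, .ofNat 0, .ofNat 0, .ofNat 0, .negSucc 104,
  .ofNat 0, .ofNat 65, .ofNat 0, .ofNat 480, .ofNat 128, .ofNat 0, .ofNat 0, .ofNat 70, .negSucc 719,
  .negSucc 119, .ofNat 0, .negSucc 325, .negSucc 319, .ofNat 75, .ofNat 0, .ofNat 0, .ofNat 180, .ofNat 0,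
  .negSucc 204, .negSucc 184, .negSucc 109, .ofNat 180, .ofNat 270, .ofNat 210, .negSucc 23, .ofNat 135,
  .ofNat 135, .ofNat 640, .ofNat 375, .ofNat 405, .negSucc 19, .negSucc 99, .ofNat 140, .ofNat 0, .ofNat 0,
  .ofNat 270, .ofNat 0, .ofNat 0, .negSucc 149, .ofNat 0, .ofNat 0, .ofNat 180, .ofNat 220, .ofNat 0,
  .ofNat 540, .ofNat 120, .negSucc 29, .ofNat 324, .ofNat 0, .ofNat 72, .negSucc 404, .ofNat 0, .negSucc 447,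
  .ofNat 0, .ofNat 0, .ofNat 0, .negSucc 647, .ofNat 81, .ofNat 0, .ofNat 165, .ofNat 0, .ofNat 0,
  .negSucc 479, .ofNat 0, .ofNat 0, .negSucc 511, .ofNat 0, .ofNat 576, .ofNat 180, .negSucc 279, .ofNat 50,
  .negSucc 9, .negSucc 161, .ofNat 0, .ofNat 0, .ofNat 80, .ofNat 0, .ofNat 0, .ofNat 0]

/-- the values at 6J -/
def col28 : List ℤ :=
  [.ofNat 1, .ofNat 1, .ofNat 3, .negSucc 4, .negSucc 4, .ofNat 2, .negSucc 8, .ofNat 1, .ofNat 16,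
  .negSucc 16, .ofNat 6, .ofNat 17, .ofNat 18, .negSucc 10, .ofNat 19, .ofNat 25, .negSucc 3, .negSucc 8,
  .ofNat 59, .ofNat 8, .negSucc 22, .ofNat 0, .ofNat 9, .negSucc 8, .ofNat 24, .ofNat 0, .ofNat 42,
  .negSucc 8, .ofNat 0, .negSucc 47, .negSucc 18, .negSucc 74, .negSucc 20, .ofNat 21, .ofNat 40, .ofNat 13,
  .ofNat 0, .negSucc 42, .negSucc 28, .ofNat 30, .ofNat 90, .ofNat 33, .negSucc 39, .ofNat 73, .negSucc 79,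
  .ofNat 6, .ofNat 36, .negSucc 35, .ofNat 3, .ofNat 116, .ofNat 0, .ofNat 0, .ofNat 69, .negSucc 35,
  .ofNat 30, .ofNat 85, .negSucc 47, .ofNat 27, .ofNat 16, .ofNat 0, .ofNat 0, .negSucc 26, .negSucc 47,
  .ofNat 0, .ofNat 74, .ofNat 108, .ofNat 0, .ofNat 11, .ofNat 83, .negSucc 77, .negSucc 18, .ofNat 66,
  .ofNat 0, .ofNat 0, .negSucc 14, .ofNat 0, .ofNat 130, .ofNat 33, .ofNat 0, .negSucc 31, .negSucc 31,
  .ofNat 18, .ofNat 72, .ofNat 0, .ofNat 0, .negSucc 11, .negSucc 141, .ofNat 0, .negSucc 43, .ofNat 16,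
  .negSucc 47, .ofNat 31, .ofNat 0, .ofNat 0, .ofNat 0, .ofNat 135, .ofNat 0, .negSucc 18, .ofNat 0,
  .negSucc 95, .ofNat 128, .ofNat 0, .negSucc 95, .negSucc 13, .ofNat 72, .negSucc 59, .ofNat 0, .ofNat 106,
  .negSucc 127, .ofNat 3, .ofNat 0, .ofNat 0, .negSucc 71, .ofNat 0, .negSucc 24, .negSucc 40, .negSucc 217,
  .ofNat 72, .negSucc 17, .ofNat 90, .ofNat 96, .negSucc 44, .ofNat 27, .negSucc 31, .ofNat 135, .ofNat 45,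
  .ofNat 40, .ofNat 80, .negSucc 3, .ofNat 0, .ofNat 0, .negSucc 5, .ofNat 0, .ofNat 0, .negSucc 5, .ofNat 0,
  .ofNat 0, .negSucc 107, .ofNat 52, .ofNat 0, .negSucc 35, .ofNat 12, .negSucc 77, .negSucc 107, .ofNat 0,
  .negSucc 71, .negSucc 80, .ofNat 0, .negSucc 63, .ofNat 0, .ofNat 0, .ofNat 0, .ofNat 108, .negSucc 26,
  .ofNat 0, .ofNat 45, .ofNat 0, .ofNat 0, .ofNat 0, .ofNat 0, .ofNat 0, .ofNat 64, .ofNat 0, .negSucc 47,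
  .negSucc 35, .negSucc 87, .ofNat 74, .negSucc 9, .ofNat 54, .ofNat 0, .negSucc 71, .negSucc 39, .ofNat 0,
  .ofNat 0, .ofNat 288]

/-- the values at 6K -/
def col29 : List ℤ :=
  [.ofNat 1, .ofNat 1, .negSucc 4, .negSucc 0, .ofNat 3, .ofNat 2, .negSucc 4, .ofNat 5, .ofNat 0, .ofNat 3,
  .ofNat 10, .negSucc 10, .ofNat 22, .negSucc 2, .negSucc 0, .negSucc 18, .negSucc 15, .ofNat 23, .ofNat 3,
  .negSucc 15, .negSucc 6, .negSucc 31, .ofNat 9, .negSucc 44, .negSucc 23, .ofNat 0, .ofNat 18, .ofNat 3,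
  .ofNat 0, .ofNat 36, .ofNat 69, .ofNat 13, .negSucc 20, .negSucc 30, .ofNat 20, .negSucc 42, .ofNat 0,
  .ofNat 1, .ofNat 111, .ofNat 46, .negSucc 9, .negSucc 30, .negSucc 15, .negSucc 2, .negSucc 27, .ofNat 14,
  .ofNat 36, .ofNat 36, .ofNat 15, .ofNat 0, .ofNat 0, .ofNat 0, .negSucc 18, .ofNat 36, .ofNat 30,
  .negSucc 66, .ofNat 32, .negSucc 44, .negSucc 63, .ofNat 32, .ofNat 0, .ofNat 45, .negSucc 79, .ofNat 0,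
  .ofNat 98, .ofNat 108, .ofNat 0, .ofNat 43, .negSucc 96, .negSucc 29, .ofNat 81, .negSucc 97, .ofNat 0,
  .ofNat 0, .ofNat 9, .ofNat 32, .ofNat 106, .ofNat 1, .ofNat 0, .ofNat 0, .ofNat 64, .negSucc 89,
  .negSucc 47, .ofNat 0, .ofNat 0, .ofNat 4, .ofNat 26, .ofNat 0, .negSucc 7, .ofNat 0, .ofNat 32, .ofNat 71,
  .ofNat 0, .ofNat 0, .ofNat 0, .ofNat 55, .ofNat 0, .ofNat 89, .ofNat 0, .negSucc 63, .ofNat 0, .ofNat 0,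
  .ofNat 32, .negSucc 61, .ofNat 0, .ofNat 32, .ofNat 128, .negSucc 33, .negSucc 31, .negSucc 76, .ofNat 0,
  .ofNat 0, .ofNat 36, .ofNat 0, .ofNat 151, .ofNat 19, .negSucc 33, .ofNat 12, .negSucc 125, .negSucc 49,
  .ofNat 8, .negSucc 8, .negSucc 44, .negSucc 31, .ofNat 23, .negSucc 26, .ofNat 180, .negSucc 51,
  .negSucc 83, .ofNat 0, .ofNat 0, .ofNat 18, .ofNat 0, .ofNat 0, .ofNat 18, .ofNat 0, .ofNat 0, .ofNat 84,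
  .ofNat 8, .ofNat 0, .negSucc 35, .ofNat 0, .ofNat 14, .ofNat 0, .ofNat 0, .ofNat 48, .negSucc 80, .ofNat 0,
  .negSucc 31, .ofNat 0, .ofNat 64, .ofNat 64, .ofNat 0, .negSucc 26, .ofNat 0, .ofNat 73, .ofNat 0,
  .ofNat 0, .negSucc 31, .negSucc 63, .negSucc 63, .ofNat 0, .ofNat 0, .ofNat 0, .negSucc 59, .ofNat 64,
  .ofNat 26, .ofNat 94, .negSucc 161, .ofNat 0, .negSucc 47, .ofNat 224, .ofNat 0, .ofNat 0, .ofNat 0]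

/-- the values at 7A -/
def col30 : List ℤ :=
  [.ofNat 1, .ofNat 10, .ofNat 19, .ofNat 26, .ofNat 35, .ofNat 45, .ofNat 65, .ofNat 70, .ofNat 89,
  .ofNat 64, .ofNat 55, .ofNat 45, .ofNat 65, .ofNat 126, .ofNat 1, .ofNat 56, .ofNat 46, .ofNat 140,
  .ofNat 0, .ofNat 100, .ofNat 126, .ofNat 109, .ofNat 90, .ofNat 35, .ofNat 35, .ofNat 70, .ofNat 99,
  .ofNat 81, .ofNat 73, .ofNat 56, .ofNat 0, .ofNat 39, .ofNat 0, .ofNat 19, .ofNat 0, .ofNat 54, .ofNat 37,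
  .ofNat 0, .negSucc 34, .ofNat 0, .ofNat 0, .ofNat 0, .negSucc 34, .ofNat 0, .negSucc 35, .ofNat 35,
  .negSucc 34, .negSucc 19, .ofNat 0, .ofNat 0, .negSucc 9, .ofNat 16, .ofNat 0, .negSucc 45, .negSucc 14,
  .negSucc 69, .negSucc 35, .negSucc 55, .ofNat 0, .ofNat 0, .negSucc 53, .negSucc 0, .negSucc 34,
  .negSucc 54, .negSucc 79, .ofNat 0, .negSucc 19, .ofNat 0, .ofNat 0, .ofNat 0, .ofNat 0, .negSucc 64,
  .ofNat 54, .ofNat 0, .ofNat 0, .negSucc 99, .ofNat 0, .negSucc 124, .negSucc 28, .negSucc 43, .negSucc 43,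
  .negSucc 109, .ofNat 0, .negSucc 99, .ofNat 1, .ofNat 0, .ofNat 0, .negSucc 73, .ofNat 0, .negSucc 125,
  .ofNat 26, .ofNat 0, .ofNat 55, .ofNat 10, .ofNat 10, .ofNat 0, .ofNat 35, .ofNat 35, .ofNat 65,
  .negSucc 17, .ofNat 0, .ofNat 0, .ofNat 144, .ofNat 56, .ofNat 165, .negSucc 9, .negSucc 127, .ofNat 0,
  .ofNat 100, .ofNat 0, .negSucc 34, .negSucc 44, .negSucc 69, .negSucc 10, .ofNat 0, .ofNat 0, .ofNat 0,
  .ofNat 0, .negSucc 24, .ofNat 0, .ofNat 0, .negSucc 25, .negSucc 25, .ofNat 0, .negSucc 139, .ofNat 0,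
  .negSucc 44, .ofNat 0, .ofNat 0, .negSucc 44, .ofNat 0, .negSucc 19, .ofNat 0, .ofNat 0, .ofNat 126,
  .negSucc 18, .ofNat 35, .ofNat 0, .negSucc 125, .negSucc 55, .ofNat 70, .ofNat 0, .ofNat 35, .negSucc 125,
  .negSucc 139, .ofNat 0, .negSucc 89, .negSucc 55, .ofNat 0, .ofNat 64, .ofNat 64, .ofNat 64, .ofNat 90,
  .ofNat 0, .ofNat 70, .ofNat 0, .negSucc 43, .ofNat 126, .ofNat 44, .negSucc 63, .negSucc 63, .ofNat 56,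
  .negSucc 34, .negSucc 69, .ofNat 0, .ofNat 0, .negSucc 19, .ofNat 0, .ofNat 0, .ofNat 72, .ofNat 0,
  .ofNat 0, .ofNat 90, .ofNat 0, .ofNat 140]

/-- the values at 8A -/
def col31 : List ℤ :=
  [.ofNat 1, .negSucc 20, .ofNat 55, .negSucc 97, .ofNat 174, .ofNat 211, .negSucc 378, .ofNat 490,
  .negSucc 656, .negSucc 517, .ofNat 405, .negSucc 145, .ofNat 792, .ofNat 1302, .ofNat 50, .negSucc 832,
  .negSucc 671, .negSucc 1924, .ofNat 147, .negSucc 1791, .ofNat 2226, .ofNat 2304, .negSucc 1728,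
  .ofNat 1023, .ofNat 610, .ofNat 2016, .ofNat 2925, .negSucc 3045, .negSucc 2672, .negSucc 3394,
  .negSucc 797, .ofNat 2855, .negSucc 468, .ofNat 356, .ofNat 2240, .negSucc 3177, .negSucc 2744, .ofNat 588,
  .ofNat 645, .ofNat 637, .ofNat 1197, .negSucc 1427, .negSucc 511, .negSucc 2092, .ofNat 1078, .ofNat 3450,
  .ofNat 454, .ofNat 2016, .ofNat 2156, .ofNat 0, .negSucc 755, .ofNat 4473, .negSucc 139, .negSucc 575,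
  .ofNat 1555, .negSucc 34, .negSucc 2951, .negSucc 2876, .ofNat 0, .ofNat 0, .negSucc 2015, .negSucc 2954,
  .ofNat 2304, .ofNat 1170, .ofNat 1120, .ofNat 525, .negSucc 2330, .negSucc 2477, .negSucc 13, .ofNat 1505,
  .ofNat 28, .ofNat 2736, .ofNat 1386, .negSucc 629, .ofNat 903, .ofNat 0, .negSucc 1385, .negSucc 558,
  .negSucc 1925, .ofNat 0, .ofNat 0, .negSucc 503, .negSucc 1791, .ofNat 0, .negSucc 26, .negSucc 2015,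
  .ofNat 1575, .ofNat 0, .ofNat 0, .ofNat 0, .ofNat 0, .ofNat 532, .negSucc 224, .ofNat 1701, .ofNat 1197,
  .negSucc 1168, .ofNat 540, .ofNat 1765, .ofNat 2304, .ofNat 0, .ofNat 0, .ofNat 126, .ofNat 0, .ofNat 1288,
  .negSucc 511, .ofNat 196, .ofNat 0, .negSucc 1567, .ofNat 0, .negSucc 2932, .ofNat 3996, .negSucc 791,
  .negSucc 671, .ofNat 1611, .negSucc 1686, .ofNat 1729, .negSucc 1567, .ofNat 1715, .ofNat 909, .ofNat 3024,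
  .ofNat 0, .negSucc 1469, .negSucc 797, .ofNat 0, .negSucc 664, .negSucc 734, .ofNat 832, .ofNat 588,
  .negSucc 307, .negSucc 665, .ofNat 0, .ofNat 2184, .negSucc 944, .ofNat 2079, .negSucc 125, .ofNat 99,
  .negSucc 2114, .negSucc 2015, .ofNat 0, .negSucc 503, .negSucc 503, .ofNat 70, .ofNat 3744, .ofNat 0,
  .negSucc 1259, .ofNat 1792, .negSucc 2246, .ofNat 441, .ofNat 0, .negSucc 2015, .ofNat 0, .ofNat 0,
  .ofNat 2688, .ofNat 966, .negSucc 2708, .negSucc 587, .ofNat 0, .negSucc 3401, .ofNat 0, .ofNat 0,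
  .ofNat 0, .ofNat 0, .ofNat 2304, .ofNat 0, .negSucc 27, .ofNat 1792, .negSucc 321, .negSucc 69,
  .negSucc 41, .ofNat 756, .ofNat 406, .negSucc 895, .negSucc 3455, .negSucc 1133, .ofNat 0]

/-- the values at 8B -/
def col32 : List ℤ :=
  [.ofNat 1, .ofNat 7, .ofNat 3, .negSucc 17, .ofNat 46, .negSucc 0, .ofNat 37, .negSucc 21, .negSucc 4,
  .negSucc 37, .ofNat 57, .negSucc 25, .ofNat 88, .negSucc 105, .ofNat 146, .negSucc 80, .ofNat 192,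
  .ofNat 91, .negSucc 144, .negSucc 127, .ofNat 66, .ofNat 128, .negSucc 116, .ofNat 259, .ofNat 26,
  .negSucc 63, .negSucc 66, .ofNat 50, .negSucc 156, .ofNat 181, .ofNat 210, .negSucc 192, .negSucc 284,
  .ofNat 276, .negSucc 127, .negSucc 57, .negSucc 456, .ofNat 284, .ofNat 45, .ofNat 117, .negSucc 98,
  .ofNat 188, .ofNat 0, .ofNat 355, .ofNat 358, .negSucc 69, .negSucc 129, .ofNat 448, .ofNat 444, .ofNat 0,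
  .negSucc 115, .negSucc 294, .negSucc 315, .negSucc 127, .negSucc 120, .negSucc 34, .ofNat 248, .ofNat 143,
  .ofNat 512, .negSucc 255, .negSucc 191, .negSucc 70, .negSucc 127, .ofNat 106, .negSucc 159, .ofNat 441,
  .ofNat 557, .negSucc 413, .negSucc 413, .negSucc 558, .negSucc 179, .negSucc 79, .ofNat 186, .negSucc 5,
  .negSucc 112, .negSucc 511, .negSucc 9, .ofNat 25, .ofNat 290, .ofNat 256, .ofNat 256, .negSucc 279,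
  .negSucc 127, .ofNat 256, .ofNat 113, .negSucc 191, .negSucc 104, .ofNat 512, .ofNat 0, .ofNat 0,
  .negSucc 511, .negSucc 1019, .ofNat 419, .ofNat 641, .ofNat 149, .negSucc 404, .negSucc 355, .ofNat 225,
  .negSucc 127, .ofNat 0, .ofNat 0, .negSucc 209, .ofNat 256, .ofNat 8, .ofNat 0, .negSucc 139, .ofNat 0,
  .negSucc 159, .negSucc 511, .ofNat 375, .ofNat 284, .ofNat 168, .negSucc 319, .negSucc 252, .negSucc 374,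
  .ofNat 205, .ofNat 160, .ofNat 271, .negSucc 214, .ofNat 720, .ofNat 0, .negSucc 213, .negSucc 285,
  .ofNat 256, .negSucc 24, .negSucc 614, .ofNat 320, .negSucc 99, .ofNat 220, .negSucc 41, .ofNat 0,
  .negSucc 279, .ofNat 819, .negSucc 188, .negSucc 157, .negSucc 172, .ofNat 229, .ofNat 320, .ofNat 0,
  .negSucc 279, .negSucc 279, .negSucc 89, .negSucc 159, .ofNat 0, .ofNat 116, .negSucc 127, .negSucc 314,
  .ofNat 245, .ofNat 256, .ofNat 320, .ofNat 0, .ofNat 0, .ofNat 0, .ofNat 270, .ofNat 11, .negSucc 219,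
  .negSucc 255, .ofNat 198, .negSucc 511, .ofNat 0, .ofNat 0, .ofNat 0, .ofNat 128, .ofNat 0, .negSucc 139,
  .negSucc 127, .negSucc 9, .negSucc 349, .negSucc 89, .ofNat 180, .negSucc 409, .ofNat 0, .ofNat 0,
  .ofNat 810, .ofNat 0]

/-- the values at 8C -/
def col33 : List ℤ :=
  [.ofNat 1, .negSucc 8, .ofNat 19, .negSucc 17, .ofNat 46, .ofNat 15, .negSucc 58, .ofNat 74, .negSucc 84,
  .ofNat 26, .negSucc 22, .negSucc 25, .ofNat 152, .ofNat 54, .ofNat 82, .ofNat 79, .negSucc 191,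
  .negSucc 68, .ofNat 95, .negSucc 127, .ofNat 66, .ofNat 128, .negSucc 36, .ofNat 83, .ofNat 26, .ofNat 320,
  .negSucc 162, .negSucc 269, .negSucc 300, .ofNat 181, .ofNat 50, .negSucc 256, .negSucc 124, .ofNat 596,
  .ofNat 128, .ofNat 358, .ofNat 119, .negSucc 35, .ofNat 205, .negSucc 458, .negSucc 258, .ofNat 188,
  .ofNat 0, .negSucc 444, .ofNat 358, .ofNat 570, .ofNat 190, .negSucc 191, .negSucc 195, .ofNat 0,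
  .negSucc 51, .negSucc 294, .negSucc 315, .ofNat 128, .negSucc 40, .ofNat 125, .ofNat 312, .negSucc 192,
  .negSucc 511, .negSucc 255, .ofNat 192, .ofNat 169, .negSucc 127, .negSucc 213, .negSucc 159, .negSucc 278,
  .ofNat 77, .negSucc 413, .ofNat 226, .ofNat 81, .negSucc 499, .ofNat 560, .negSucc 293, .negSucc 101,
  .ofNat 367, .negSucc 511, .ofNat 470, .negSucc 614, .negSucc 349, .ofNat 256, .ofNat 256, .ofNat 40,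
  .negSucc 127, .ofNat 256, .ofNat 833, .ofNat 448, .negSucc 104, .negSucc 511, .ofNat 0, .ofNat 0,
  .ofNat 512, .negSucc 379, .ofNat 19, .negSucc 142, .ofNat 53, .ofNat 475, .negSucc 355, .ofNat 145,
  .negSucc 127, .ofNat 0, .ofNat 0, .ofNat 366, .ofNat 256, .negSucc 567, .ofNat 0, .negSucc 139, .ofNat 0,
  .negSucc 159, .negSucc 511, .ofNat 135, .negSucc 291, .negSucc 407, .ofNat 320, .negSucc 156, .ofNat 265,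
  .ofNat 285, .ofNat 160, .ofNat 511, .ofNat 185, .ofNat 80, .ofNat 0, .ofNat 106, .negSucc 285, .ofNat 256,
  .ofNat 455, .negSucc 134, .ofNat 320, .negSucc 419, .ofNat 220, .negSucc 41, .ofNat 0, .ofNat 40,
  .ofNat 99, .negSucc 332, .ofNat 258, .ofNat 403, .negSucc 250, .negSucc 319, .ofNat 0, .ofNat 40,
  .ofNat 40, .negSucc 89, .negSucc 159, .ofNat 0, .negSucc 523, .negSucc 127, .ofNat 405, .negSucc 154,
  .ofNat 256, .negSucc 63, .ofNat 0, .ofNat 0, .ofNat 0, .ofNat 270, .ofNat 11, .ofNat 100, .negSucc 255,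
  .negSucc 377, .ofNat 512, .ofNat 0, .ofNat 0, .ofNat 0, .ofNat 128, .ofNat 0, .ofNat 180, .negSucc 127,
  .negSucc 169, .ofNat 130, .negSucc 89, .ofNat 180, .negSucc 409, .ofNat 0, .ofNat 0, .negSucc 629,
  .ofNat 0]

/-- the values at 8D -/
def col34 : List ℤ :=
  [.ofNat 1, .ofNat 11, .ofNat 23, .ofNat 30, .ofNat 46, .ofNat 51, .ofNat 69, .ofNat 42, .ofNat 143,
  .negSucc 5, .negSucc 74, .negSucc 145, .ofNat 152, .ofNat 214, .ofNat 50, .ofNat 127, .ofNat 96,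
  .ofNat 187, .ofNat 51, .ofNat 256, .ofNat 50, .ofNat 256, .negSucc 224, .ofNat 95, .negSucc 413,
  .ofNat 224, .ofNat 301, .ofNat 154, .ofNat 303, .ofNat 189, .ofNat 34, .negSucc 88, .ofNat 235,
  .negSucc 27, .negSucc 319, .ofNat 342, .ofNat 199, .ofNat 204, .ofNat 69, .negSucc 2, .ofNat 237,
  .negSucc 403, .negSucc 511, .ofNat 275, .ofNat 182, .ofNat 250, .ofNat 70, .ofNat 224, .negSucc 147,
  .ofNat 0, .negSucc 371, .ofNat 377, .ofNat 116, .negSucc 63, .ofNat 243, .ofNat 157, .negSucc 7,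
  .negSucc 284, .ofNat 0, .ofNat 0, .ofNat 288, .ofNat 277, .ofNat 256, .negSucc 237, .negSucc 415,
  .ofNat 45, .negSucc 90, .ofNat 210, .ofNat 114, .ofNat 225, .negSucc 99, .negSucc 79, .ofNat 42,
  .ofNat 330, .negSucc 312, .ofNat 0, .ofNat 470, .ofNat 209, .negSucc 133, .ofNat 0, .ofNat 0, .negSucc 119,
  .ofNat 256, .ofNat 0, .negSucc 314, .negSucc 223, .ofNat 39, .ofNat 0, .ofNat 0, .ofNat 0, .ofNat 0,
  .ofNat 20, .negSucc 64, .ofNat 69, .ofNat 109, .negSucc 112, .negSucc 227, .negSucc 122, .ofNat 256,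
  .ofNat 0, .ofNat 0, .ofNat 126, .ofNat 0, .negSucc 119, .negSucc 511, .ofNat 196, .ofNat 0, .negSucc 31,
  .ofNat 0, .negSucc 148, .negSucc 227, .ofNat 360, .ofNat 96, .negSucc 372, .negSucc 150, .ofNat 33,
  .negSucc 31, .ofNat 339, .negSucc 146, .ofNat 208, .ofNat 0, .negSucc 61, .negSucc 157, .ofNat 0,
  .ofNat 167, .ofNat 97, .negSucc 191, .negSucc 51, .negSucc 51, .ofNat 486, .ofNat 0, .ofNat 8, .ofNat 111,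
  .ofNat 63, .ofNat 66, .ofNat 227, .ofNat 125, .ofNat 288, .ofNat 0, .ofNat 392, .negSucc 119, .ofNat 198,
  .ofNat 160, .ofNat 0, .ofNat 20, .negSucc 255, .ofNat 153, .ofNat 89, .ofNat 0, .negSucc 223, .ofNat 0,
  .ofNat 0, .negSucc 383, .ofNat 198, .ofNat 107, .negSucc 203, .ofNat 0, .negSucc 329, .ofNat 0, .ofNat 0,
  .ofNat 0, .ofNat 0, .ofNat 256, .ofNat 0, .negSucc 155, .negSucc 255, .negSucc 1, .negSucc 5, .negSucc 41,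
  .negSucc 11, .negSucc 105, .ofNat 128, .negSucc 383, .ofNat 210, .ofNat 0]

/-- the values at 8E -/
def col35 : List ℤ :=
  [.ofNat 1, .negSucc 0, .ofNat 11, .ofNat 14, .ofNat 14, .negSucc 24, .negSucc 10, .ofNat 26, .negSucc 12,
  .ofNat 26, .negSucc 14, .negSucc 25, .ofNat 120, .negSucc 25, .ofNat 146, .negSucc 0, .ofNat 0, .ofNat 11,
  .ofNat 7, .ofNat 128, .ofNat 34, .negSucc 127, .negSucc 44, .ofNat 171, .ofNat 26, .ofNat 128,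
  .negSucc 114, .negSucc 109, .ofNat 59, .negSucc 138, .ofNat 450, .ofNat 95, .ofNat 115, .ofNat 116,
  .ofNat 0, .negSucc 169, .ofNat 151, .negSucc 195, .negSucc 194, .ofNat 149, .ofNat 141, .ofNat 188,
  .ofNat 0, .negSucc 44, .negSucc 249, .negSucc 37, .ofNat 30, .ofNat 128, .negSucc 195, .ofNat 0,
  .negSucc 83, .ofNat 25, .ofNat 4, .ofNat 0, .negSucc 368, .ofNat 365, .ofNat 280, .negSucc 56, .ofNat 0,
  .ofNat 256, .ofNat 0, .ofNat 81, .ofNat 128, .negSucc 53, .negSucc 159, .ofNat 369, .ofNat 317,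
  .negSucc 125, .negSucc 125, .ofNat 81, .negSucc 339, .ofNat 240, .negSucc 53, .negSucc 53, .ofNat 127,
  .ofNat 512, .negSucc 89, .ofNat 25, .negSucc 29, .negSucc 255, .negSucc 255, .negSucc 119, .ofNat 128,
  .negSucc 255, .ofNat 185, .ofNat 128, .negSucc 104, .ofNat 0, .ofNat 0, .ofNat 0, .ofNat 0, .negSucc 59,
  .negSucc 68, .negSucc 38, .ofNat 101, .negSucc 604, .ofNat 284, .negSucc 454, .ofNat 128, .ofNat 0,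
  .ofNat 0, .negSucc 209, .negSucc 255, .negSucc 279, .ofNat 0, .ofNat 180, .ofNat 0, .negSucc 159,
  .ofNat 512, .negSucc 384, .negSucc 3, .negSucc 119, .ofNat 0, .negSucc 204, .ofNat 265, .negSucc 394,
  .ofNat 160, .ofNat 359, .negSucc 14, .ofNat 400, .ofNat 0, .negSucc 53, .ofNat 66, .negSucc 255,
  .ofNat 215, .negSucc 374, .ofNat 320, .ofNat 60, .negSucc 99, .negSucc 329, .ofNat 0, .negSucc 119,
  .ofNat 171, .negSucc 260, .ofNat 370, .negSucc 204, .negSucc 10, .ofNat 0, .ofNat 0, .negSucc 119,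
  .negSucc 119, .negSucc 121, .negSucc 159, .ofNat 0, .negSucc 203, .ofNat 128, .ofNat 45, .negSucc 242,
  .negSucc 255, .ofNat 128, .ofNat 0, .ofNat 0, .ofNat 0, .ofNat 270, .ofNat 331, .negSucc 59, .ofNat 256,
  .negSucc 377, .ofNat 0, .ofNat 0, .ofNat 0, .ofNat 0, .negSucc 127, .ofNat 0, .ofNat 340, .ofNat 128,
  .negSucc 89, .negSucc 109, .negSucc 89, .negSucc 395, .ofNat 230, .ofNat 0, .ofNat 0, .ofNat 90, .ofNat 0]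

/-- the values at 8F -/
def col36 : List ℤ :=
  [.ofNat 1, .negSucc 4, .ofNat 7, .negSucc 1, .ofNat 14, .ofNat 3, .ofNat 5, .negSucc 21, .negSucc 32,
  .ofNat 26, .negSucc 26, .ofNat 14, .ofNat 24, .ofNat 22, .ofNat 82, .negSucc 0, .negSucc 31, .negSucc 4,
  .negSucc 60, .ofNat 0, .negSucc 45, .ofNat 0, .ofNat 47, .negSucc 16, .ofNat 2, .ofNat 96, .ofNat 45,
  .ofNat 58, .negSucc 32, .ofNat 29, .ofNat 98, .negSucc 120, .ofNat 11, .ofNat 100, .negSucc 63,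
  .negSucc 105, .negSucc 56, .negSucc 51, .negSucc 218, .negSucc 162, .ofNat 45, .ofNat 44, .ofNat 0,
  .negSucc 108, .negSucc 105, .negSucc 37, .ofNat 102, .ofNat 96, .negSucc 19, .ofNat 0, .ofNat 12,
  .ofNat 57, .ofNat 116, .ofNat 192, .ofNat 35, .negSucc 226, .ofNat 120, .negSucc 12, .ofNat 0, .ofNat 0,
  .negSucc 95, .ofNat 133, .ofNat 0, .negSucc 77, .ofNat 96, .ofNat 125, .ofNat 69, .ofNat 178, .ofNat 146,
  .ofNat 97, .negSucc 163, .negSucc 335, .ofNat 42, .negSucc 53, .negSucc 24, .ofNat 0, .negSucc 41,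
  .ofNat 113, .ofNat 90, .ofNat 0, .ofNat 0, .negSucc 119, .ofNat 0, .ofNat 0, .ofNat 21, .negSucc 95,
  .negSucc 152, .ofNat 0, .ofNat 0, .ofNat 0, .ofNat 0, .negSucc 43, .ofNat 111, .ofNat 21, .ofNat 141,
  .ofNat 127, .ofNat 156, .ofNat 117, .ofNat 0, .ofNat 0, .ofNat 0, .ofNat 30, .ofNat 0, .negSucc 247,
  .ofNat 0, .ofNat 68, .ofNat 0, .negSucc 31, .ofNat 0, .ofNat 91, .ofNat 156, .negSucc 23, .negSucc 31,
  .negSucc 20, .negSucc 214, .ofNat 145, .ofNat 224, .negSucc 92, .negSucc 98, .negSucc 47, .ofNat 0,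
  .ofNat 34, .ofNat 194, .ofNat 0, .ofNat 103, .negSucc 62, .negSucc 191, .ofNat 76, .ofNat 76, .ofNat 6,
  .ofNat 0, .ofNat 8, .negSucc 224, .ofNat 15, .ofNat 66, .ofNat 99, .negSucc 98, .negSucc 95, .ofNat 0,
  .negSucc 119, .negSucc 119, .ofNat 38, .negSucc 95, .ofNat 0, .negSucc 107, .ofNat 0, .ofNat 137,
  .negSucc 86, .ofNat 0, .negSucc 95, .ofNat 0, .ofNat 0, .ofNat 128, .ofNat 38, .negSucc 212, .negSucc 11,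
  .ofNat 0, .negSucc 41, .ofNat 0, .ofNat 0, .ofNat 0, .ofNat 0, .ofNat 0, .ofNat 0, .ofNat 228, .ofNat 0,
  .ofNat 222, .ofNat 26, .negSucc 105, .ofNat 180, .negSucc 41, .ofNat 128, .negSucc 383, .ofNat 306,
  .ofNat 0]

/-- the values at 8G -/
def col37 : List ℤ :=
  [.ofNat 1, .negSucc 4, .negSucc 0, .ofNat 14, .ofNat 30, .negSucc 4, .negSucc 18, .negSucc 13, .ofNat 15,
  .ofNat 26, .ofNat 29, .negSucc 25, .ofNat 40, .negSucc 49, .ofNat 50, .ofNat 39, .negSucc 95, .negSucc 44,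
  .ofNat 35, .ofNat 0, .ofNat 66, .ofNat 0, .ofNat 55, .ofNat 95, .negSucc 69, .negSucc 95, .ofNat 5,
  .ofNat 50, .ofNat 135, .negSucc 74, .ofNat 10, .negSucc 64, .negSucc 100, .ofNat 20, .ofNat 64,
  .negSucc 49, .ofNat 135, .ofNat 220, .ofNat 5, .ofNat 101, .negSucc 10, .negSucc 19, .ofNat 0,
  .negSucc 164, .negSucc 89, .ofNat 10, .negSucc 33, .ofNat 160, .ofNat 140, .ofNat 0, .negSucc 83,
  .negSucc 134, .negSucc 43, .negSucc 63, .ofNat 115, .negSucc 154, .negSucc 119, .ofNat 35, .ofNat 0,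
  .ofNat 0, .ofNat 96, .negSucc 34, .ofNat 0, .negSucc 53, .ofNat 160, .ofNat 45, .ofNat 165, .negSucc 29,
  .ofNat 130, .ofNat 305, .negSucc 19, .negSucc 79, .negSucc 29, .ofNat 66, .negSucc 184, .ofNat 0,
  .negSucc 129, .negSucc 54, .negSucc 29, .ofNat 0, .ofNat 0, .ofNat 184, .ofNat 0, .ofNat 0, .ofNat 45,
  .negSucc 159, .negSucc 264, .ofNat 0, .ofNat 0, .ofNat 0, .ofNat 0, .ofNat 20, .negSucc 104, .negSucc 74,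
  .negSucc 146, .ofNat 15, .negSucc 179, .ofNat 85, .ofNat 0, .ofNat 0, .ofNat 0, .ofNat 30, .ofNat 0,
  .negSucc 39, .ofNat 0, .ofNat 100, .ofNat 0, .negSucc 159, .ofNat 0, .ofNat 35, .negSucc 35, .ofNat 120,
  .ofNat 160, .ofNat 75, .negSucc 54, .negSucc 54, .ofNat 160, .negSucc 44, .ofNat 5, .ofNat 16, .ofNat 0,
  .ofNat 10, .ofNat 50, .ofNat 0, .ofNat 15, .negSucc 14, .ofNat 0, .ofNat 60, .negSucc 19, .ofNat 150,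
  .ofNat 0, .negSucc 39, .ofNat 279, .negSucc 8, .negSucc 69, .negSucc 44, .negSucc 194, .negSucc 159,
  .ofNat 0, .ofNat 24, .negSucc 199, .negSucc 9, .ofNat 160, .ofNat 0, .negSucc 59, .ofNat 0, .negSucc 254,
  .negSucc 134, .ofNat 0, .ofNat 96, .ofNat 0, .ofNat 0, .ofNat 0, .negSucc 113, .ofNat 315, .ofNat 100,
  .ofNat 0, .ofNat 54, .ofNat 0, .ofNat 0, .ofNat 0, .ofNat 0, .ofNat 0, .ofNat 0, .ofNat 180, .ofNat 0,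
  .ofNat 30, .ofNat 10, .ofNat 102, .negSucc 107, .negSucc 89, .ofNat 0, .ofNat 0, .negSucc 269, .ofNat 0]

/-- the values at 8H -/
def col38 : List ℤ :=
  [.ofNat 1, .ofNat 3, .negSucc 0, .negSucc 1, .ofNat 14, .negSucc 4, .negSucc 10, .negSucc 5, .ofNat 7,
  .negSucc 5, .ofNat 13, .ofNat 14, .negSucc 7, .ofNat 6, .ofNat 50, .negSucc 16, .ofNat 32, .ofNat 11,
  .ofNat 11, .ofNat 0, .negSucc 45, .ofNat 0, .ofNat 7, .ofNat 7, .ofNat 2, .ofNat 32, .ofNat 29,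
  .negSucc 37, .ofNat 39, .negSucc 34, .negSucc 13, .negSucc 24, .ofNat 123, .ofNat 68, .ofNat 64, .ofNat 70,
  .negSucc 24, .ofNat 44, .ofNat 85, .ofNat 125, .negSucc 2, .ofNat 44, .ofNat 0, .negSucc 28, .ofNat 22,
  .negSucc 37, .ofNat 6, .ofNat 32, .negSucc 19, .ofNat 0, .negSucc 19, .negSucc 6, .negSucc 11, .ofNat 64,
  .negSucc 4, .negSucc 114, .negSucc 39, .ofNat 27, .ofNat 0, .ofNat 0, .ofNat 96, .negSucc 114, .ofNat 0,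
  .negSucc 45, .negSucc 31, .negSucc 26, .negSucc 10, .negSucc 77, .negSucc 45, .negSucc 30, .ofNat 60,
  .negSucc 15, .ofNat 90, .ofNat 186, .ofNat 55, .ofNat 0, .negSucc 25, .negSucc 14, .ofNat 26, .ofNat 0,
  .ofNat 0, .ofNat 104, .ofNat 0, .ofNat 0, .ofNat 109, .negSucc 31, .negSucc 24, .ofNat 0, .ofNat 0,
  .ofNat 0, .ofNat 0, .ofNat 84, .ofNat 55, .ofNat 29, .ofNat 125, .ofNat 135, .negSucc 35, .negSucc 98,
  .ofNat 0, .ofNat 0, .ofNat 0, .negSucc 65, .ofNat 0, .ofNat 40, .ofNat 0, .ofNat 4, .ofNat 0, .ofNat 96,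
  .ofNat 0, .ofNat 19, .negSucc 131, .negSucc 119, .ofNat 32, .negSucc 4, .negSucc 22, .negSucc 22,
  .ofNat 96, .negSucc 20, .ofNat 21, .ofNat 16, .ofNat 0, .ofNat 2, .ofNat 2, .ofNat 0, .ofNat 55, .ofNat 17,
  .ofNat 64, .ofNat 108, .ofNat 76, .negSucc 185, .ofNat 0, .ofNat 104, .negSucc 56, .ofNat 151, .ofNat 50,
  .negSucc 60, .ofNat 77, .ofNat 96, .ofNat 0, .negSucc 23, .negSucc 151, .negSucc 25, .ofNat 32, .ofNat 0,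
  .negSucc 43, .ofNat 0, .negSucc 30, .negSucc 14, .ofNat 0, .negSucc 31, .ofNat 0, .ofNat 0, .negSucc 127,
  .negSucc 25, .ofNat 43, .negSucc 43, .ofNat 0, .negSucc 9, .ofNat 0, .ofNat 0, .ofNat 0, .ofNat 0,
  .ofNat 0, .ofNat 0, .ofNat 4, .ofNat 0, .ofNat 46, .ofNat 42, .negSucc 105, .ofNat 52, .negSucc 41,
  .negSucc 127, .negSucc 127, .ofNat 130, .ofNat 0]

/-- the values at 8I -/
def col39 : List ℤ :=
  [.ofNat 1, .negSucc 0, .negSucc 4, .negSucc 1, .negSucc 1, .ofNat 7, .ofNat 5, .ofNat 10, .ofNat 3,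
  .ofNat 10, .negSucc 14, .negSucc 9, .ofNat 24, .negSucc 9, .ofNat 2, .negSucc 16, .ofNat 0, .negSucc 4,
  .negSucc 40, .ofNat 0, .negSucc 13, .ofNat 0, .negSucc 12, .ofNat 11, .ofNat 42, .ofNat 0, .negSucc 2,
  .ofNat 2, .ofNat 27, .negSucc 26, .negSucc 13, .negSucc 16, .negSucc 12, .ofNat 20, .ofNat 0, .ofNat 38,
  .negSucc 8, .ofNat 28, .negSucc 34, .negSucc 26, .negSucc 2, .ofNat 28, .ofNat 0, .negSucc 28, .ofNat 54,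
  .negSucc 53, .negSucc 49, .ofNat 0, .negSucc 3, .ofNat 0, .ofNat 12, .ofNat 57, .ofNat 4, .ofNat 0,
  .ofNat 63, .negSucc 34, .negSucc 71, .ofNat 55, .ofNat 0, .ofNat 0, .ofNat 0, .ofNat 17, .ofNat 0,
  .negSucc 5, .negSucc 31, .ofNat 65, .negSucc 2, .ofNat 50, .ofNat 82, .ofNat 81, .negSucc 19, .ofNat 48,
  .negSucc 5, .negSucc 5, .ofNat 31, .ofNat 0, .ofNat 54, .ofNat 41, .ofNat 18, .ofNat 0, .ofNat 0,
  .negSucc 23, .ofNat 0, .ofNat 0, .ofNat 57, .ofNat 0, .negSucc 8, .ofNat 0, .ofNat 0, .ofNat 0, .ofNat 0,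
  .negSucc 91, .ofNat 27, .ofNat 9, .negSucc 26, .negSucc 28, .negSucc 35, .negSucc 102, .ofNat 0, .ofNat 0,
  .ofNat 0, .ofNat 30, .ofNat 0, .ofNat 72, .ofNat 0, .negSucc 11, .ofNat 0, .negSucc 31, .ofNat 0,
  .negSucc 16, .negSucc 35, .negSucc 23, .ofNat 0, .ofNat 51, .ofNat 41, .negSucc 58, .negSucc 95,
  .negSucc 40, .negSucc 62, .negSucc 47, .ofNat 0, .ofNat 26, .negSucc 13, .ofNat 0, .ofNat 7, .negSucc 54,
  .ofNat 64, .negSucc 35, .ofNat 28, .ofNat 6, .ofNat 0, .negSucc 23, .negSucc 20, .negSucc 20, .negSucc 29,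
  .negSucc 44, .negSucc 74, .ofNat 0, .ofNat 0, .negSucc 23, .negSucc 23, .ofNat 54, .ofNat 96, .ofNat 0,
  .negSucc 11, .ofNat 0, .ofNat 61, .negSucc 2, .ofNat 0, .ofNat 0, .ofNat 0, .ofNat 0, .ofNat 0, .negSucc 1,
  .negSucc 20, .ofNat 4, .ofNat 0, .ofNat 54, .ofNat 0, .ofNat 0, .ofNat 0, .ofNat 0, .ofNat 0, .ofNat 0,
  .negSucc 11, .ofNat 0, .negSucc 25, .ofNat 50, .negSucc 121, .ofNat 84, .ofNat 134, .ofNat 0, .ofNat 0,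
  .ofNat 90, .ofNat 0]

/-- the values at 8J -/
def col40 : List ℤ :=
  [.ofNat 1, .ofNat 7, .ofNat 11, .ofNat 14, .ofNat 14, .ofNat 23, .ofNat 29, .ofNat 34, .ofNat 27,
  .ofNat 42, .ofNat 49, .ofNat 46, .ofNat 8, .ofNat 30, .ofNat 2, .ofNat 7, .ofNat 0, .ofNat 35, .negSucc 0,
  .ofNat 0, .ofNat 34, .ofNat 0, .ofNat 51, .negSucc 12, .ofNat 66, .ofNat 0, .ofNat 5, .negSucc 5,
  .negSucc 20, .negSucc 2, .ofNat 10, .ofNat 7, .negSucc 12, .ofNat 4, .ofNat 0, .negSucc 17, .negSucc 8,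
  .negSucc 19, .negSucc 18, .ofNat 13, .negSucc 10, .ofNat 28, .ofNat 0, .negSucc 4, .ofNat 6, .negSucc 37,
  .ofNat 6, .ofNat 0, .negSucc 3, .ofNat 0, .ofNat 12, .negSucc 38, .ofNat 4, .ofNat 0, .negSucc 24,
  .negSucc 10, .negSucc 23, .negSucc 48, .ofNat 0, .ofNat 0, .ofNat 0, .negSucc 46, .ofNat 0, .ofNat 18,
  .negSucc 31, .negSucc 38, .ofNat 45, .ofNat 2, .ofNat 2, .ofNat 1, .ofNat 28, .negSucc 15, .negSucc 29,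
  .negSucc 29, .negSucc 16, .ofNat 0, .ofNat 14, .ofNat 1, .negSucc 5, .ofNat 0, .ofNat 0, .ofNat 56,
  .ofNat 0, .ofNat 0, .ofNat 9, .ofNat 0, .ofNat 7, .ofNat 0, .ofNat 0, .ofNat 0, .ofNat 0, .negSucc 27,
  .negSucc 20, .negSucc 14, .ofNat 21, .ofNat 59, .ofNat 12, .ofNat 1, .ofNat 0, .ofNat 0, .ofNat 0,
  .ofNat 30, .ofNat 0, .negSucc 7, .ofNat 0, .negSucc 11, .ofNat 0, .ofNat 32, .ofNat 0, .negSucc 48,
  .ofNat 60, .ofNat 24, .ofNat 0, .ofNat 3, .ofNat 41, .negSucc 42, .ofNat 32, .ofNat 15, .negSucc 30,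
  .ofNat 16, .ofNat 0, .ofNat 2, .ofNat 2, .ofNat 0, .negSucc 0, .negSucc 22, .ofNat 0, .ofNat 12,
  .negSucc 35, .ofNat 54, .ofNat 0, .negSucc 39, .negSucc 20, .ofNat 27, .negSucc 21, .ofNat 3, .negSucc 26,
  .ofNat 0, .ofNat 0, .ofNat 24, .negSucc 71, .ofNat 6, .ofNat 32, .ofNat 0, .ofNat 36, .ofNat 0, .ofNat 77,
  .ofNat 21, .ofNat 0, .ofNat 0, .ofNat 0, .ofNat 0, .ofNat 0, .ofNat 6, .ofNat 27, .negSucc 43, .ofNat 0,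
  .negSucc 41, .ofNat 0, .ofNat 0, .ofNat 0, .ofNat 0, .ofNat 0, .ofNat 0, .negSucc 59, .ofNat 0, .negSucc 9,
  .negSucc 13, .ofNat 22, .negSucc 11, .negSucc 41, .ofNat 0, .ofNat 0, .ofNat 42, .ofNat 0]

/-- the values at 8K -/
def col41 : List ℤ :=
  [.ofNat 1, .ofNat 3, .ofNat 7, .negSucc 1, .ofNat 14, .negSucc 12, .ofNat 13, .ofNat 18, .ofNat 7,
  .negSucc 21, .negSucc 26, .ofNat 22, .ofNat 40, .negSucc 17, .ofNat 2, .negSucc 24, .ofNat 32, .negSucc 12,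
  .negSucc 4, .ofNat 0, .ofNat 18, .ofNat 0, .ofNat 15, .ofNat 23, .negSucc 21, .ofNat 32, .negSucc 58,
  .ofNat 34, .ofNat 15, .ofNat 5, .negSucc 21, .ofNat 15, .ofNat 11, .ofNat 20, .ofNat 64, .negSucc 17,
  .negSucc 56, .ofNat 28, .ofNat 21, .negSucc 10, .ofNat 21, .negSucc 51, .ofNat 0, .ofNat 27, .negSucc 41,
  .negSucc 5, .ofNat 14, .ofNat 32, .negSucc 51, .ofNat 0, .ofNat 44, .negSucc 38, .negSucc 43, .negSucc 63,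
  .negSucc 4, .ofNat 37, .ofNat 8, .negSucc 4, .ofNat 0, .ofNat 0, .negSucc 31, .ofNat 5, .ofNat 0,
  .negSucc 5, .ofNat 32, .negSucc 26, .negSucc 42, .ofNat 18, .ofNat 18, .negSucc 14, .ofNat 12, .ofNat 48,
  .ofNat 34, .ofNat 2, .negSucc 8, .ofNat 0, .negSucc 1, .negSucc 6, .ofNat 50, .ofNat 0, .ofNat 0,
  .negSucc 7, .ofNat 0, .ofNat 0, .negSucc 26, .negSucc 31, .ofNat 23, .ofNat 0, .ofNat 0, .ofNat 0,
  .ofNat 0, .negSucc 11, .ofNat 31, .negSucc 18, .negSucc 34, .ofNat 23, .ofNat 12, .negSucc 34, .ofNat 0,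
  .ofNat 0, .ofNat 0, .ofNat 46, .ofNat 0, .negSucc 39, .ofNat 0, .negSucc 27, .ofNat 0, .negSucc 31,
  .ofNat 0, .ofNat 43, .negSucc 35, .negSucc 7, .ofNat 32, .negSucc 36, .ofNat 41, .ofNat 17, .ofNat 32,
  .ofNat 11, .negSucc 18, .ofNat 16, .ofNat 0, .negSucc 37, .ofNat 34, .ofNat 0, .negSucc 16, .ofNat 1,
  .ofNat 0, .negSucc 3, .negSucc 19, .ofNat 38, .ofNat 0, .ofNat 24, .negSucc 32, .ofNat 15, .negSucc 5,
  .negSucc 44, .negSucc 18, .negSucc 31, .ofNat 0, .negSucc 39, .negSucc 7, .negSucc 25, .ofNat 32, .ofNat 0,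
  .ofNat 4, .ofNat 0, .ofNat 9, .negSucc 14, .ofNat 0, .negSucc 31, .ofNat 0, .ofNat 0, .ofNat 0, .ofNat 30,
  .ofNat 27, .ofNat 4, .ofNat 0, .ofNat 6, .ofNat 0, .ofNat 0, .ofNat 0, .ofNat 0, .ofNat 0, .ofNat 0,
  .negSucc 11, .ofNat 0, .ofNat 46, .negSucc 5, .ofNat 6, .negSucc 11, .ofNat 6, .ofNat 0, .ofNat 0,
  .ofNat 66, .ofNat 0]

/-- the values at 8L -/
def col42 : List ℤ :=
  [.ofNat 1, .negSucc 0, .negSucc 0, .ofNat 6, .ofNat 6, .negSucc 4, .ofNat 1, .ofNat 14, .negSucc 4,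
  .negSucc 5, .ofNat 5, .negSucc 13, .ofNat 0, .negSucc 13, .negSucc 5, .ofNat 11, .ofNat 0, .negSucc 0,
  .ofNat 15, .ofNat 0, .negSucc 5, .ofNat 0, .ofNat 15, .ofNat 11, .ofNat 6, .ofNat 0, .ofNat 25, .negSucc 9,
  .negSucc 0, .ofNat 9, .ofNat 30, .negSucc 4, .negSucc 4, .ofNat 36, .ofNat 0, .negSucc 29, .ofNat 31,
  .ofNat 36, .ofNat 5, .ofNat 9, .negSucc 30, .negSucc 19, .ofNat 0, .ofNat 7, .negSucc 9, .negSucc 29,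
  .ofNat 10, .ofNat 0, .negSucc 35, .negSucc 31, .ofNat 4, .ofNat 25, .negSucc 35, .ofNat 0, .negSucc 0,
  .negSucc 14, .ofNat 0, .ofNat 15, .ofNat 0, .ofNat 64, .ofNat 0, .negSucc 18, .ofNat 0, .ofNat 6, .ofNat 0,
  .ofNat 1, .negSucc 34, .ofNat 26, .negSucc 5, .negSucc 30, .negSucc 19, .ofNat 0, .ofNat 6, .ofNat 6,
  .ofNat 15, .ofNat 0, .ofNat 10, .ofNat 5, .negSucc 1, .negSucc 63, .ofNat 64, .ofNat 0, .ofNat 0,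
  .negSucc 63, .ofNat 5, .ofNat 0, .negSucc 24, .ofNat 0, .ofNat 32, .ofNat 0, .ofNat 0, .negSucc 19,
  .negSucc 0, .ofNat 1, .ofNat 29, .negSucc 4, .ofNat 4, .negSucc 14, .ofNat 0, .ofNat 0, .ofNat 0,
  .ofNat 30, .negSucc 63, .ofNat 0, .ofNat 0, .negSucc 19, .ofNat 0, .ofNat 0, .ofNat 0, .negSucc 4,
  .negSucc 3, .ofNat 0, .ofNat 0, .ofNat 35, .negSucc 14, .negSucc 14, .ofNat 0, .negSucc 0, .negSucc 34,
  .ofNat 0, .ofNat 0, .ofNat 46, .negSucc 13, .ofNat 64, .negSucc 4, .negSucc 14, .ofNat 0, .ofNat 20,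
  .negSucc 19, .ofNat 30, .ofNat 0, .ofNat 0, .negSucc 0, .ofNat 31, .negSucc 9, .ofNat 35, .ofNat 29,
  .ofNat 0, .ofNat 32, .ofNat 0, .ofNat 0, .negSucc 49, .ofNat 0, .negSucc 31, .ofNat 4, .ofNat 0,
  .negSucc 14, .ofNat 5, .ofNat 64, .ofNat 0, .ofNat 0, .ofNat 0, .ofNat 0, .ofNat 50, .negSucc 28,
  .negSucc 19, .negSucc 63, .ofNat 30, .ofNat 0, .ofNat 0, .ofNat 0, .ofNat 0, .ofNat 0, .ofNat 0, .ofNat 20,
  .ofNat 0, .negSucc 9, .ofNat 10, .ofNat 30, .negSucc 59, .ofNat 30, .ofNat 0, .ofNat 0, .negSucc 69,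
  .ofNat 0]

/-- the values at 8M -/
def col43 : List ℤ :=
  [.ofNat 1, .negSucc 0, .ofNat 3, .negSucc 1, .negSucc 1, .negSucc 0, .negSucc 2, .ofNat 2, .ofNat 3,
  .negSucc 5, .ofNat 9, .negSucc 1, .ofNat 8, .negSucc 1, .ofNat 18, .ofNat 7, .ofNat 0, .ofNat 3, .ofNat 7,
  .ofNat 0, .negSucc 13, .ofNat 0, .negSucc 4, .negSucc 4, .ofNat 18, .ofNat 0, .ofNat 5, .ofNat 10,
  .ofNat 3, .negSucc 18, .ofNat 42, .negSucc 8, .ofNat 3, .ofNat 4, .ofNat 0, .ofNat 14, .negSucc 8,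
  .negSucc 19, .ofNat 29, .negSucc 2, .ofNat 21, .negSucc 3, .ofNat 0, .negSucc 4, .negSucc 9, .ofNat 10,
  .ofNat 22, .ofNat 0, .negSucc 3, .ofNat 0, .ofNat 12, .negSucc 6, .ofNat 4, .ofNat 0, .negSucc 0,
  .negSucc 10, .negSucc 23, .ofNat 23, .ofNat 0, .ofNat 0, .ofNat 0, .ofNat 9, .ofNat 0, .ofNat 34,
  .negSucc 31, .ofNat 1, .negSucc 2, .negSucc 13, .ofNat 18, .ofNat 1, .negSucc 3, .negSucc 15, .negSucc 29,
  .negSucc 29, .negSucc 0, .ofNat 0, .ofNat 14, .ofNat 17, .negSucc 21, .ofNat 0, .ofNat 0, .negSucc 7,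
  .ofNat 0, .ofNat 0, .negSucc 14, .ofNat 0, .ofNat 39, .ofNat 0, .ofNat 0, .ofNat 0, .ofNat 0, .ofNat 4,
  .ofNat 3, .ofNat 25, .negSucc 26, .negSucc 12, .ofNat 12, .negSucc 6, .ofNat 0, .ofNat 0, .ofNat 0,
  .negSucc 17, .ofNat 0, .negSucc 7, .ofNat 0, .negSucc 11, .ofNat 0, .ofNat 32, .ofNat 0, .ofNat 7,
  .negSucc 3, .ofNat 24, .ofNat 0, .negSucc 12, .ofNat 9, .ofNat 13, .ofNat 32, .negSucc 8, .negSucc 6,
  .ofNat 16, .ofNat 0, .negSucc 13, .negSucc 13, .ofNat 0, .ofNat 31, .ofNat 25, .ofNat 0, .ofNat 12,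
  .ofNat 28, .ofNat 6, .ofNat 0, .ofNat 24, .ofNat 3, .ofNat 3, .negSucc 21, .ofNat 3, .negSucc 10, .ofNat 0,
  .ofNat 0, .negSucc 39, .negSucc 7, .negSucc 9, .ofNat 32, .ofNat 0, .negSucc 27, .ofNat 0, .ofNat 5,
  .negSucc 2, .ofNat 0, .ofNat 0, .ofNat 0, .ofNat 0, .ofNat 0, .negSucc 9, .negSucc 4, .negSucc 11,
  .ofNat 0, .ofNat 38, .ofNat 0, .ofNat 0, .ofNat 0, .ofNat 0, .ofNat 0, .ofNat 0, .ofNat 4, .ofNat 0,
  .negSucc 25, .ofNat 2, .negSucc 9, .negSucc 43, .negSucc 9, .ofNat 0, .ofNat 0, .negSucc 37, .ofNat 0]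

/-- the values at 8N -/
def col44 : List ℤ :=
  [.ofNat 1, .negSucc 0, .negSucc 0, .negSucc 1, .negSucc 1, .ofNat 3, .ofNat 1, .negSucc 1, .ofNat 3,
  .ofNat 2, .negSucc 2, .ofNat 2, .ofNat 0, .ofNat 2, .ofNat 2, .negSucc 4, .ofNat 0, .negSucc 0, .ofNat 7,
  .ofNat 0, .ofNat 2, .ofNat 0, .ofNat 7, .ofNat 11, .negSucc 9, .ofNat 0, .negSucc 6, .negSucc 9,
  .negSucc 8, .ofNat 9, .ofNat 14, .ofNat 11, .ofNat 11, .ofNat 4, .ofNat 0, .negSucc 13, .ofNat 15,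
  .ofNat 4, .negSucc 10, .ofNat 9, .negSucc 14, .negSucc 3, .ofNat 0, .ofNat 7, .negSucc 17, .negSucc 5,
  .negSucc 21, .ofNat 0, .negSucc 3, .ofNat 32, .negSucc 11, .ofNat 9, .negSucc 3, .ofNat 0, .negSucc 8,
  .ofNat 1, .ofNat 0, .ofNat 7, .ofNat 0, .ofNat 0, .ofNat 0, .ofNat 5, .ofNat 0, .ofNat 6, .ofNat 0,
  .ofNat 9, .negSucc 2, .negSucc 13, .ofNat 2, .negSucc 14, .negSucc 3, .ofNat 0, .ofNat 6, .ofNat 6,
  .negSucc 0, .ofNat 0, .ofNat 10, .negSucc 10, .negSucc 17, .ofNat 0, .ofNat 0, .ofNat 0, .ofNat 0,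
  .ofNat 0, .negSucc 2, .ofNat 0, .ofNat 7, .ofNat 0, .negSucc 31, .ofNat 0, .ofNat 0, .negSucc 3,
  .negSucc 8, .ofNat 9, .negSucc 2, .ofNat 11, .negSucc 11, .ofNat 1, .ofNat 0, .ofNat 0, .ofNat 0, .ofNat 6,
  .ofNat 0, .ofNat 0, .ofNat 0, .ofNat 12, .ofNat 0, .ofNat 0, .ofNat 0, .ofNat 11, .ofNat 12, .ofNat 0,
  .ofNat 0, .ofNat 3, .ofNat 1, .ofNat 1, .ofNat 0, .negSucc 8, .negSucc 2, .ofNat 0, .ofNat 0, .ofNat 14,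
  .ofNat 10, .ofNat 0, .ofNat 11, .ofNat 1, .ofNat 0, .negSucc 11, .ofNat 12, .ofNat 6, .ofNat 0, .ofNat 0,
  .negSucc 8, .ofNat 15, .negSucc 9, .ofNat 3, .negSucc 2, .ofNat 0, .negSucc 31, .ofNat 0, .ofNat 0,
  .ofNat 6, .ofNat 0, .ofNat 32, .negSucc 11, .ofNat 0, .ofNat 1, .negSucc 2, .ofNat 0, .ofNat 0, .ofNat 0,
  .ofNat 0, .ofNat 0, .ofNat 2, .ofNat 3, .negSucc 3, .ofNat 0, .ofNat 6, .ofNat 0, .ofNat 0, .ofNat 0,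
  .ofNat 0, .ofNat 0, .ofNat 0, .negSucc 11, .ofNat 0, .ofNat 22, .negSucc 21, .negSucc 1, .negSucc 11,
  .ofNat 30, .ofNat 0, .ofNat 0, .negSucc 5, .ofNat 0]

/-- the values at 9A -/
def col45 : List ℤ :=
  [.ofNat 1, .negSucc 2, .ofNat 0, .ofNat 1, .ofNat 2, .ofNat 6, .ofNat 0, .negSucc 2, .ofNat 2, .negSucc 6,
  .ofNat 0, .ofNat 6, .ofNat 0, .negSucc 5, .negSucc 2, .negSucc 2, .ofNat 3, .negSucc 7, .negSucc 1,
  .ofNat 15, .ofNat 1, .ofNat 0, .ofNat 0, .ofNat 0, .ofNat 9, .ofNat 0, .ofNat 0, .ofNat 0, .ofNat 0,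
  .ofNat 0, .ofNat 3, .ofNat 8, .ofNat 0, .ofNat 0, .negSucc 14, .ofNat 9, .ofNat 0, .negSucc 8, .ofNat 26,
  .ofNat 0, .ofNat 0, .ofNat 0, .negSucc 8, .negSucc 11, .ofNat 18, .ofNat 0, .ofNat 0, .ofNat 27, .ofNat 0,
  .ofNat 19, .ofNat 0, .ofNat 0, .ofNat 0, .ofNat 0, .ofNat 0, .ofNat 18, .ofNat 0, .ofNat 0, .ofNat 2,
  .ofNat 0, .ofNat 0, .ofNat 0, .negSucc 23, .ofNat 0, .ofNat 3, .ofNat 0, .ofNat 0, .ofNat 6, .ofNat 6,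
  .ofNat 0, .ofNat 7, .negSucc 7, .ofNat 0, .ofNat 0, .ofNat 27, .ofNat 0, .negSucc 5, .ofNat 0, .ofNat 0,
  .negSucc 5, .negSucc 5, .ofNat 0, .ofNat 0, .ofNat 0, .ofNat 0, .ofNat 0, .negSucc 17, .ofNat 0, .ofNat 9,
  .negSucc 14, .ofNat 8, .ofNat 21, .ofNat 0, .ofNat 0, .ofNat 0, .ofNat 0, .ofNat 0, .negSucc 17, .ofNat 0,
  .ofNat 0, .negSucc 9, .ofNat 0, .ofNat 0, .ofNat 9, .ofNat 0, .ofNat 0, .ofNat 8, .ofNat 9, .negSucc 5,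
  .ofNat 0, .ofNat 0, .ofNat 0, .ofNat 0, .ofNat 0, .negSucc 32, .ofNat 21, .ofNat 33, .ofNat 0, .ofNat 0,
  .ofNat 0, .ofNat 0, .ofNat 0, .ofNat 0, .ofNat 18, .ofNat 0, .ofNat 0, .ofNat 12, .negSucc 16, .negSucc 16,
  .ofNat 0, .negSucc 15, .negSucc 26, .ofNat 0, .ofNat 0, .ofNat 0, .ofNat 0, .ofNat 0, .negSucc 23,
  .ofNat 10, .ofNat 0, .ofNat 0, .ofNat 0, .ofNat 0, .ofNat 0, .ofNat 0, .ofNat 0, .ofNat 0, .ofNat 0,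
  .negSucc 17, .ofNat 0, .ofNat 16, .ofNat 16, .ofNat 0, .ofNat 0, .ofNat 0, .ofNat 0, .ofNat 0, .ofNat 0,
  .ofNat 0, .ofNat 24, .ofNat 24, .negSucc 5, .ofNat 0, .negSucc 20, .negSucc 23, .ofNat 3, .negSucc 11,
  .negSucc 29, .ofNat 0, .ofNat 0, .ofNat 48, .ofNat 20, .ofNat 0, .ofNat 0, .ofNat 16]

/-- the values at 9B -/
def col46 : List ℤ :=
  [.ofNat 1, .ofNat 6, .ofNat 9, .ofNat 10, .ofNat 11, .ofNat 15, .ofNat 18, .ofNat 15, .ofNat 20, .ofNat 11,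
  .ofNat 9, .ofNat 6, .ofNat 9, .ofNat 21, .negSucc 2, .ofNat 6, .ofNat 3, .ofNat 19, .negSucc 1, .ofNat 6,
  .ofNat 10, .ofNat 9, .ofNat 0, .ofNat 0, .ofNat 0, .ofNat 0, .ofNat 0, .ofNat 0, .ofNat 0, .ofNat 0,
  .negSucc 5, .negSucc 9, .ofNat 0, .negSucc 8, .negSucc 5, .negSucc 8, .ofNat 0, .ofNat 0, .ofNat 8,
  .negSucc 8, .negSucc 8, .negSucc 8, .negSucc 8, .negSucc 11, .ofNat 0, .negSucc 8, .ofNat 0, .ofNat 0,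
  .ofNat 0, .ofNat 10, .ofNat 0, .ofNat 0, .negSucc 8, .ofNat 0, .ofNat 0, .ofNat 9, .negSucc 8, .ofNat 0,
  .ofNat 2, .negSucc 8, .ofNat 0, .ofNat 0, .negSucc 14, .ofNat 0, .negSucc 5, .ofNat 0, .ofNat 0,
  .negSucc 2, .negSucc 2, .ofNat 0, .negSucc 1, .ofNat 10, .ofNat 0, .ofNat 0, .ofNat 0, .ofNat 9,
  .negSucc 14, .ofNat 9, .ofNat 0, .ofNat 12, .ofNat 12, .ofNat 0, .ofNat 0, .ofNat 0, .ofNat 0, .ofNat 9,
  .ofNat 0, .ofNat 0, .negSucc 8, .ofNat 12, .negSucc 18, .ofNat 12, .ofNat 0, .ofNat 0, .ofNat 0,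
  .negSucc 8, .ofNat 0, .negSucc 8, .ofNat 0, .negSucc 17, .ofNat 8, .ofNat 0, .negSucc 8, .ofNat 0,
  .ofNat 0, .ofNat 9, .ofNat 8, .ofNat 9, .ofNat 3, .ofNat 18, .ofNat 0, .ofNat 0, .ofNat 0, .ofNat 0,
  .negSucc 14, .ofNat 21, .negSucc 2, .ofNat 0, .ofNat 0, .negSucc 8, .negSucc 8, .ofNat 0, .ofNat 0,
  .negSucc 8, .ofNat 9, .ofNat 0, .ofNat 21, .ofNat 1, .ofNat 1, .ofNat 0, .ofNat 20, .ofNat 0, .ofNat 0,
  .ofNat 0, .ofNat 0, .ofNat 0, .ofNat 0, .negSucc 5, .ofNat 19, .ofNat 0, .ofNat 0, .ofNat 0, .negSucc 8,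
  .ofNat 0, .ofNat 0, .ofNat 0, .ofNat 0, .ofNat 0, .ofNat 9, .ofNat 0, .negSucc 19, .negSucc 19, .ofNat 0,
  .ofNat 0, .ofNat 0, .ofNat 9, .ofNat 0, .ofNat 0, .ofNat 9, .negSucc 11, .negSucc 11, .negSucc 5, .ofNat 0,
  .ofNat 6, .ofNat 12, .ofNat 12, .ofNat 6, .ofNat 6, .ofNat 0, .ofNat 0, .ofNat 12, .ofNat 2, .ofNat 0,
  .ofNat 0, .negSucc 19]

/-- the values at 10A -/
def col47 : List ℤ :=
  [.ofNat 1, .ofNat 7, .ofNat 13, .ofNat 13, .ofNat 21, .ofNat 14, .ofNat 23, .ofNat 21, .ofNat 48,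
  .negSucc 12, .negSucc 41, .negSucc 36, .ofNat 56, .ofNat 43, .ofNat 43, .negSucc 0, .ofNat 48, .ofNat 21,
  .ofNat 0, .ofNat 70, .ofNat 1, .ofNat 34, .negSucc 41, .ofNat 21, .negSucc 90, .ofNat 70, .ofNat 20,
  .ofNat 64, .ofNat 49, .negSucc 42, .ofNat 0, .negSucc 19, .negSucc 55, .ofNat 69, .negSucc 27, .negSucc 19,
  .negSucc 6, .negSucc 20, .ofNat 0, .ofNat 119, .negSucc 34, .negSucc 69, .negSucc 27, .ofNat 112,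
  .ofNat 22, .ofNat 112, .ofNat 0, .negSucc 69, .negSucc 48, .negSucc 27, .negSucc 62, .negSucc 63,
  .ofNat 35, .ofNat 48, .negSucc 20, .ofNat 0, .ofNat 20, .ofNat 36, .negSucc 55, .ofNat 7, .negSucc 35,
  .negSucc 68, .ofNat 70, .negSucc 62, .ofNat 0, .negSucc 62, .ofNat 70, .ofNat 21, .negSucc 90, .ofNat 21,
  .ofNat 0, .ofNat 0, .negSucc 26, .negSucc 62, .ofNat 70, .ofNat 14, .ofNat 0, .ofNat 0, .ofNat 48,
  .negSucc 42, .negSucc 26, .ofNat 0, .negSucc 69, .ofNat 37, .ofNat 22, .negSucc 69, .ofNat 0, .ofNat 48,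
  .negSucc 111, .ofNat 48, .ofNat 20, .ofNat 0, .negSucc 20, .negSucc 20, .negSucc 46, .ofNat 0, .ofNat 91,
  .ofNat 0, .negSucc 97, .ofNat 56, .ofNat 56, .ofNat 42, .negSucc 42, .ofNat 20, .ofNat 0, .ofNat 0,
  .ofNat 0, .ofNat 0, .negSucc 69, .ofNat 0, .ofNat 49, .negSucc 83, .ofNat 0, .negSucc 19, .ofNat 0,
  .ofNat 0, .ofNat 0, .negSucc 90, .ofNat 0, .ofNat 0, .negSucc 83, .ofNat 69, .negSucc 68, .ofNat 133,
  .ofNat 0, .ofNat 0, .ofNat 0, .ofNat 0, .ofNat 0, .negSucc 41, .ofNat 0, .ofNat 0, .ofNat 63, .ofNat 63,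
  .negSucc 19, .negSucc 19, .negSucc 132, .ofNat 0, .ofNat 48, .ofNat 36, .ofNat 0, .ofNat 112, .ofNat 0,
  .negSucc 35, .ofNat 21, .negSucc 69, .ofNat 0, .negSucc 47, .negSucc 90, .ofNat 34, .negSucc 63, .ofNat 64,
  .ofNat 0, .ofNat 0, .negSucc 90, .ofNat 0, .ofNat 71, .ofNat 36, .ofNat 20, .negSucc 63, .ofNat 64,
  .ofNat 48, .negSucc 69, .ofNat 0, .ofNat 0, .ofNat 70, .ofNat 0, .ofNat 0, .ofNat 0, .negSucc 71, .ofNat 0,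
  .ofNat 0, .ofNat 0, .ofNat 0, .ofNat 0]

/-- the values at 10B -/
def col48 : List ℤ :=
  [.ofNat 1, .ofNat 5, .ofNat 7, .ofNat 3, .ofNat 15, .ofNat 2, .ofNat 17, .ofNat 11, .ofNat 10, .negSucc 8,
  .ofNat 8, .ofNat 19, .ofNat 18, .negSucc 4, .ofNat 19, .negSucc 20, .ofNat 38, .ofNat 5, .ofNat 6,
  .negSucc 9, .ofNat 15, .ofNat 14, .ofNat 20, .negSucc 12, .ofNat 5, .ofNat 28, .negSucc 49, .ofNat 0,
  .ofNat 25, .negSucc 14, .ofNat 0, .negSucc 49, .ofNat 4, .ofNat 25, .ofNat 22, .negSucc 49, .negSucc 4,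
  .ofNat 15, .ofNat 0, .ofNat 17, .negSucc 30, .negSucc 9, .ofNat 4, .ofNat 20, .ofNat 20, .ofNat 10,
  .ofNat 0, .negSucc 9, .ofNat 31, .negSucc 19, .ofNat 35, .ofNat 0, .ofNat 31, .ofNat 38, .ofNat 5,
  .ofNat 0, .negSucc 49, .ofNat 12, .ofNat 54, .negSucc 10, .negSucc 9, .ofNat 25, .negSucc 9, .ofNat 1,
  .ofNat 0, .ofNat 15, .ofNat 10, .negSucc 4, .negSucc 4, .negSucc 14, .ofNat 0, .ofNat 0, .ofNat 5,
  .negSucc 4, .ofNat 10, .ofNat 30, .ofNat 0, .ofNat 0, .negSucc 19, .negSucc 4, .negSucc 4, .ofNat 0,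
  .ofNat 18, .ofNat 19, .negSucc 19, .negSucc 9, .ofNat 0, .negSucc 53, .ofNat 20, .negSucc 31, .ofNat 50,
  .ofNat 0, .negSucc 14, .negSucc 48, .negSucc 16, .ofNat 0, .negSucc 4, .ofNat 0, .ofNat 6, .negSucc 19,
  .ofNat 24, .negSucc 21, .ofNat 15, .ofNat 50, .ofNat 0, .ofNat 0, .ofNat 0, .ofNat 0, .ofNat 10, .ofNat 0,
  .negSucc 16, .ofNat 2, .ofNat 0, .negSucc 49, .ofNat 0, .ofNat 0, .ofNat 0, .negSucc 4, .ofNat 0, .ofNat 0,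
  .ofNat 8, .ofNat 25, .ofNat 25, .negSucc 24, .ofNat 0, .ofNat 0, .ofNat 0, .ofNat 0, .ofNat 0, .negSucc 19,
  .negSucc 63, .ofNat 0, .ofNat 33, .negSucc 14, .ofNat 50, .ofNat 50, .negSucc 24, .ofNat 0, .ofNat 20,
  .ofNat 24, .ofNat 0, .negSucc 9, .ofNat 0, .ofNat 60, .ofNat 5, .negSucc 1, .ofNat 0, .ofNat 10, .ofNat 39,
  .negSucc 19, .ofNat 0, .ofNat 0, .ofNat 0, .ofNat 0, .negSucc 38, .ofNat 0, .negSucc 30, .negSucc 11,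
  .negSucc 49, .ofNat 0, .ofNat 0, .ofNat 32, .ofNat 10, .ofNat 0, .ofNat 0, .negSucc 9, .ofNat 0, .ofNat 0,
  .ofNat 0, .negSucc 35, .ofNat 0, .ofNat 0, .ofNat 0, .ofNat 0, .ofNat 0]

/-- the values at 10C -/
def col49 : List ℤ :=
  [.ofNat 1, .negSucc 2, .ofNat 3, .ofNat 7, .ofNat 11, .negSucc 5, .negSucc 10, .negSucc 0, .negSucc 1,
  .ofNat 19, .ofNat 8, .negSucc 16, .ofNat 18, .negSucc 16, .negSucc 0, .ofNat 7, .negSucc 17, .ofNat 1,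
  .ofNat 10, .ofNat 10, .ofNat 15, .ofNat 2, .ofNat 12, .ofNat 27, .negSucc 18, .ofNat 8, .negSucc 9,
  .negSucc 15, .ofNat 17, .negSucc 26, .ofNat 0, .negSucc 9, .negSucc 19, .ofNat 9, .ofNat 6, .negSucc 9,
  .ofNat 35, .ofNat 11, .ofNat 0, .ofNat 1, .ofNat 21, .ofNat 10, .ofNat 28, .negSucc 7, .ofNat 28,
  .negSucc 17, .ofNat 0, .ofNat 10, .negSucc 0, .ofNat 0, .negSucc 24, .negSucc 15, .negSucc 8, .negSucc 17,
  .ofNat 1, .ofNat 0, .negSucc 9, .ofNat 0, .ofNat 14, .negSucc 6, .ofNat 6, .ofNat 9, .ofNat 10, .ofNat 17,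
  .ofNat 0, .negSucc 44, .negSucc 9, .negSucc 0, .ofNat 19, .negSucc 10, .ofNat 0, .ofNat 0, .negSucc 2,
  .ofNat 3, .negSucc 9, .ofNat 10, .ofNat 0, .ofNat 0, .negSucc 7, .negSucc 16, .ofNat 3, .ofNat 0, .ofNat 6,
  .negSucc 16, .negSucc 27, .ofNat 10, .ofNat 0, .ofNat 34, .negSucc 7, .ofNat 0, .ofNat 10, .ofNat 0,
  .negSucc 10, .ofNat 31, .ofNat 11, .ofNat 0, .ofNat 19, .ofNat 0, .negSucc 37, .negSucc 19, .ofNat 0,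
  .negSucc 5, .ofNat 27, .ofNat 10, .ofNat 0, .ofNat 0, .ofNat 32, .ofNat 0, .negSucc 9, .ofNat 0,
  .negSucc 0, .negSucc 5, .ofNat 0, .negSucc 9, .ofNat 0, .ofNat 0, .ofNat 0, .ofNat 19, .ofNat 0, .ofNat 0,
  .ofNat 8, .ofNat 9, .ofNat 9, .ofNat 7, .ofNat 0, .ofNat 0, .ofNat 0, .ofNat 0, .ofNat 0, .negSucc 11,
  .ofNat 0, .ofNat 0, .negSucc 26, .negSucc 26, .ofNat 10, .ofNat 10, .ofNat 7, .ofNat 0, .ofNat 8,
  .negSucc 7, .ofNat 0, .ofNat 18, .ofNat 0, .ofNat 0, .ofNat 1, .negSucc 5, .ofNat 0, .negSucc 1, .ofNat 7,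
  .negSucc 15, .ofNat 16, .ofNat 16, .ofNat 0, .ofNat 0, .negSucc 6, .ofNat 0, .ofNat 17, .ofNat 0,
  .negSucc 9, .negSucc 15, .negSucc 15, .ofNat 0, .negSucc 9, .ofNat 0, .ofNat 0, .ofNat 10, .ofNat 0,
  .ofNat 0, .ofNat 0, .ofNat 36, .ofNat 0, .ofNat 0, .ofNat 0, .ofNat 0, .ofNat 0]

/-- the values at 10D -/
def col50 : List ℤ :=
  [.ofNat 1, .ofNat 0, .negSucc 2, .ofNat 3, .ofNat 0, .ofNat 2, .negSucc 2, .ofNat 1, .ofNat 0, .negSucc 8,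
  .ofNat 3, .ofNat 9, .ofNat 8, .ofNat 0, .negSucc 5, .ofNat 9, .ofNat 3, .ofNat 0, .ofNat 16, .ofNat 0,
  .negSucc 14, .ofNat 4, .ofNat 0, .ofNat 12, .ofNat 0, .ofNat 3, .ofNat 0, .ofNat 0, .ofNat 0, .ofNat 0,
  .ofNat 10, .ofNat 0, .negSucc 10, .ofNat 0, .negSucc 12, .ofNat 0, .ofNat 0, .ofNat 0, .ofNat 0,
  .negSucc 2, .ofNat 9, .ofNat 0, .ofNat 24, .ofNat 0, .ofNat 0, .ofNat 0, .negSucc 14, .ofNat 0, .ofNat 6,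
  .ofNat 10, .ofNat 15, .ofNat 0, .ofNat 11, .ofNat 3, .ofNat 0, .ofNat 0, .ofNat 0, .negSucc 47, .ofNat 24,
  .ofNat 24, .ofNat 15, .ofNat 0, .ofNat 0, .negSucc 8, .ofNat 0, .negSucc 9, .ofNat 0, .ofNat 0, .ofNat 0,
  .ofNat 0, .ofNat 0, .ofNat 0, .ofNat 0, .ofNat 15, .ofNat 0, .ofNat 0, .ofNat 0, .ofNat 0, .ofNat 0,
  .ofNat 0, .ofNat 0, .negSucc 14, .ofNat 48, .ofNat 24, .ofNat 0, .ofNat 0, .ofNat 0, .negSucc 23, .ofNat 0,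
  .ofNat 28, .ofNat 0, .ofNat 0, .ofNat 0, .negSucc 23, .negSucc 11, .ofNat 0, .ofNat 0, .ofNat 0,
  .negSucc 23, .ofNat 0, .negSucc 15, .ofNat 18, .ofNat 0, .ofNat 0, .ofNat 0, .ofNat 0, .ofNat 0,
  .negSucc 9, .ofNat 0, .ofNat 0, .ofNat 3, .negSucc 17, .ofNat 0, .ofNat 0, .ofNat 0, .ofNat 0, .ofNat 0,
  .ofNat 0, .ofNat 0, .ofNat 45, .negSucc 1, .ofNat 0, .ofNat 0, .ofNat 0, .ofNat 0, .ofNat 0, .ofNat 0,
  .ofNat 0, .ofNat 0, .ofNat 0, .ofNat 16, .ofNat 0, .ofNat 3, .ofNat 15, .ofNat 0, .ofNat 0, .ofNat 0,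
  .ofNat 0, .ofNat 0, .ofNat 9, .ofNat 0, .ofNat 0, .ofNat 0, .negSucc 9, .ofNat 0, .ofNat 28, .ofNat 0,
  .ofNat 0, .ofNat 24, .ofNat 15, .ofNat 0, .ofNat 0, .ofNat 0, .negSucc 24, .negSucc 23, .ofNat 0,
  .ofNat 24, .ofNat 33, .ofNat 0, .ofNat 0, .ofNat 0, .negSucc 47, .ofNat 0, .negSucc 19, .ofNat 0, .ofNat 0,
  .ofNat 0, .ofNat 0, .negSucc 29, .negSucc 5, .ofNat 0, .ofNat 0, .ofNat 0, .ofNat 0, .ofNat 0]

/-- the values at 10E -/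
def col51 : List ℤ :=
  [.ofNat 1, .negSucc 0, .ofNat 5, .negSucc 2, .ofNat 5, .negSucc 9, .negSucc 0, .ofNat 13, .ofNat 0,
  .negSucc 4, .negSucc 9, .ofNat 11, .ofNat 16, .negSucc 4, .ofNat 3, .ofNat 15, .negSucc 7, .ofNat 5,
  .negSucc 15, .negSucc 9, .ofNat 1, .negSucc 13, .negSucc 9, .ofNat 13, .ofNat 5, .ofNat 14, .negSucc 19,
  .ofNat 0, .negSucc 6, .ofNat 5, .ofNat 0, .ofNat 20, .ofNat 8, .ofNat 5, .ofNat 12, .ofNat 20, .ofNat 1,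
  .negSucc 4, .ofNat 0, .ofNat 15, .ofNat 13, .ofNat 10, .negSucc 27, .ofNat 0, .negSucc 9, .ofNat 0,
  .ofNat 0, .ofNat 10, .negSucc 16, .negSucc 11, .ofNat 9, .ofNat 0, .ofNat 3, .negSucc 7, .negSucc 4,
  .ofNat 0, .negSucc 19, .ofNat 12, .negSucc 15, .negSucc 8, .ofNat 20, .negSucc 4, .negSucc 9, .ofNat 1,
  .ofNat 0, .negSucc 14, .negSucc 9, .ofNat 5, .ofNat 5, .ofNat 5, .ofNat 0, .ofNat 0, .ofNat 5, .ofNat 25,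
  .negSucc 9, .negSucc 1, .ofNat 0, .ofNat 0, .ofNat 0, .ofNat 5, .ofNat 5, .ofNat 0, .ofNat 10, .negSucc 10,
  .negSucc 9, .ofNat 10, .ofNat 0, .negSucc 7, .ofNat 0, .ofNat 16, .negSucc 19, .ofNat 0, .negSucc 4,
  .negSucc 12, .negSucc 6, .ofNat 0, .negSucc 4, .ofNat 0, .negSucc 17, .negSucc 7, .negSucc 7, .negSucc 13,
  .ofNat 5, .negSucc 19, .ofNat 0, .ofNat 0, .ofNat 0, .ofNat 0, .ofNat 10, .ofNat 0, .ofNat 41, .ofNat 4,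
  .ofNat 0, .ofNat 20, .ofNat 0, .ofNat 0, .ofNat 0, .ofNat 5, .ofNat 0, .ofNat 0, .negSucc 19, .ofNat 5,
  .negSucc 4, .ofNat 5, .ofNat 0, .ofNat 0, .ofNat 0, .ofNat 0, .ofNat 0, .negSucc 9, .ofNat 0, .ofNat 0,
  .ofNat 15, .negSucc 8, .ofNat 20, .ofNat 20, .negSucc 4, .ofNat 0, .ofNat 0, .ofNat 4, .ofNat 0, .ofNat 0,
  .ofNat 0, .ofNat 12, .ofNat 5, .ofNat 10, .ofNat 0, .ofNat 0, .negSucc 26, .ofNat 26, .ofNat 0, .ofNat 0,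
  .ofNat 0, .ofNat 0, .negSucc 26, .ofNat 0, .negSucc 24, .ofNat 12, .negSucc 19, .ofNat 0, .ofNat 0,
  .ofNat 16, .ofNat 10, .ofNat 0, .ofNat 0, .negSucc 9, .ofNat 0, .ofNat 0, .ofNat 0, .ofNat 24, .ofNat 0,
  .ofNat 0, .ofNat 0, .ofNat 0, .ofNat 0]

/-- the values at 10F -/
def col52 : List ℤ :=
  [.ofNat 1, .ofNat 4, .ofNat 5, .ofNat 7, .ofNat 0, .ofNat 10, .ofNat 9, .ofNat 13, .ofNat 0, .ofNat 15,
  .ofNat 15, .ofNat 21, .negSucc 3, .ofNat 0, .negSucc 1, .ofNat 5, .negSucc 12, .ofNat 0, .ofNat 4,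
  .ofNat 0, .ofNat 1, .negSucc 3, .ofNat 0, .ofNat 8, .ofNat 0, .negSucc 20, .ofNat 0, .ofNat 0, .negSucc 11,
  .ofNat 0, .ofNat 10, .ofNat 0, .ofNat 13, .ofNat 0, .ofNat 7, .ofNat 0, .negSucc 23, .ofNat 0, .ofNat 0,
  .ofNat 5, .ofNat 13, .ofNat 0, .ofNat 12, .ofNat 0, .ofNat 0, .ofNat 0, .ofNat 5, .ofNat 0, .negSucc 21,
  .negSucc 1, .negSucc 20, .ofNat 0, .ofNat 3, .ofNat 7, .ofNat 0, .ofNat 0, .ofNat 0, .ofNat 12, .ofNat 4,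
  .ofNat 16, .ofNat 15, .ofNat 0, .ofNat 0, .negSucc 8, .ofNat 0, .negSucc 9, .ofNat 0, .ofNat 0, .ofNat 0,
  .ofNat 0, .ofNat 0, .ofNat 0, .ofNat 0, .ofNat 15, .ofNat 0, .ofNat 8, .ofNat 0, .ofNat 0, .ofNat 0,
  .ofNat 0, .ofNat 0, .negSucc 14, .ofNat 0, .ofNat 24, .ofNat 0, .ofNat 0, .ofNat 0, .ofNat 12, .ofNat 0,
  .negSucc 3, .ofNat 0, .ofNat 0, .ofNat 0, .ofNat 12, .negSucc 11, .ofNat 0, .ofNat 0, .ofNat 0, .ofNat 12,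
  .ofNat 12, .negSucc 7, .ofNat 6, .ofNat 0, .ofNat 0, .ofNat 0, .ofNat 0, .ofNat 0, .negSucc 9, .ofNat 0,
  .ofNat 0, .negSucc 8, .negSucc 5, .ofNat 0, .ofNat 0, .ofNat 0, .ofNat 0, .ofNat 0, .ofNat 0, .ofNat 0,
  .negSucc 14, .ofNat 10, .ofNat 0, .ofNat 0, .ofNat 0, .ofNat 0, .ofNat 0, .ofNat 0, .ofNat 0, .ofNat 0,
  .ofNat 0, .ofNat 0, .ofNat 0, .ofNat 15, .negSucc 8, .ofNat 0, .ofNat 0, .ofNat 0, .ofNat 0, .ofNat 0,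
  .ofNat 9, .ofNat 0, .ofNat 0, .ofNat 0, .ofNat 2, .ofNat 0, .ofNat 0, .ofNat 0, .ofNat 0, .ofNat 8,
  .negSucc 8, .ofNat 0, .ofNat 0, .ofNat 20, .negSucc 4, .negSucc 11, .ofNat 0, .ofNat 0, .negSucc 2,
  .ofNat 0, .ofNat 0, .ofNat 0, .ofNat 16, .ofNat 0, .negSucc 19, .ofNat 0, .ofNat 0, .ofNat 0, .ofNat 0,
  .ofNat 10, .negSucc 5, .ofNat 0, .ofNat 0, .ofNat 0, .ofNat 0, .ofNat 0]

/-- the values at 11A -/
def col53 : List ℤ :=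
  [.ofNat 1, .ofNat 4, .ofNat 5, .ofNat 5, .ofNat 4, .ofNat 6, .ofNat 5, .ofNat 5, .ofNat 6, .ofNat 4,
  .ofNat 0, .ofNat 1, .ofNat 0, .ofNat 4, .ofNat 0, .ofNat 0, .ofNat 1, .ofNat 0, .ofNat 0, .ofNat 1,
  .ofNat 0, .negSucc 3, .negSucc 0, .ofNat 0, .ofNat 0, .ofNat 0, .ofNat 0, .negSucc 0, .negSucc 5,
  .negSucc 4, .ofNat 0, .ofNat 0, .ofNat 0, .ofNat 0, .negSucc 4, .ofNat 0, .ofNat 1, .ofNat 4, .ofNat 0,
  .ofNat 0, .ofNat 0, .negSucc 3, .ofNat 0, .negSucc 0, .ofNat 0, .ofNat 0, .negSucc 4, .negSucc 3, .ofNat 0,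
  .negSucc 0, .ofNat 1, .negSucc 5, .ofNat 0, .ofNat 0, .ofNat 0, .ofNat 0, .ofNat 5, .ofNat 0, .ofNat 0,
  .ofNat 1, .negSucc 4, .ofNat 0, .ofNat 6, .ofNat 0, .ofNat 5, .ofNat 6, .negSucc 5, .ofNat 0, .ofNat 0,
  .ofNat 6, .ofNat 0, .ofNat 0, .ofNat 1, .negSucc 3, .negSucc 0, .ofNat 0, .ofNat 5, .ofNat 0, .ofNat 5,
  .negSucc 0, .negSucc 0, .ofNat 0, .negSucc 0, .ofNat 1, .ofNat 0, .ofNat 1, .ofNat 0, .ofNat 4, .negSucc 0,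
  .ofNat 4, .ofNat 0, .ofNat 0, .ofNat 1, .ofNat 0, .ofNat 0, .ofNat 0, .negSucc 4, .ofNat 0, .negSucc 5,
  .ofNat 0, .negSucc 4, .negSucc 4, .ofNat 0, .ofNat 0, .ofNat 0, .ofNat 0, .ofNat 0, .ofNat 0, .negSucc 0,
  .negSucc 4, .ofNat 0, .ofNat 1, .ofNat 5, .ofNat 0, .ofNat 0, .ofNat 0, .ofNat 0, .ofNat 0, .ofNat 0,
  .ofNat 0, .ofNat 0, .ofNat 0, .ofNat 0, .negSucc 3, .ofNat 0, .ofNat 5, .ofNat 0, .ofNat 0, .ofNat 0,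
  .negSucc 3, .negSucc 5, .ofNat 0, .ofNat 0, .ofNat 0, .ofNat 0, .ofNat 5, .ofNat 6, .ofNat 0, .ofNat 0,
  .negSucc 4, .ofNat 0, .ofNat 0, .ofNat 0, .ofNat 0, .ofNat 0, .ofNat 0, .ofNat 0, .negSucc 3, .ofNat 0,
  .ofNat 0, .ofNat 4, .ofNat 4, .ofNat 0, .ofNat 0, .ofNat 0, .ofNat 0, .negSucc 3, .ofNat 0, .ofNat 0,
  .ofNat 4, .ofNat 4, .negSucc 3, .ofNat 4, .ofNat 0, .ofNat 0, .negSucc 3, .ofNat 0, .ofNat 0, .ofNat 0,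
  .ofNat 0, .ofNat 0, .negSucc 9, .ofNat 0, .ofNat 0, .ofNat 0]

/-- the values at 12A -/
def col54 : List ℤ :=
  [.ofNat 1, .negSucc 11, .ofNat 25, .negSucc 35, .ofNat 53, .ofNat 65, .negSucc 100, .ofNat 110,
  .negSucc 150, .negSucc 88, .ofNat 76, .negSucc 38, .ofNat 139, .ofNat 232, .ofNat 22, .negSucc 97,
  .negSucc 78, .negSucc 292, .ofNat 17, .negSucc 217, .ofNat 250, .ofNat 262, .negSucc 140, .ofNat 90,
  .ofNat 51, .ofNat 189, .ofNat 255, .negSucc 251, .negSucc 215, .negSucc 254, .ofNat 9, .ofNat 68,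
  .negSucc 2, .negSucc 42, .ofNat 198, .negSucc 109, .negSucc 161, .negSucc 135, .negSucc 1, .ofNat 4,
  .negSucc 117, .negSucc 120, .ofNat 52, .negSucc 102, .negSucc 85, .ofNat 134, .ofNat 93, .ofNat 105,
  .ofNat 78, .ofNat 48, .negSucc 26, .ofNat 162, .negSucc 96, .ofNat 90, .ofNat 36, .ofNat 55, .ofNat 185,
  .ofNat 9, .negSucc 39, .negSucc 63, .negSucc 80, .ofNat 99, .negSucc 129, .ofNat 54, .negSucc 341,
  .ofNat 0, .ofNat 189, .negSucc 103, .ofNat 48, .ofNat 216, .ofNat 200, .negSucc 57, .negSucc 80, .ofNat 81,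
  .negSucc 245, .negSucc 63, .ofNat 301, .negSucc 1, .negSucc 134, .negSucc 127, .ofNat 0, .negSucc 8,
  .ofNat 510, .ofNat 0, .negSucc 215, .negSucc 40, .negSucc 76, .negSucc 215, .negSucc 63, .ofNat 256,
  .ofNat 136, .negSucc 21, .ofNat 189, .ofNat 189, .ofNat 27, .negSucc 25, .ofNat 0, .negSucc 211,
  .negSucc 161, .ofNat 368, .negSucc 127, .ofNat 81, .negSucc 63, .ofNat 11, .ofNat 204, .negSucc 111,
  .ofNat 0, .ofNat 82, .negSucc 63, .ofNat 271, .negSucc 215, .ofNat 81, .ofNat 141, .ofNat 189, .ofNat 115,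
  .ofNat 9, .ofNat 82, .negSucc 161, .ofNat 9, .negSucc 343, .negSucc 111, .negSucc 89, .ofNat 90,
  .negSucc 63, .negSucc 387, .ofNat 0, .ofNat 160, .ofNat 7, .ofNat 7, .negSucc 80, .ofNat 0, .negSucc 140,
  .ofNat 0, .ofNat 0, .negSucc 113, .ofNat 162, .negSucc 26, .ofNat 155, .ofNat 112, .ofNat 27, .negSucc 8,
  .negSucc 83, .negSucc 453, .ofNat 0, .ofNat 351, .negSucc 149, .ofNat 0, .negSucc 377, .negSucc 63,
  .ofNat 27, .ofNat 0, .ofNat 0, .ofNat 0, .ofNat 0, .ofNat 162, .negSucc 226, .ofNat 0, .ofNat 0,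
  .negSucc 391, .ofNat 0, .ofNat 0, .ofNat 0, .negSucc 161, .ofNat 256, .ofNat 84, .ofNat 122, .ofNat 10,
  .ofNat 4, .ofNat 0, .ofNat 0, .negSucc 3, .ofNat 104, .ofNat 0, .ofNat 0, .ofNat 512]

/-- the values at 12B -/
def col55 : List ℤ :=
  [.ofNat 1, .negSucc 2, .ofNat 7, .negSucc 8, .negSucc 0, .ofNat 2, .ofNat 7, .negSucc 6, .negSucc 15,
  .ofNat 19, .negSucc 13, .negSucc 2, .ofNat 22, .ofNat 25, .ofNat 67, .ofNat 1, .ofNat 20, .negSucc 4,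
  .negSucc 72, .negSucc 55, .negSucc 46, .negSucc 7, .ofNat 93, .ofNat 63, .negSucc 47, .ofNat 0, .ofNat 30,
  .negSucc 8, .ofNat 0, .ofNat 24, .ofNat 117, .ofNat 5, .negSucc 20, .negSucc 78, .negSucc 71, .negSucc 46,
  .ofNat 0, .negSucc 18, .ofNat 79, .negSucc 85, .negSucc 9, .negSucc 30, .ofNat 88, .negSucc 30,
  .negSucc 103, .ofNat 26, .negSucc 23, .ofNat 60, .negSucc 20, .ofNat 12, .ofNat 0, .ofNat 0, .ofNat 29,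
  .ofNat 36, .ofNat 90, .ofNat 109, .ofNat 32, .ofNat 63, .ofNat 32, .negSucc 63, .ofNat 0, .negSucc 62,
  .negSucc 39, .ofNat 0, .negSucc 125, .ofNat 0, .ofNat 0, .ofNat 211, .negSucc 32, .ofNat 54, .ofNat 101,
  .negSucc 201, .ofNat 0, .ofNat 0, .ofNat 33, .negSucc 63, .ofNat 22, .negSucc 154, .ofNat 0, .negSucc 127,
  .ofNat 0, .ofNat 126, .negSucc 47, .ofNat 0, .ofNat 0, .ofNat 4, .ofNat 94, .ofNat 0, .ofNat 44,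
  .negSucc 31, .negSucc 79, .negSucc 84, .ofNat 0, .ofNat 0, .ofNat 0, .negSucc 52, .ofNat 0, .ofNat 49,
  .ofNat 0, .ofNat 80, .negSucc 127, .ofNat 0, .negSucc 63, .ofNat 38, .ofNat 24, .negSucc 75, .ofNat 0,
  .negSucc 133, .negSucc 63, .ofNat 127, .ofNat 0, .ofNat 0, .negSucc 119, .ofNat 0, .negSucc 64,
  .negSucc 116, .negSucc 133, .ofNat 108, .ofNat 90, .ofNat 70, .ofNat 32, .ofNat 99, .ofNat 63, .negSucc 63,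
  .negSucc 36, .ofNat 81, .ofNat 196, .ofNat 16, .ofNat 16, .ofNat 0, .ofNat 0, .ofNat 174, .ofNat 0,
  .ofNat 0, .ofNat 174, .ofNat 0, .ofNat 0, .negSucc 195, .ofNat 76, .ofNat 0, .negSucc 35, .ofNat 60,
  .ofNat 14, .ofNat 108, .ofNat 0, .negSucc 23, .ofNat 27, .ofNat 0, .negSucc 63, .ofNat 0, .ofNat 0,
  .ofNat 0, .negSucc 107, .negSucc 26, .ofNat 0, .negSucc 82, .ofNat 0, .ofNat 0, .ofNat 112, .ofNat 0,
  .ofNat 0, .ofNat 0, .ofNat 0, .negSucc 31, .negSucc 59, .ofNat 32, .ofNat 82, .ofNat 94, .ofNat 54,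
  .ofNat 0, .negSucc 111, .negSucc 39, .ofNat 0, .ofNat 0, .negSucc 63]

/-- the values at 12C -/
def col56 : List ℤ :=
  [.ofNat 1, .ofNat 4, .ofNat 9, .ofNat 12, .ofNat 5, .ofNat 1, .negSucc 4, .ofNat 14, .ofNat 25, .ofNat 7,
  .negSucc 3, .negSucc 38, .ofNat 27, .ofNat 24, .ofNat 54, .negSucc 49, .negSucc 14, .ofNat 11, .negSucc 30,
  .ofNat 54, .negSucc 53, .negSucc 41, .negSucc 28, .ofNat 90, .ofNat 19, .ofNat 61, .ofNat 31, .ofNat 20,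
  .negSucc 55, .negSucc 14, .ofNat 105, .ofNat 36, .negSucc 34, .ofNat 5, .negSucc 25, .negSucc 13,
  .ofNat 46, .negSucc 119, .ofNat 30, .ofNat 116, .negSucc 85, .ofNat 39, .negSucc 43, .ofNat 89, .ofNat 26,
  .negSucc 9, .ofNat 45, .ofNat 9, .ofNat 14, .ofNat 48, .negSucc 106, .negSucc 109, .negSucc 112, .ofNat 90,
  .ofNat 116, .ofNat 55, .ofNat 41, .negSucc 134, .negSucc 7, .ofNat 128, .negSucc 80, .negSucc 44,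
  .ofNat 14, .ofNat 166, .ofNat 10, .ofNat 0, .ofNat 61, .ofNat 24, .ofNat 16, .negSucc 39, .negSucc 119,
  .negSucc 9, .negSucc 80, .ofNat 81, .negSucc 53, .negSucc 63, .negSucc 194, .negSucc 129, .ofNat 41,
  .ofNat 64, .negSucc 63, .ofNat 135, .ofNat 14, .negSucc 63, .negSucc 55, .negSucc 40, .ofNat 115, .ofNat 8,
  .ofNat 64, .ofNat 0, .ofNat 104, .negSucc 69, .ofNat 125, .negSucc 114, .negSucc 4, .negSucc 9,
  .negSucc 63, .negSucc 99, .ofNat 110, .negSucc 79, .negSucc 127, .ofNat 81, .ofNat 0, .negSucc 20,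
  .negSucc 19, .ofNat 0, .ofNat 0, .ofNat 50, .negSucc 63, .ofNat 15, .negSucc 55, .ofNat 81, .ofNat 45,
  .ofNat 61, .negSucc 44, .ofNat 25, .negSucc 109, .ofNat 46, .negSucc 134, .negSucc 199, .ofNat 16,
  .negSucc 89, .ofNat 90, .ofNat 0, .ofNat 60, .ofNat 0, .ofNat 0, .ofNat 135, .ofNat 55, .negSucc 80,
  .ofNat 0, .negSucc 44, .ofNat 0, .ofNat 0, .ofNat 14, .negSucc 45, .ofNat 5, .negSucc 4, .negSucc 15,
  .ofNat 59, .ofNat 135, .ofNat 60, .ofNat 90, .ofNat 0, .negSucc 48, .ofNat 26, .ofNat 0, .negSucc 9,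
  .ofNat 0, .negSucc 4, .ofNat 0, .ofNat 0, .ofNat 0, .ofNat 0, .negSucc 109, .ofNat 125, .ofNat 64,
  .ofNat 0, .negSucc 103, .ofNat 0, .ofNat 0, .ofNat 0, .ofNat 46, .ofNat 0, .ofNat 20, .negSucc 85,
  .ofNat 10, .negSucc 59, .ofNat 0, .ofNat 0, .negSucc 99, .ofNat 40, .ofNat 0, .ofNat 0, .ofNat 0]

/-- the values at 12D -/
def col57 : List ℤ :=
  [.ofNat 1, .ofNat 6, .ofNat 7, .ofNat 0, .ofNat 17, .ofNat 11, .ofNat 25, .negSucc 15, .ofNat 11,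
  .negSucc 16, .ofNat 22, .negSucc 38, .ofNat 31, .negSucc 1, .ofNat 22, .ofNat 28, .ofNat 47, .ofNat 13,
  .negSucc 0, .negSucc 37, .negSucc 1, .ofNat 82, .negSucc 14, .negSucc 17, .negSucc 20, .negSucc 8,
  .negSucc 50, .negSucc 35, .ofNat 72, .ofNat 69, .ofNat 63, .negSucc 3, .negSucc 56, .ofNat 101,
  .negSucc 53, .negSucc 55, .negSucc 53, .ofNat 8, .ofNat 160, .ofNat 40, .ofNat 80, .ofNat 95, .negSucc 91,
  .ofNat 23, .ofNat 22, .negSucc 45, .ofNat 93, .negSucc 20, .ofNat 78, .ofNat 48, .negSucc 62, .ofNat 54,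
  .ofNat 11, .negSucc 17, .negSucc 71, .ofNat 1, .ofNat 5, .negSucc 8, .ofNat 104, .negSucc 63, .ofNat 81,
  .ofNat 9, .negSucc 21, .ofNat 126, .negSucc 53, .ofNat 0, .negSucc 8, .ofNat 40, .negSucc 23, .ofNat 0,
  .ofNat 20, .ofNat 194, .ofNat 81, .negSucc 80, .ofNat 24, .negSucc 63, .negSucc 40, .ofNat 142, .ofNat 117,
  .negSucc 127, .ofNat 0, .negSucc 8, .negSucc 29, .ofNat 0, .ofNat 72, .negSucc 58, .ofNat 67, .negSucc 71,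
  .ofNat 80, .negSucc 31, .negSucc 7, .ofNat 86, .ofNat 9, .ofNat 9, .negSucc 62, .ofNat 100, .ofNat 0,
  .ofNat 112, .negSucc 53, .ofNat 80, .negSucc 127, .ofNat 81, .negSucc 63, .negSucc 60, .ofNat 204,
  .ofNat 68, .ofNat 0, .negSucc 61, .negSucc 63, .ofNat 37, .ofNat 72, .ofNat 81, .ofNat 51, .negSucc 8,
  .negSucc 28, .negSucc 98, .negSucc 61, .ofNat 36, .ofNat 9, .negSucc 91, .ofNat 32, .ofNat 18, .ofNat 18,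
  .negSucc 63, .ofNat 26, .ofNat 54, .negSucc 55, .negSucc 100, .negSucc 28, .negSucc 80, .ofNat 0,
  .negSucc 104, .ofNat 0, .ofNat 0, .negSucc 59, .ofNat 54, .ofNat 63, .ofNat 101, .negSucc 31, .ofNat 63,
  .negSucc 8, .ofNat 96, .ofNat 50, .ofNat 0, .negSucc 44, .ofNat 102, .ofNat 0, .negSucc 17, .negSucc 63,
  .negSucc 62, .ofNat 0, .ofNat 0, .ofNat 0, .ofNat 0, .ofNat 54, .negSucc 118, .ofNat 0, .ofNat 0,
  .ofNat 40, .ofNat 0, .ofNat 0, .ofNat 0, .negSucc 53, .negSucc 31, .ofNat 192, .negSucc 57, .ofNat 118,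
  .ofNat 40, .ofNat 0, .ofNat 0, .ofNat 68, .negSucc 39, .ofNat 0, .ofNat 0, .negSucc 63]

/-- the values at 12E -/
def col58 : List ℤ :=
  [.ofNat 1, .negSucc 5, .ofNat 11, .negSucc 11, .ofNat 13, .ofNat 11, .negSucc 14, .ofNat 16, .negSucc 32,
  .negSucc 0, .negSucc 13, .ofNat 9, .ofNat 35, .ofNat 34, .ofNat 46, .ofNat 0, .negSucc 24, .ofNat 1,
  .negSucc 20, .negSucc 65, .negSucc 13, .negSucc 1, .ofNat 21, .ofNat 30, .negSucc 20, .ofNat 39, .ofNat 21,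
  .ofNat 0, .negSucc 23, .ofNat 33, .ofNat 55, .negSucc 35, .ofNat 15, .ofNat 25, .negSucc 53, .negSucc 15,
  .ofNat 6, .ofNat 12, .ofNat 0, .negSucc 115, .ofNat 16, .ofNat 71, .ofNat 4, .negSucc 80, .negSucc 53,
  .ofNat 62, .negSucc 14, .negSucc 68, .negSucc 65, .ofNat 0, .ofNat 45, .negSucc 29, .ofNat 55, .ofNat 30,
  .ofNat 84, .ofNat 25, .ofNat 1, .ofNat 75, .ofNat 0, .negSucc 39, .ofNat 9, .ofNat 45, .ofNat 94,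
  .negSucc 53, .negSucc 29, .ofNat 0, .ofNat 39, .ofNat 56, .negSucc 55, .negSucc 71, .ofNat 60, .ofNat 30,
  .ofNat 9, .negSucc 8, .negSucc 95, .negSucc 15, .negSucc 124, .negSucc 9, .ofNat 9, .negSucc 23,
  .negSucc 55, .ofNat 75, .ofNat 6, .negSucc 23, .negSucc 23, .negSucc 58, .negSucc 44, .ofNat 0, .ofNat 16,
  .ofNat 0, .negSucc 63, .ofNat 90, .negSucc 62, .ofNat 45, .negSucc 14, .ofNat 80, .negSucc 23, .negSucc 19,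
  .ofNat 30, .ofNat 0, .ofNat 0, .ofNat 9, .ofNat 8, .ofNat 51, .ofNat 60, .negSucc 39, .ofNat 0, .ofNat 10,
  .ofNat 16, .negSucc 74, .negSucc 23, .ofNat 9, .ofNat 75, .ofNat 39, .ofNat 35, .ofNat 65, .ofNat 10,
  .ofNat 24, .negSucc 74, .ofNat 80, .negSucc 15, .negSucc 29, .negSucc 29, .ofNat 40, .ofNat 10,
  .negSucc 89, .ofNat 40, .negSucc 84, .negSucc 24, .negSucc 8, .ofNat 0, .ofNat 15, .ofNat 0, .ofNat 0,
  .negSucc 35, .negSucc 5, .ofNat 15, .ofNat 45, .negSucc 15, .negSucc 8, .ofNat 75, .ofNat 12, .ofNat 10,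
  .ofNat 0, .negSucc 8, .negSucc 53, .ofNat 0, .ofNat 18, .ofNat 40, .negSucc 14, .ofNat 0, .ofNat 0,
  .ofNat 0, .ofNat 0, .negSucc 29, .ofNat 25, .ofNat 24, .ofNat 0, .negSucc 63, .ofNat 0, .ofNat 0, .ofNat 0,
  .ofNat 6, .ofNat 0, .ofNat 0, .negSucc 5, .negSucc 9, .negSucc 39, .ofNat 0, .ofNat 0, .ofNat 60,
  .negSucc 39, .ofNat 0, .ofNat 0, .ofNat 0]

/-- the values at 12F -/
def col59 : List ℤ :=
  [.ofNat 1, .ofNat 5, .ofNat 3, .negSucc 4, .ofNat 15, .ofNat 6, .ofNat 15, .negSucc 18, .ofNat 0,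
  .negSucc 4, .ofNat 30, .negSucc 14, .ofNat 18, .negSucc 14, .ofNat 23, .ofNat 5, .ofNat 40, .ofNat 15,
  .ofNat 15, .negSucc 39, .ofNat 13, .ofNat 24, .negSucc 14, .ofNat 3, .ofNat 20, .ofNat 0, .negSucc 29,
  .negSucc 44, .ofNat 0, .ofNat 60, .ofNat 1, .negSucc 14, .ofNat 51, .negSucc 14, .negSucc 43, .negSucc 34,
  .ofNat 0, .ofNat 65, .negSucc 44, .negSucc 29, .ofNat 42, .ofNat 45, .negSucc 39, .ofNat 45, .ofNat 60,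
  .negSucc 29, .ofNat 48, .ofNat 20, .ofNat 87, .negSucc 43, .ofNat 0, .ofNat 0, .ofNat 9, .ofNat 12,
  .negSucc 29, .ofNat 45, .ofNat 0, .ofNat 15, .ofNat 0, .ofNat 0, .ofNat 0, .negSucc 14, .ofNat 0, .ofNat 0,
  .negSucc 49, .negSucc 35, .ofNat 0, .ofNat 15, .ofNat 15, .ofNat 30, .ofNat 5, .negSucc 29, .ofNat 0,
  .ofNat 0, .ofNat 5, .ofNat 0, .negSucc 29, .negSucc 14, .ofNat 0, .ofNat 0, .ofNat 0, .negSucc 29,
  .ofNat 0, .ofNat 0, .ofNat 0, .negSucc 59, .negSucc 29, .ofNat 0, .negSucc 19, .ofNat 64, .ofNat 0,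
  .negSucc 24, .ofNat 0, .ofNat 0, .ofNat 0, .ofNat 15, .ofNat 0, .negSucc 14, .ofNat 0, .ofNat 0, .ofNat 0,
  .ofNat 0, .ofNat 0, .negSucc 49, .ofNat 0, .ofNat 0, .ofNat 0, .ofNat 34, .ofNat 0, .negSucc 44, .ofNat 0,
  .ofNat 0, .ofNat 60, .ofNat 0, .ofNat 35, .negSucc 24, .ofNat 10, .negSucc 59, .ofNat 30, .negSucc 29,
  .ofNat 24, .ofNat 15, .ofNat 15, .ofNat 0, .ofNat 15, .ofNat 45, .ofNat 60, .ofNat 20, .ofNat 20, .ofNat 0,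
  .ofNat 0, .ofNat 70, .ofNat 0, .ofNat 0, .negSucc 29, .ofNat 0, .ofNat 0, .negSucc 59, .negSucc 59,
  .ofNat 0, .ofNat 60, .ofNat 0, .negSucc 29, .negSucc 35, .ofNat 0, .ofNat 24, .negSucc 44, .ofNat 0,
  .ofNat 0, .ofNat 0, .ofNat 0, .ofNat 0, .ofNat 0, .ofNat 81, .ofNat 0, .ofNat 45, .ofNat 0, .ofNat 0,
  .ofNat 0, .ofNat 0, .ofNat 0, .ofNat 0, .ofNat 0, .negSucc 63, .negSucc 59, .ofNat 40, .negSucc 29,
  .negSucc 9, .negSucc 17, .ofNat 0, .ofNat 0, .ofNat 0, .ofNat 0, .ofNat 0, .ofNat 0]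

/-- the values at 12G -/
def col60 : List ℤ :=
  [.ofNat 1, .negSucc 1, .negSucc 0, .ofNat 8, .ofNat 9, .negSucc 4, .negSucc 6, .ofNat 0, .ofNat 3,
  .negSucc 0, .ofNat 14, .negSucc 6, .ofNat 7, .negSucc 9, .ofNat 6, .ofNat 20, .negSucc 0, .negSucc 10,
  .negSucc 24, .ofNat 2, .ofNat 6, .negSucc 5, .ofNat 9, .ofNat 30, .negSucc 4, .negSucc 8, .ofNat 13,
  .ofNat 4, .ofNat 24, .negSucc 18, .negSucc 16, .negSucc 3, .ofNat 39, .ofNat 13, .negSucc 21, .negSucc 23,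
  .ofNat 18, .ofNat 0, .negSucc 31, .negSucc 15, .negSucc 15, .negSucc 0, .ofNat 20, .negSucc 8, .ofNat 14,
  .negSucc 5, .negSucc 10, .ofNat 43, .negSucc 17, .ofNat 48, .ofNat 9, .negSucc 17, .ofNat 3, .ofNat 30,
  .ofNat 32, .negSucc 14, .negSucc 18, .ofNat 15, .negSucc 7, .ofNat 0, .ofNat 33, .negSucc 14, .negSucc 13,
  .ofNat 6, .ofNat 10, .ofNat 0, .negSucc 8, .ofNat 8, .ofNat 8, .ofNat 16, .negSucc 11, .ofNat 10,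
  .ofNat 33, .negSucc 32, .ofNat 40, .ofNat 0, .negSucc 16, .negSucc 17, .negSucc 2, .ofNat 0, .ofNat 0,
  .ofNat 15, .negSucc 21, .ofNat 0, .ofNat 24, .negSucc 10, .ofNat 35, .negSucc 23, .ofNat 16, .negSucc 31,
  .negSucc 23, .negSucc 17, .ofNat 9, .ofNat 33, .negSucc 14, .negSucc 19, .ofNat 0, .ofNat 8, .ofNat 18,
  .negSucc 15, .ofNat 0, .ofNat 33, .ofNat 0, .negSucc 12, .negSucc 35, .ofNat 44, .ofNat 0, .ofNat 34,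
  .ofNat 0, .ofNat 21, .ofNat 24, .ofNat 33, .ofNat 35, .negSucc 8, .ofNat 51, .negSucc 26, .negSucc 13,
  .negSucc 19, .negSucc 14, .ofNat 44, .negSucc 31, .negSucc 29, .negSucc 29, .ofNat 0, .negSucc 5,
  .ofNat 54, .negSucc 39, .negSucc 36, .negSucc 4, .negSucc 32, .ofNat 0, .negSucc 24, .ofNat 0, .ofNat 0,
  .ofNat 4, .negSucc 17, .ofNat 15, .ofNat 21, .ofNat 32, .ofNat 15, .ofNat 15, .negSucc 39, .negSucc 45,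
  .ofNat 0, .ofNat 27, .negSucc 1, .ofNat 0, .negSucc 41, .ofNat 0, .negSucc 14, .ofNat 0, .ofNat 0,
  .ofNat 0, .ofNat 0, .negSucc 17, .ofNat 9, .ofNat 0, .ofNat 0, .negSucc 7, .ofNat 0, .ofNat 0, .ofNat 0,
  .ofNat 18, .negSucc 31, .negSucc 15, .ofNat 30, .ofNat 22, .ofNat 40, .ofNat 0, .ofNat 0, .negSucc 43,
  .negSucc 7, .ofNat 0, .ofNat 0, .ofNat 64]

/-- the values at 12H -/
def col61 : List ℤ :=
  [.ofNat 1, .ofNat 0, .ofNat 5, .ofNat 0, .ofNat 1, .negSucc 6, .ofNat 3, .negSucc 1, .negSucc 2,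
  .negSucc 0, .negSucc 7, .ofNat 9, .ofNat 23, .ofNat 4, .ofNat 22, .negSucc 5, .negSucc 6, .ofNat 7,
  .negSucc 2, .negSucc 5, .negSucc 1, .negSucc 13, .negSucc 8, .negSucc 5, .ofNat 3, .negSucc 2, .negSucc 8,
  .ofNat 0, .ofNat 24, .negSucc 2, .ofNat 25, .ofNat 12, .negSucc 2, .ofNat 25, .ofNat 6, .ofNat 2,
  .negSucc 5, .negSucc 35, .ofNat 6, .negSucc 7, .negSucc 13, .negSucc 0, .ofNat 4, .negSucc 14, .ofNat 30,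
  .negSucc 21, .ofNat 9, .ofNat 9, .ofNat 6, .ofNat 0, .ofNat 9, .ofNat 30, .negSucc 4, .negSucc 5,
  .negSucc 23, .ofNat 7, .ofNat 13, .negSucc 2, .ofNat 0, .ofNat 8, .negSucc 8, .negSucc 8, .ofNat 34,
  .negSucc 53, .ofNat 18, .ofNat 0, .negSucc 2, .ofNat 8, .ofNat 40, .negSucc 23, .ofNat 0, .negSucc 5,
  .negSucc 8, .ofNat 9, .negSucc 29, .negSucc 15, .negSucc 22, .negSucc 33, .negSucc 26, .ofNat 24,
  .negSucc 7, .ofNat 3, .ofNat 18, .ofNat 24, .ofNat 24, .negSucc 40, .ofNat 3, .ofNat 0, .negSucc 31,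
  .ofNat 0, .ofNat 32, .ofNat 6, .negSucc 26, .ofNat 9, .negSucc 20, .negSucc 21, .ofNat 24, .ofNat 16,
  .negSucc 29, .ofNat 0, .ofNat 0, .ofNat 9, .negSucc 39, .negSucc 20, .ofNat 12, .ofNat 20, .ofNat 0,
  .ofNat 10, .ofNat 16, .ofNat 15, .ofNat 24, .ofNat 9, .ofNat 21, .negSucc 2, .negSucc 36, .ofNat 5,
  .negSucc 37, .negSucc 29, .negSucc 2, .negSucc 3, .ofNat 32, .ofNat 6, .negSucc 5, .negSucc 7, .negSucc 19,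
  .ofNat 0, .ofNat 16, .negSucc 0, .ofNat 11, .negSucc 8, .ofNat 0, .negSucc 20, .ofNat 0, .ofNat 0,
  .ofNat 30, .ofNat 6, .ofNat 21, .ofNat 51, .ofNat 32, .negSucc 44, .ofNat 3, .negSucc 23, .ofNat 34,
  .ofNat 0, .ofNat 27, .negSucc 17, .ofNat 0, .ofNat 18, .negSucc 7, .negSucc 20, .ofNat 0, .ofNat 0,
  .ofNat 0, .ofNat 0, .ofNat 30, .ofNat 13, .negSucc 23, .ofNat 0, .ofNat 32, .ofNat 0, .ofNat 0, .ofNat 0,
  .negSucc 5, .ofNat 0, .negSucc 35, .negSucc 17, .negSucc 21, .ofNat 20, .ofNat 0, .ofNat 0, .negSucc 11,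
  .ofNat 8, .ofNat 0, .ofNat 0, .ofNat 0]

/-- the values at 12I -/
def col62 : List ℤ :=
  [.ofNat 1, .negSucc 3, .ofNat 1, .ofNat 4, .ofNat 13, .ofNat 1, .negSucc 4, .negSucc 1, .ofNat 1, .ofNat 7,
  .ofNat 4, .negSucc 6, .ofNat 3, .negSucc 15, .ofNat 22, .ofNat 6, .negSucc 30, .negSucc 12, .negSucc 6,
  .ofNat 14, .ofNat 2, .ofNat 14, .ofNat 11, .ofNat 10, .ofNat 3, .negSucc 2, .negSucc 0, .negSucc 3,
  .ofNat 24, .ofNat 9, .ofNat 9, .negSucc 11, .ofNat 13, .ofNat 29, .ofNat 6, .ofNat 2, .ofNat 6, .ofNat 16,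
  .ofNat 14, .negSucc 19, .negSucc 5, .negSucc 24, .ofNat 4, .negSucc 6, .negSucc 29, .negSucc 1,
  .negSucc 26, .ofNat 9, .ofNat 30, .negSucc 15, .negSucc 2, .negSucc 5, .ofNat 23, .ofNat 10, .negSucc 3,
  .negSucc 8, .negSucc 14, .ofNat 1, .negSucc 23, .ofNat 0, .negSucc 32, .ofNat 11, .negSucc 25, .negSucc 17,
  .ofNat 10, .ofNat 0, .negSucc 2, .negSucc 7, .negSucc 31, .ofNat 24, .ofNat 8, .ofNat 30, .negSucc 32,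
  .ofNat 33, .negSucc 5, .ofNat 0, .ofNat 5, .ofNat 14, .negSucc 14, .ofNat 0, .ofNat 0, .negSucc 0,
  .ofNat 6, .ofNat 0, .ofNat 24, .ofNat 7, .ofNat 19, .ofNat 24, .ofNat 0, .ofNat 0, .negSucc 7, .negSucc 13,
  .negSucc 2, .negSucc 26, .negSucc 20, .negSucc 1, .ofNat 0, .negSucc 11, .ofNat 6, .ofNat 16, .ofNat 0,
  .ofNat 33, .ofNat 0, .negSucc 4, .negSucc 3, .negSucc 39, .ofNat 0, .ofNat 18, .ofNat 0, .negSucc 0,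
  .ofNat 24, .ofNat 33, .negSucc 2, .negSucc 2, .negSucc 12, .ofNat 1, .ofNat 2, .ofNat 6, .ofNat 1,
  .ofNat 0, .ofNat 16, .negSucc 9, .ofNat 10, .ofNat 0, .negSucc 3, .ofNat 0, .negSucc 15, .ofNat 23,
  .negSucc 32, .negSucc 32, .ofNat 0, .ofNat 3, .ofNat 0, .ofNat 0, .negSucc 1, .negSucc 5, .ofNat 21,
  .ofNat 11, .negSucc 15, .negSucc 20, .negSucc 0, .ofNat 36, .negSucc 37, .ofNat 0, .negSucc 8, .ofNat 2,
  .ofNat 0, .ofNat 30, .ofNat 0, .negSucc 20, .ofNat 0, .ofNat 0, .ofNat 0, .ofNat 0, .negSucc 5, .negSucc 2,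
  .ofNat 0, .ofNat 0, .ofNat 8, .ofNat 0, .ofNat 0, .ofNat 0, .ofNat 6, .ofNat 0, .negSucc 11, .ofNat 18,
  .negSucc 21, .ofNat 4, .ofNat 0, .ofNat 0, .ofNat 12, .ofNat 8, .ofNat 0, .ofNat 0, .ofNat 0]

/-- the values at 12J -/
def col63 : List ℤ :=
  [.ofNat 1, .ofNat 2, .ofNat 3, .ofNat 4, .negSucc 2, .ofNat 3, .ofNat 9, .ofNat 8, .negSucc 8, .ofNat 7,
  .ofNat 18, .ofNat 9, .ofNat 3, .negSucc 5, .ofNat 14, .ofNat 8, .ofNat 7, .negSucc 14, .ofNat 3, .ofNat 14,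
  .negSucc 13, .ofNat 6, .negSucc 2, .ofNat 6, .negSucc 12, .negSucc 8, .negSucc 2, .ofNat 0, .ofNat 0,
  .ofNat 9, .ofNat 7, .ofNat 12, .negSucc 8, .ofNat 9, .ofNat 10, .negSucc 7, .negSucc 17, .ofNat 20,
  .ofNat 0, .ofNat 12, .ofNat 0, .ofNat 15, .negSucc 3, .negSucc 8, .ofNat 18, .ofNat 6, .ofNat 9,
  .negSucc 36, .negSucc 17, .ofNat 16, .negSucc 26, .ofNat 18, .negSucc 8, .ofNat 6, .ofNat 12, .ofNat 9,
  .ofNat 9, .ofNat 3, .ofNat 0, .ofNat 0, .ofNat 9, .negSucc 2, .negSucc 17, .ofNat 18, .ofNat 10, .ofNat 0,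
  .negSucc 8, .ofNat 24, .ofNat 24, .ofNat 24, .ofNat 20, .ofNat 6, .ofNat 9, .negSucc 8, .negSucc 15,
  .ofNat 0, .ofNat 3, .negSucc 17, .ofNat 9, .ofNat 0, .ofNat 0, .ofNat 3, .ofNat 6, .ofNat 0, .ofNat 0,
  .negSucc 2, .ofNat 3, .ofNat 0, .ofNat 16, .negSucc 31, .ofNat 0, .ofNat 2, .ofNat 9, .negSucc 26,
  .ofNat 9, .negSucc 23, .ofNat 0, .ofNat 12, .negSucc 17, .ofNat 0, .ofNat 0, .ofNat 9, .ofNat 0,
  .negSucc 4, .negSucc 11, .ofNat 24, .ofNat 0, .ofNat 34, .ofNat 0, .negSucc 2, .ofNat 0, .ofNat 9,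
  .negSucc 20, .negSucc 8, .ofNat 11, .ofNat 17, .ofNat 10, .negSucc 23, .negSucc 2, .ofNat 24, .ofNat 0,
  .negSucc 5, .negSucc 5, .ofNat 0, .negSucc 5, .negSucc 41, .ofNat 0, .ofNat 11, .negSucc 0, .negSucc 8,
  .ofNat 0, .ofNat 31, .ofNat 0, .ofNat 0, .negSucc 11, .ofNat 18, .negSucc 8, .negSucc 2, .ofNat 0,
  .negSucc 8, .ofNat 3, .ofNat 12, .negSucc 29, .ofNat 0, .negSucc 8, .ofNat 18, .ofNat 0, .ofNat 18,
  .ofNat 0, .ofNat 9, .ofNat 0, .ofNat 0, .ofNat 0, .ofNat 0, .ofNat 18, .ofNat 9, .ofNat 0, .ofNat 0,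
  .ofNat 0, .ofNat 0, .ofNat 0, .ofNat 0, .negSucc 17, .ofNat 32, .negSucc 23, .negSucc 13, .ofNat 6,
  .ofNat 8, .ofNat 0, .ofNat 0, .ofNat 12, .negSucc 23, .ofNat 0, .ofNat 0, .ofNat 0]

/-- the values at 12K -/
def col64 : List ℤ :=
  [.ofNat 1, .negSucc 2, .negSucc 0, .ofNat 3, .ofNat 7, .ofNat 2, .ofNat 3, .negSucc 10, .ofNat 0,
  .negSucc 0, .negSucc 1, .ofNat 9, .ofNat 2, .ofNat 1, .ofNat 7, .negSucc 2, .negSucc 15, .negSucc 4,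
  .ofNat 15, .ofNat 0, .ofNat 1, .negSucc 7, .negSucc 2, .ofNat 3, .ofNat 0, .ofNat 0, .ofNat 6, .ofNat 27,
  .ofNat 0, .negSucc 11, .ofNat 13, .negSucc 2, .negSucc 20, .negSucc 10, .ofNat 12, .negSucc 6, .ofNat 0,
  .ofNat 33, .ofNat 3, .ofNat 10, .ofNat 10, .ofNat 17, .negSucc 31, .negSucc 2, .negSucc 11, .ofNat 2,
  .ofNat 24, .negSucc 11, .ofNat 15, .ofNat 0, .ofNat 0, .ofNat 0, .negSucc 10, .ofNat 12, .negSucc 5,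
  .negSucc 10, .ofNat 16, .negSucc 8, .ofNat 0, .negSucc 15, .ofNat 0, .ofNat 9, .negSucc 7, .ofNat 0,
  .negSucc 5, .ofNat 0, .ofNat 0, .negSucc 12, .ofNat 19, .ofNat 6, .negSucc 14, .negSucc 5, .ofNat 0,
  .ofNat 0, .ofNat 9, .negSucc 15, .negSucc 1, .ofNat 5, .ofNat 0, .ofNat 0, .negSucc 31, .negSucc 5,
  .negSucc 23, .ofNat 0, .ofNat 0, .ofNat 4, .ofNat 6, .ofNat 0, .negSucc 7, .ofNat 0, .negSucc 15, .ofNat 3,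
  .ofNat 0, .ofNat 0, .ofNat 0, .ofNat 11, .ofNat 0, .negSucc 10, .ofNat 0, .ofNat 0, .ofNat 0, .ofNat 0,
  .negSucc 15, .ofNat 6, .ofNat 0, .ofNat 8, .ofNat 0, .negSucc 25, .ofNat 16, .ofNat 15, .ofNat 0, .ofNat 0,
  .ofNat 12, .ofNat 0, .negSucc 0, .negSucc 0, .negSucc 13, .ofNat 24, .ofNat 6, .ofNat 2, .ofNat 8,
  .ofNat 15, .negSucc 8, .ofNat 16, .negSucc 4, .ofNat 9, .negSucc 7, .ofNat 20, .negSucc 15, .ofNat 0,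
  .ofNat 0, .ofNat 6, .ofNat 0, .ofNat 0, .ofNat 6, .ofNat 0, .ofNat 0, .ofNat 12, .ofNat 8, .ofNat 0,
  .ofNat 12, .negSucc 23, .negSucc 13, .ofNat 0, .ofNat 0, .ofNat 0, .ofNat 27, .ofNat 0, .ofNat 16,
  .ofNat 0, .ofNat 0, .ofNat 0, .ofNat 0, .negSucc 26, .ofNat 0, .ofNat 1, .ofNat 0, .ofNat 0, .negSucc 15,
  .ofNat 0, .ofNat 0, .ofNat 0, .ofNat 0, .ofNat 0, .negSucc 35, .ofNat 24, .ofNat 2, .negSucc 9,
  .negSucc 17, .ofNat 0, .ofNat 24, .negSucc 15, .ofNat 0, .ofNat 0, .ofNat 0]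

/-- the values at 12L -/
def col65 : List ℤ :=
  [.ofNat 1, .ofNat 2, .ofNat 3, .negSucc 3, .ofNat 5, .negSucc 4, .ofNat 1, .ofNat 0, .ofNat 7, .negSucc 0,
  .negSucc 5, .ofNat 9, .ofNat 11, .negSucc 5, .ofNat 14, .negSucc 7, .ofNat 7, .negSucc 6, .ofNat 3,
  .negSucc 9, .ofNat 10, .negSucc 9, .negSucc 2, .negSucc 1, .negSucc 4, .ofNat 7, .ofNat 5, .ofNat 8,
  .negSucc 7, .ofNat 9, .ofNat 23, .negSucc 3, .ofNat 15, .ofNat 1, .negSucc 5, .ofNat 16, .negSucc 1,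
  .ofNat 4, .ofNat 0, .negSucc 11, .negSucc 15, .negSucc 8, .ofNat 20, .ofNat 15, .ofNat 18, .negSucc 9,
  .negSucc 6, .ofNat 11, .negSucc 17, .ofNat 0, .ofNat 5, .ofNat 10, .negSucc 0, .negSucc 1, .negSucc 3,
  .ofNat 9, .negSucc 6, .negSucc 12, .negSucc 15, .negSucc 7, .ofNat 9, .negSucc 10, .negSucc 9, .ofNat 2,
  .ofNat 18, .ofNat 0, .ofNat 7, .negSucc 7, .ofNat 8, .ofNat 8, .ofNat 28, .negSucc 9, .ofNat 9, .negSucc 8,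
  .ofNat 0, .negSucc 15, .negSucc 4, .ofNat 6, .ofNat 1, .ofNat 8, .negSucc 23, .negSucc 12, .negSucc 1,
  .ofNat 8, .negSucc 7, .ofNat 5, .negSucc 12, .ofNat 16, .ofNat 16, .ofNat 0, .ofNat 16, .ofNat 2, .ofNat 1,
  .negSucc 10, .ofNat 1, .negSucc 7, .ofNat 8, .ofNat 4, .negSucc 9, .negSucc 31, .ofNat 0, .ofNat 9,
  .negSucc 23, .ofNat 3, .ofNat 12, .ofNat 0, .ofNat 0, .negSucc 5, .ofNat 16, .negSucc 10, .negSucc 7,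
  .ofNat 9, .negSucc 4, .ofNat 7, .ofNat 3, .ofNat 9, .negSucc 21, .ofNat 16, .ofNat 13, .negSucc 7,
  .negSucc 15, .ofNat 2, .ofNat 2, .ofNat 8, .ofNat 10, .ofNat 6, .negSucc 7, .negSucc 4, .ofNat 15,
  .negSucc 8, .ofNat 0, .negSucc 0, .ofNat 0, .ofNat 0, .negSucc 19, .ofNat 2, .negSucc 0, .negSucc 2,
  .negSucc 15, .ofNat 7, .negSucc 12, .ofNat 4, .negSucc 5, .ofNat 0, .negSucc 16, .negSucc 13, .ofNat 0,
  .ofNat 10, .ofNat 8, .ofNat 1, .ofNat 0, .ofNat 0, .ofNat 0, .ofNat 0, .ofNat 10, .negSucc 22, .negSucc 7,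
  .ofNat 0, .negSucc 15, .ofNat 0, .ofNat 0, .ofNat 0, .negSucc 1, .ofNat 0, .ofNat 16, .ofNat 34,
  .negSucc 9, .negSucc 7, .ofNat 0, .ofNat 0, .negSucc 19, .negSucc 7, .ofNat 0, .ofNat 0, .ofNat 0]

/-- the values at 12M -/
def col66 : List ℤ :=
  [.ofNat 1, .ofNat 1, .negSucc 0, .negSucc 0, .ofNat 3, .negSucc 1, .negSucc 0, .negSucc 2, .ofNat 0,
  .negSucc 0, .ofNat 2, .ofNat 5, .negSucc 1, .ofNat 5, .ofNat 15, .ofNat 5, .ofNat 8, .negSucc 4, .ofNat 11,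
  .ofNat 8, .negSucc 2, .ofNat 0, .negSucc 2, .ofNat 3, .ofNat 4, .ofNat 0, .negSucc 1, .negSucc 4, .ofNat 0,
  .negSucc 3, .ofNat 1, .negSucc 6, .ofNat 3, .ofNat 13, .negSucc 3, .ofNat 9, .ofNat 0, .negSucc 14,
  .ofNat 7, .ofNat 14, .ofNat 14, .ofNat 5, .ofNat 8, .negSucc 2, .negSucc 3, .ofNat 6, .ofNat 4, .ofNat 4,
  .negSucc 8, .ofNat 12, .ofNat 0, .ofNat 0, .ofNat 9, .negSucc 11, .ofNat 14, .negSucc 26, .negSucc 15,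
  .ofNat 3, .ofNat 16, .ofNat 0, .ofNat 0, .negSucc 2, .negSucc 7, .ofNat 0, .negSucc 1, .ofNat 24, .ofNat 0,
  .negSucc 0, .ofNat 11, .negSucc 13, .negSucc 2, .negSucc 1, .ofNat 0, .ofNat 0, .ofNat 13, .ofNat 0,
  .negSucc 1, .negSucc 2, .ofNat 0, .ofNat 0, .ofNat 0, .ofNat 6, .ofNat 8, .ofNat 0, .ofNat 0, .ofNat 4,
  .negSucc 9, .ofNat 0, .ofNat 4, .ofNat 16, .ofNat 0, .negSucc 20, .ofNat 0, .ofNat 0, .ofNat 0, .negSucc 4,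
  .ofNat 0, .ofNat 5, .ofNat 0, .negSucc 15, .ofNat 0, .ofNat 0, .ofNat 0, .ofNat 2, .ofNat 0, .ofNat 8,
  .ofNat 0, .negSucc 13, .ofNat 0, .negSucc 8, .ofNat 0, .ofNat 0, .ofNat 20, .ofNat 0, .ofNat 3, .ofNat 3,
  .negSucc 1, .negSucc 7, .ofNat 18, .negSucc 9, .negSucc 7, .negSucc 8, .ofNat 3, .ofNat 0, .negSucc 20,
  .ofNat 9, .ofNat 8, .negSucc 3, .negSucc 31, .ofNat 0, .ofNat 0, .ofNat 26, .ofNat 0, .ofNat 0, .negSucc 1,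
  .ofNat 0, .ofNat 0, .ofNat 12, .negSucc 3, .ofNat 0, .ofNat 12, .ofNat 8, .negSucc 9, .negSucc 11,
  .ofNat 0, .negSucc 7, .ofNat 15, .ofNat 0, .ofNat 0, .ofNat 0, .ofNat 0, .ofNat 0, .ofNat 0, .ofNat 9,
  .ofNat 0, .negSucc 2, .ofNat 0, .ofNat 0, .ofNat 16, .ofNat 0, .ofNat 0, .ofNat 0, .ofNat 0, .ofNat 16,
  .negSucc 3, .ofNat 0, .ofNat 10, .negSucc 49, .ofNat 30, .ofNat 0, .negSucc 7, .ofNat 16, .ofNat 0,
  .ofNat 0, .negSucc 31]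

/-- the values at 12N -/
def col67 : List ℤ :=
  [.ofNat 1, .negSucc 0, .ofNat 3, .negSucc 4, .negSucc 2, .ofNat 0, .ofNat 3, .negSucc 0, .ofNat 0,
  .ofNat 1, .ofNat 6, .negSucc 2, .ofNat 6, .ofNat 3, .ofNat 5, .ofNat 11, .ofNat 10, .negSucc 8, .ofNat 9,
  .negSucc 3, .negSucc 4, .negSucc 11, .ofNat 9, .ofNat 9, .negSucc 9, .ofNat 0, .ofNat 6, .ofNat 9,
  .ofNat 0, .negSucc 5, .negSucc 4, .ofNat 3, .ofNat 3, .ofNat 15, .ofNat 10, .ofNat 1, .ofNat 0,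
  .negSucc 24, .negSucc 8, .ofNat 0, .negSucc 5, .ofNat 3, .negSucc 3, .negSucc 8, .negSucc 5, .negSucc 11,
  .ofNat 6, .negSucc 3, .ofNat 21, .ofNat 4, .ofNat 0, .ofNat 0, .negSucc 8, .ofNat 0, .ofNat 0, .ofNat 9,
  .ofNat 0, .ofNat 9, .ofNat 0, .ofNat 0, .ofNat 0, .negSucc 8, .ofNat 0, .ofNat 0, .negSucc 19, .ofNat 0,
  .ofNat 0, .negSucc 2, .negSucc 2, .ofNat 0, .ofNat 17, .ofNat 6, .ofNat 0, .ofNat 0, .negSucc 0, .ofNat 0,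
  .ofNat 18, .negSucc 2, .ofNat 0, .ofNat 0, .ofNat 0, .negSucc 17, .negSucc 23, .ofNat 0, .ofNat 0,
  .ofNat 0, .negSucc 17, .ofNat 0, .ofNat 16, .ofNat 16, .ofNat 0, .ofNat 11, .ofNat 0, .ofNat 0, .ofNat 0,
  .negSucc 8, .ofNat 0, .ofNat 3, .ofNat 0, .ofNat 0, .ofNat 0, .ofNat 0, .ofNat 0, .ofNat 4, .negSucc 23,
  .negSucc 5, .ofNat 0, .negSucc 1, .ofNat 0, .ofNat 3, .ofNat 0, .ofNat 0, .ofNat 6, .ofNat 0, .ofNat 5,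
  .ofNat 23, .negSucc 7, .negSucc 5, .negSucc 17, .ofNat 6, .ofNat 12, .ofNat 9, .ofNat 9, .ofNat 0,
  .negSucc 8, .negSucc 2, .negSucc 5, .ofNat 2, .negSucc 3, .ofNat 0, .ofNat 0, .negSucc 7, .ofNat 0,
  .ofNat 0, .ofNat 6, .ofNat 0, .ofNat 0, .ofNat 0, .negSucc 11, .ofNat 0, .ofNat 0, .ofNat 6, .ofNat 6,
  .ofNat 0, .ofNat 0, .ofNat 12, .ofNat 9, .ofNat 0, .ofNat 0, .ofNat 0, .ofNat 0, .ofNat 0, .negSucc 17,
  .negSucc 8, .ofNat 0, .ofNat 9, .ofNat 0, .ofNat 0, .ofNat 0, .ofNat 0, .ofNat 0, .ofNat 0, .ofNat 0,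
  .negSucc 15, .ofNat 12, .ofNat 4, .ofNat 6, .negSucc 9, .ofNat 18, .ofNat 0, .negSucc 11, .negSucc 11,
  .ofNat 0, .ofNat 0, .ofNat 0]

/-- the values at 12O -/
def col68 : List ℤ :=
  [.ofNat 1, .ofNat 5, .ofNat 7, .ofNat 7, .ofNat 7, .ofNat 10, .ofNat 7, .ofNat 1, .ofNat 16, .negSucc 4,
  .negSucc 13, .negSucc 18, .ofNat 6, .ofNat 17, .negSucc 4, .ofNat 9, .negSucc 3, .ofNat 11, .negSucc 0,
  .ofNat 8, .negSucc 6, .ofNat 8, .negSucc 18, .ofNat 7, .negSucc 23, .ofNat 0, .ofNat 14, .negSucc 0,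
  .ofNat 0, .ofNat 0, .negSucc 2, .negSucc 2, .negSucc 4, .negSucc 6, .ofNat 0, .ofNat 17, .ofNat 0,
  .negSucc 10, .negSucc 0, .negSucc 13, .ofNat 6, .negSucc 6, .negSucc 7, .negSucc 6, .ofNat 0, .negSucc 13,
  .ofNat 0, .ofNat 12, .ofNat 3, .negSucc 3, .ofNat 0, .ofNat 0, .ofNat 5, .ofNat 4, .ofNat 2, .negSucc 2,
  .ofNat 0, .ofNat 7, .ofNat 0, .ofNat 0, .ofNat 0, .negSucc 6, .negSucc 7, .ofNat 0, .ofNat 10, .ofNat 0,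
  .ofNat 0, .negSucc 4, .ofNat 7, .negSucc 17, .ofNat 5, .ofNat 6, .ofNat 0, .ofNat 0, .ofNat 9, .ofNat 0,
  .negSucc 9, .ofNat 5, .ofNat 0, .ofNat 0, .ofNat 0, .ofNat 14, .ofNat 0, .ofNat 0, .ofNat 0, .ofNat 4,
  .negSucc 1, .ofNat 0, .ofNat 12, .ofNat 0, .ofNat 16, .negSucc 4, .ofNat 0, .ofNat 0, .ofNat 0, .negSucc 4,
  .ofNat 0, .ofNat 9, .ofNat 0, .ofNat 16, .ofNat 0, .ofNat 0, .ofNat 0, .negSucc 1, .ofNat 8, .negSucc 3,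
  .ofNat 0, .negSucc 5, .ofNat 0, .negSucc 0, .ofNat 0, .ofNat 0, .ofNat 0, .ofNat 0, .ofNat 23, .negSucc 4,
  .ofNat 2, .negSucc 11, .ofNat 10, .ofNat 6, .ofNat 16, .ofNat 11, .ofNat 7, .ofNat 0, .ofNat 11,
  .negSucc 14, .negSucc 3, .ofNat 8, .ofNat 0, .ofNat 0, .ofNat 0, .ofNat 6, .ofNat 0, .ofNat 0, .negSucc 1,
  .ofNat 0, .ofNat 0, .negSucc 3, .negSucc 3, .ofNat 0, .negSucc 3, .negSucc 11, .negSucc 1, .ofNat 12,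
  .ofNat 0, .ofNat 8, .ofNat 3, .ofNat 0, .ofNat 0, .ofNat 0, .ofNat 0, .ofNat 0, .ofNat 12, .negSucc 2,
  .ofNat 0, .negSucc 2, .ofNat 0, .ofNat 0, .negSucc 15, .ofNat 0, .ofNat 0, .ofNat 0, .ofNat 0, .ofNat 0,
  .negSucc 11, .ofNat 0, .ofNat 2, .negSucc 1, .ofNat 6, .ofNat 0, .ofNat 0, .ofNat 8, .ofNat 0, .ofNat 0,
  .ofNat 0]

/-- the values at 12P -/
def col69 : List ℤ :=
  [.ofNat 1, .ofNat 0, .negSucc 2, .ofNat 0, .ofNat 1, .ofNat 1, .ofNat 3, .ofNat 6, .negSucc 2, .negSucc 0,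
  .ofNat 0, .negSucc 6, .ofNat 7, .negSucc 3, .negSucc 1, .ofNat 2, .ofNat 1, .negSucc 0, .negSucc 2,
  .ofNat 2, .negSucc 9, .ofNat 2, .ofNat 7, .negSucc 5, .ofNat 11, .negSucc 2, .ofNat 7, .ofNat 0, .ofNat 0,
  .negSucc 10, .ofNat 17, .negSucc 3, .negSucc 10, .ofNat 9, .negSucc 1, .ofNat 10, .negSucc 5, .ofNat 4,
  .negSucc 9, .negSucc 7, .ofNat 2, .negSucc 0, .negSucc 3, .ofNat 9, .negSucc 1, .negSucc 5, .negSucc 6,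
  .ofNat 1, .negSucc 1, .negSucc 15, .ofNat 9, .ofNat 6, .ofNat 19, .negSucc 5, .ofNat 16, .ofNat 7,
  .negSucc 2, .negSucc 2, .ofNat 0, .ofNat 0, .ofNat 15, .negSucc 8, .negSucc 5, .negSucc 5, .ofNat 18,
  .ofNat 0, .negSucc 2, .negSucc 7, .negSucc 7, .ofNat 8, .negSucc 7, .ofNat 10, .ofNat 15, .negSucc 14,
  .negSucc 5, .ofNat 0, .negSucc 6, .negSucc 17, .negSucc 2, .ofNat 0, .ofNat 0, .ofNat 3, .negSucc 5,
  .ofNat 0, .ofNat 0, .negSucc 8, .ofNat 19, .ofNat 0, .ofNat 0, .ofNat 0, .ofNat 0, .ofNat 6, .negSucc 2,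
  .ofNat 9, .ofNat 3, .ofNat 2, .ofNat 0, .negSucc 15, .negSucc 5, .ofNat 0, .ofNat 0, .negSucc 14, .ofNat 0,
  .ofNat 3, .negSucc 11, .ofNat 4, .ofNat 0, .ofNat 10, .ofNat 0, .ofNat 15, .ofNat 0, .negSucc 14, .ofNat 5,
  .negSucc 2, .negSucc 4, .ofNat 5, .ofNat 2, .ofNat 10, .negSucc 2, .negSucc 11, .ofNat 16, .ofNat 6,
  .negSucc 5, .ofNat 0, .negSucc 3, .ofNat 0, .ofNat 8, .ofNat 7, .negSucc 4, .ofNat 15, .ofNat 0,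
  .negSucc 4, .ofNat 0, .ofNat 0, .negSucc 1, .ofNat 6, .negSucc 2, .ofNat 3, .negSucc 15, .ofNat 3,
  .ofNat 3, .ofNat 8, .negSucc 13, .ofNat 0, .ofNat 3, .ofNat 14, .ofNat 0, .negSucc 5, .ofNat 0, .ofNat 3,
  .ofNat 0, .ofNat 0, .ofNat 0, .ofNat 0, .ofNat 6, .negSucc 10, .ofNat 0, .ofNat 0, .ofNat 0, .ofNat 0,
  .ofNat 0, .ofNat 0, .negSucc 5, .ofNat 0, .ofNat 4, .negSucc 1, .ofNat 10, .negSucc 11, .ofNat 0, .ofNat 0,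
  .negSucc 11, .ofNat 24, .ofNat 0, .ofNat 0, .ofNat 0]

/-- the values at 12Q -/
def col70 : List ℤ :=
  [.ofNat 1, .negSucc 2, .ofNat 3, .ofNat 3, .ofNat 7, .negSucc 1, .negSucc 8, .negSucc 2, .ofNat 0,
  .ofNat 11, .ofNat 6, .negSucc 6, .ofNat 10, .negSucc 6, .ofNat 7, .ofNat 5, .negSucc 7, .negSucc 0,
  .negSucc 8, .ofNat 8, .ofNat 5, .ofNat 8, .ofNat 1, .ofNat 3, .negSucc 3, .ofNat 0, .negSucc 13, .ofNat 3,
  .ofNat 0, .negSucc 19, .negSucc 6, .negSucc 6, .ofNat 19, .negSucc 14, .ofNat 4, .ofNat 13, .ofNat 0,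
  .ofNat 1, .ofNat 11, .ofNat 10, .ofNat 2, .ofNat 5, .ofNat 8, .negSucc 2, .negSucc 19, .negSucc 5,
  .ofNat 8, .ofNat 4, .ofNat 7, .negSucc 3, .ofNat 0, .ofNat 0, .ofNat 1, .ofNat 12, .ofNat 10, .ofNat 13,
  .ofNat 0, .negSucc 8, .ofNat 0, .ofNat 0, .ofNat 0, .ofNat 9, .ofNat 0, .ofNat 0, .ofNat 6, .ofNat 12,
  .ofNat 0, .ofNat 7, .negSucc 16, .negSucc 9, .ofNat 13, .ofNat 10, .ofNat 0, .ofNat 0, .negSucc 2,
  .ofNat 0, .ofNat 2, .negSucc 14, .ofNat 0, .ofNat 0, .ofNat 0, .negSucc 5, .ofNat 0, .ofNat 0, .ofNat 0,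
  .negSucc 11, .negSucc 13, .ofNat 0, .negSucc 11, .ofNat 0, .ofNat 0, .negSucc 8, .ofNat 0, .ofNat 0,
  .ofNat 0, .negSucc 0, .ofNat 0, .ofNat 17, .ofNat 0, .ofNat 0, .ofNat 0, .ofNat 0, .ofNat 0, .ofNat 6,
  .ofNat 0, .ofNat 16, .ofNat 0, .ofNat 10, .ofNat 0, .ofNat 3, .ofNat 0, .ofNat 0, .negSucc 3, .ofNat 0,
  .negSucc 4, .negSucc 0, .ofNat 2, .ofNat 4, .ofNat 6, .negSucc 5, .negSucc 7, .ofNat 15, .negSucc 8,
  .ofNat 0, .negSucc 0, .negSucc 2, .negSucc 3, .ofNat 4, .ofNat 4, .ofNat 0, .ofNat 0, .negSucc 1, .ofNat 0,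
  .ofNat 0, .negSucc 13, .ofNat 0, .ofNat 0, .negSucc 11, .negSucc 3, .ofNat 0, .ofNat 12, .negSucc 15,
  .ofNat 10, .negSucc 11, .ofNat 0, .ofNat 8, .ofNat 27, .ofNat 0, .ofNat 0, .ofNat 0, .ofNat 0, .ofNat 0,
  .ofNat 0, .ofNat 9, .ofNat 0, .negSucc 10, .ofNat 0, .ofNat 0, .ofNat 0, .ofNat 0, .ofNat 0, .ofNat 0,
  .ofNat 0, .ofNat 0, .ofNat 4, .negSucc 7, .negSucc 13, .ofNat 6, .negSucc 17, .ofNat 0, .ofNat 0, .ofNat 0,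
  .ofNat 0, .ofNat 0, .ofNat 0]

/-- the values at 12R -/
def col71 : List ℤ :=
  [.ofNat 1, .ofNat 1, .ofNat 3, .negSucc 0, .ofNat 3, .negSucc 5, .ofNat 3, .ofNat 5, .ofNat 0, .negSucc 4,
  .negSucc 5, .ofNat 5, .ofNat 6, .negSucc 2, .negSucc 0, .negSucc 2, .ofNat 0, .negSucc 0, .ofNat 3,
  .ofNat 0, .ofNat 1, .ofNat 0, .ofNat 1, .ofNat 3, .ofNat 0, .ofNat 0, .negSucc 5, .ofNat 3, .ofNat 0,
  .ofNat 4, .negSucc 2, .ofNat 5, .negSucc 4, .negSucc 6, .ofNat 4, .negSucc 2, .ofNat 0, .ofNat 1,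
  .negSucc 0, .negSucc 1, .ofNat 6, .negSucc 6, .ofNat 0, .negSucc 2, .ofNat 4, .negSucc 1, .ofNat 4,
  .ofNat 4, .negSucc 0, .ofNat 8, .ofNat 0, .ofNat 0, .ofNat 5, .ofNat 4, .negSucc 1, .negSucc 2, .ofNat 0,
  .ofNat 3, .ofNat 0, .ofNat 0, .ofNat 0, .negSucc 2, .ofNat 0, .ofNat 0, .negSucc 5, .ofNat 4, .ofNat 0,
  .ofNat 3, .negSucc 8, .ofNat 2, .negSucc 6, .negSucc 1, .ofNat 0, .ofNat 0, .ofNat 1, .ofNat 0, .ofNat 2,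
  .negSucc 6, .ofNat 0, .ofNat 0, .ofNat 0, .ofNat 6, .ofNat 0, .ofNat 0, .ofNat 0, .ofNat 4, .ofNat 2,
  .ofNat 0, .ofNat 0, .ofNat 0, .ofNat 0, .negSucc 0, .ofNat 0, .ofNat 0, .ofNat 0, .negSucc 0, .ofNat 0,
  .ofNat 1, .ofNat 0, .ofNat 0, .ofNat 0, .ofNat 0, .ofNat 0, .ofNat 2, .ofNat 0, .ofNat 0, .ofNat 0,
  .ofNat 6, .ofNat 0, .negSucc 4, .ofNat 0, .ofNat 0, .ofNat 4, .ofNat 0, .negSucc 0, .ofNat 3, .negSucc 1,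
  .ofNat 4, .ofNat 2, .negSucc 1, .ofNat 8, .ofNat 7, .ofNat 3, .ofNat 0, .negSucc 0, .negSucc 2, .negSucc 3,
  .negSucc 3, .ofNat 4, .ofNat 0, .ofNat 0, .ofNat 2, .ofNat 0, .ofNat 0, .negSucc 5, .ofNat 0, .ofNat 0,
  .ofNat 4, .ofNat 0, .ofNat 0, .negSucc 3, .ofNat 0, .negSucc 1, .negSucc 7, .ofNat 0, .ofNat 0, .negSucc 0,
  .ofNat 0, .ofNat 0, .ofNat 0, .ofNat 0, .ofNat 0, .ofNat 0, .negSucc 2, .ofNat 0, .ofNat 1, .ofNat 0,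
  .ofNat 0, .ofNat 0, .ofNat 0, .ofNat 0, .ofNat 0, .ofNat 0, .ofNat 0, .ofNat 4, .ofNat 0, .negSucc 5,
  .negSucc 1, .negSucc 1, .ofNat 0, .ofNat 0, .ofNat 0, .ofNat 0, .ofNat 0, .ofNat 0]

/-- the values at 12S -/
def col72 : List ℤ :=
  [.ofNat 1, .ofNat 3, .ofNat 3, .ofNat 3, .ofNat 1, .ofNat 4, .ofNat 3, .ofNat 3, .ofNat 0, .ofNat 5,
  .ofNat 6, .ofNat 5, .negSucc 1, .negSucc 0, .ofNat 1, .negSucc 0, .negSucc 1, .negSucc 0, .negSucc 2,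
  .negSucc 3, .negSucc 0, .negSucc 3, .ofNat 1, .negSucc 2, .ofNat 2, .ofNat 0, .negSucc 1, .negSucc 2,
  .ofNat 0, .negSucc 1, .negSucc 0, .negSucc 0, .negSucc 4, .ofNat 3, .negSucc 1, .ofNat 1, .ofNat 0,
  .negSucc 4, .negSucc 0, .ofNat 4, .ofNat 2, .negSucc 0, .negSucc 3, .ofNat 3, .negSucc 1, .ofNat 0,
  .ofNat 2, .ofNat 4, .ofNat 1, .negSucc 3, .ofNat 0, .ofNat 0, .negSucc 4, .ofNat 0, .ofNat 4, .ofNat 1,
  .ofNat 0, .negSucc 2, .ofNat 0, .ofNat 0, .ofNat 0, .ofNat 3, .ofNat 0, .ofNat 0, .ofNat 0, .ofNat 0,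
  .ofNat 0, .ofNat 1, .ofNat 1, .negSucc 3, .ofNat 1, .negSucc 1, .ofNat 0, .ofNat 0, .ofNat 3, .ofNat 0,
  .ofNat 2, .negSucc 2, .ofNat 0, .ofNat 0, .ofNat 0, .ofNat 6, .ofNat 0, .ofNat 0, .ofNat 0, .ofNat 0,
  .negSucc 1, .ofNat 0, .ofNat 0, .ofNat 0, .ofNat 0, .ofNat 3, .ofNat 0, .ofNat 0, .ofNat 0, .negSucc 0,
  .ofNat 0, .negSucc 0, .ofNat 0, .ofNat 0, .ofNat 0, .ofNat 0, .ofNat 0, .ofNat 0, .ofNat 0, .negSucc 1,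
  .ofNat 0, .negSucc 1, .ofNat 0, .ofNat 3, .ofNat 0, .ofNat 0, .ofNat 2, .ofNat 0, .ofNat 1, .negSucc 0,
  .negSucc 3, .negSucc 1, .ofNat 6, .ofNat 6, .ofNat 4, .negSucc 2, .negSucc 2, .ofNat 0, .negSucc 0,
  .negSucc 2, .negSucc 9, .negSucc 1, .ofNat 4, .ofNat 0, .ofNat 0, .ofNat 4, .ofNat 0, .ofNat 0, .negSucc 1,
  .ofNat 0, .ofNat 0, .ofNat 0, .negSucc 3, .ofNat 0, .ofNat 0, .ofNat 2, .negSucc 1, .ofNat 0, .ofNat 0,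
  .negSucc 3, .negSucc 2, .ofNat 0, .ofNat 0, .ofNat 0, .ofNat 0, .ofNat 0, .negSucc 5, .ofNat 3, .ofNat 0,
  .ofNat 1, .ofNat 0, .ofNat 0, .ofNat 0, .ofNat 0, .ofNat 0, .ofNat 0, .ofNat 0, .ofNat 0, .ofNat 4,
  .ofNat 4, .negSucc 1, .ofNat 6, .negSucc 5, .ofNat 0, .ofNat 12, .ofNat 12, .ofNat 0, .ofNat 0, .ofNat 0]

/-- the values at 12T -/
def col73 : List ℤ :=
  [.ofNat 1, .negSucc 0, .negSucc 0, .ofNat 1, .ofNat 1, .ofNat 0, .ofNat 1, .negSucc 2, .ofNat 0,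
  .negSucc 0, .ofNat 0, .ofNat 3, .ofNat 0, .ofNat 3, .negSucc 0, .ofNat 1, .ofNat 0, .negSucc 0, .negSucc 2,
  .ofNat 0, .negSucc 0, .ofNat 0, .negSucc 2, .ofNat 3, .ofNat 2, .ofNat 0, .negSucc 1, .ofNat 3, .ofNat 0,
  .negSucc 3, .negSucc 0, .negSucc 0, .negSucc 0, .ofNat 1, .ofNat 0, .ofNat 1, .ofNat 0, .ofNat 1, .ofNat 1,
  .negSucc 3, .ofNat 0, .ofNat 3, .ofNat 0, .ofNat 1, .ofNat 4, .ofNat 0, .ofNat 2, .ofNat 0, .negSucc 0,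
  .ofNat 6, .ofNat 0, .ofNat 0, .negSucc 0, .ofNat 0, .ofNat 0, .negSucc 2, .ofNat 0, .negSucc 2, .ofNat 0,
  .ofNat 0, .ofNat 0, .ofNat 3, .ofNat 0, .ofNat 0, .ofNat 0, .ofNat 0, .ofNat 0, .ofNat 5, .negSucc 0,
  .ofNat 0, .ofNat 3, .ofNat 0, .ofNat 0, .ofNat 0, .ofNat 3, .ofNat 0, .ofNat 2, .ofNat 1, .ofNat 0,
  .ofNat 0, .ofNat 0, .ofNat 0, .ofNat 0, .ofNat 0, .ofNat 0, .ofNat 0, .ofNat 2, .ofNat 0, .negSucc 5,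
  .ofNat 0, .ofNat 0, .ofNat 3, .ofNat 0, .ofNat 0, .ofNat 0, .negSucc 0, .ofNat 0, .negSucc 2, .ofNat 0,
  .ofNat 0, .ofNat 0, .ofNat 0, .ofNat 0, .ofNat 0, .ofNat 0, .negSucc 3, .ofNat 0, .ofNat 0, .ofNat 0,
  .negSucc 0, .ofNat 0, .ofNat 0, .ofNat 0, .ofNat 0, .negSucc 2, .negSucc 2, .ofNat 0, .ofNat 0, .ofNat 0,
  .ofNat 0, .ofNat 0, .ofNat 3, .negSucc 2, .ofNat 0, .negSucc 0, .negSucc 2, .ofNat 0, .ofNat 4, .negSucc 3,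
  .ofNat 0, .ofNat 0, .ofNat 0, .ofNat 0, .ofNat 0, .negSucc 1, .ofNat 0, .ofNat 0, .ofNat 0, .negSucc 5,
  .ofNat 0, .ofNat 0, .negSucc 3, .ofNat 0, .ofNat 6, .ofNat 0, .ofNat 0, .negSucc 2, .ofNat 0, .ofNat 0,
  .ofNat 0, .negSucc 7, .ofNat 8, .ofNat 0, .ofNat 3, .ofNat 0, .ofNat 3, .ofNat 0, .ofNat 0, .ofNat 0,
  .ofNat 8, .negSucc 7, .ofNat 0, .ofNat 0, .ofNat 0, .ofNat 4, .ofNat 0, .negSucc 1, .ofNat 2, .ofNat 6,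
  .ofNat 0, .negSucc 7, .ofNat 0, .ofNat 0, .ofNat 0, .ofNat 0]

/-- the values at 13A -/
def col74 : List ℤ :=
  [.ofNat 1, .ofNat 3, .ofNat 3, .ofNat 2, .ofNat 2, .ofNat 3, .ofNat 3, .ofNat 0, .ofNat 1, .ofNat 0,
  .ofNat 1, .ofNat 0, .ofNat 0, .ofNat 0, .ofNat 0, .ofNat 1, .ofNat 0, .negSucc 0, .ofNat 0, .negSucc 1,
  .ofNat 0, .ofNat 0, .ofNat 0, .negSucc 2, .negSucc 0, .negSucc 1, .negSucc 2, .negSucc 2, .ofNat 2,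
  .ofNat 0, .negSucc 0, .ofNat 0, .ofNat 0, .ofNat 0, .ofNat 0, .negSucc 0, .ofNat 0, .ofNat 0, .ofNat 0,
  .ofNat 0, .ofNat 0, .ofNat 1, .ofNat 0, .ofNat 0, .ofNat 0, .ofNat 0, .ofNat 0, .ofNat 0, .ofNat 0,
  .ofNat 0, .ofNat 1, .ofNat 3, .ofNat 0, .ofNat 0, .ofNat 0, .ofNat 0, .ofNat 0, .ofNat 0, .negSucc 1,
  .negSucc 2, .ofNat 0, .ofNat 3, .ofNat 2, .negSucc 0, .ofNat 0, .ofNat 0, .ofNat 1, .ofNat 0, .ofNat 0,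
  .ofNat 0, .negSucc 0, .ofNat 0, .ofNat 3, .ofNat 3, .ofNat 0, .ofNat 0, .ofNat 0, .ofNat 0, .ofNat 0,
  .ofNat 1, .ofNat 1, .ofNat 0, .ofNat 0, .negSucc 2, .negSucc 0, .ofNat 0, .ofNat 1, .negSucc 1, .ofNat 0,
  .ofNat 0, .ofNat 0, .negSucc 2, .ofNat 2, .ofNat 0, .ofNat 0, .ofNat 0, .ofNat 3, .ofNat 0, .ofNat 0,
  .ofNat 0, .ofNat 0, .ofNat 0, .negSucc 0, .ofNat 0, .ofNat 0, .ofNat 0, .ofNat 2, .ofNat 0, .ofNat 0,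
  .ofNat 0, .negSucc 0, .ofNat 0, .negSucc 1, .ofNat 1, .ofNat 0, .ofNat 0, .ofNat 0, .ofNat 0, .negSucc 2,
  .ofNat 0, .ofNat 0, .ofNat 0, .ofNat 0, .ofNat 3, .ofNat 0, .ofNat 0, .ofNat 0, .ofNat 0, .ofNat 0,
  .ofNat 0, .ofNat 0, .ofNat 0, .ofNat 0, .ofNat 0, .ofNat 0, .negSucc 2, .ofNat 0, .ofNat 0, .ofNat 0,
  .ofNat 0, .ofNat 0, .ofNat 0, .ofNat 0, .ofNat 0, .negSucc 0, .ofNat 0, .ofNat 0, .ofNat 1, .negSucc 0,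
  .ofNat 0, .ofNat 1, .ofNat 1, .ofNat 0, .negSucc 2, .ofNat 0, .negSucc 0, .ofNat 3, .ofNat 0, .ofNat 0,
  .ofNat 3, .ofNat 3, .ofNat 0, .ofNat 0, .ofNat 0, .ofNat 0, .ofNat 0, .ofNat 0, .negSucc 3, .ofNat 0,
  .ofNat 0, .negSucc 5, .ofNat 0, .ofNat 0, .negSucc 5, .ofNat 0]

/-- the values at 14A -/
def col75 : List ℤ :=
  [.ofNat 1, .negSucc 9, .ofNat 19, .negSucc 25, .ofNat 35, .ofNat 45, .negSucc 62, .ofNat 70, .negSucc 90,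
  .negSucc 63, .ofNat 35, .negSucc 6, .ofNat 65, .ofNat 126, .ofNat 1, .negSucc 55, .negSucc 45,
  .negSucc 139, .ofNat 0, .negSucc 99, .ofNat 126, .ofNat 109, .negSucc 89, .ofNat 35, .ofNat 35, .ofNat 70,
  .ofNat 119, .negSucc 118, .negSucc 34, .negSucc 55, .ofNat 0, .ofNat 91, .ofNat 0, .ofNat 19, .ofNat 0,
  .negSucc 53, .negSucc 34, .ofNat 0, .negSucc 34, .ofNat 0, .ofNat 0, .ofNat 0, .negSucc 34, .ofNat 0,
  .ofNat 36, .ofNat 35, .negSucc 34, .negSucc 19, .ofNat 0, .ofNat 0, .ofNat 10, .negSucc 55, .ofNat 0,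
  .negSucc 45, .negSucc 34, .negSucc 69, .negSucc 55, .ofNat 56, .ofNat 0, .ofNat 0, .ofNat 54, .ofNat 91,
  .negSucc 34, .negSucc 34, .ofNat 80, .ofNat 0, .negSucc 19, .ofNat 0, .ofNat 0, .ofNat 0, .ofNat 0,
  .negSucc 64, .negSucc 53, .ofNat 0, .ofNat 0, .ofNat 100, .ofNat 0, .ofNat 35, .ofNat 119, .ofNat 84,
  .negSucc 43, .ofNat 70, .ofNat 0, .negSucc 27, .ofNat 1, .ofNat 0, .ofNat 0, .ofNat 74, .ofNat 0,
  .negSucc 125, .negSucc 25, .ofNat 0, .ofNat 35, .negSucc 9, .negSucc 97, .ofNat 0, .ofNat 35, .ofNat 35,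
  .ofNat 65, .negSucc 69, .ofNat 0, .ofNat 0, .negSucc 55, .negSucc 55, .negSucc 34, .ofNat 10, .ofNat 0,
  .ofNat 0, .negSucc 99, .ofNat 0, .negSucc 34, .negSucc 44, .negSucc 69, .negSucc 118, .ofNat 0, .ofNat 0,
  .ofNat 0, .ofNat 0, .negSucc 24, .ofNat 0, .ofNat 0, .ofNat 154, .ofNat 26, .ofNat 0, .ofNat 140, .ofNat 0,
  .negSucc 44, .ofNat 0, .ofNat 0, .negSucc 44, .ofNat 0, .negSucc 19, .ofNat 0, .ofNat 0, .ofNat 126,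
  .negSucc 18, .ofNat 35, .ofNat 0, .negSucc 125, .ofNat 56, .ofNat 70, .ofNat 0, .ofNat 35, .negSucc 125,
  .ofNat 140, .ofNat 0, .ofNat 90, .ofNat 56, .ofNat 0, .ofNat 64, .ofNat 64, .negSucc 63, .negSucc 89,
  .ofNat 0, .ofNat 70, .ofNat 0, .negSucc 43, .ofNat 126, .ofNat 44, .ofNat 64, .negSucc 63, .negSucc 55,
  .negSucc 34, .negSucc 69, .ofNat 0, .ofNat 0, .ofNat 20, .ofNat 0, .ofNat 0, .negSucc 71, .ofNat 0,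
  .ofNat 0, .ofNat 90, .ofNat 0, .negSucc 139]

/-- the values at 14B -/
def col76 : List ℤ :=
  [.ofNat 1, .ofNat 4, .ofNat 5, .ofNat 2, .ofNat 7, .ofNat 3, .ofNat 7, .ofNat 0, .ofNat 7, .negSucc 7,
  .negSucc 6, .negSucc 6, .ofNat 9, .ofNat 0, .ofNat 1, .ofNat 0, .ofNat 10, .ofNat 0, .ofNat 0, .negSucc 1,
  .ofNat 0, .ofNat 11, .negSucc 5, .negSucc 6, .negSucc 6, .ofNat 0, .negSucc 6, .ofNat 7, .ofNat 7,
  .ofNat 0, .ofNat 0, .negSucc 6, .ofNat 0, .ofNat 5, .ofNat 0, .negSucc 11, .negSucc 6, .ofNat 0,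
  .negSucc 6, .ofNat 0, .ofNat 0, .ofNat 0, .ofNat 7, .ofNat 0, .negSucc 5, .ofNat 7, .ofNat 7, .negSucc 5,
  .ofNat 0, .ofNat 0, .negSucc 3, .ofNat 0, .ofNat 0, .negSucc 3, .negSucc 6, .ofNat 0, .ofNat 0, .ofNat 0,
  .ofNat 0, .ofNat 0, .ofNat 12, .ofNat 7, .negSucc 6, .ofNat 7, .ofNat 10, .ofNat 0, .negSucc 5, .ofNat 0,
  .ofNat 0, .ofNat 0, .ofNat 0, .negSucc 8, .negSucc 11, .ofNat 0, .ofNat 0, .ofNat 2, .ofNat 0, .negSucc 6,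
  .negSucc 6, .negSucc 13, .negSucc 1, .ofNat 0, .ofNat 0, .ofNat 14, .ofNat 1, .ofNat 0, .ofNat 0, .ofNat 4,
  .ofNat 0, .ofNat 0, .ofNat 2, .ofNat 0, .negSucc 6, .ofNat 4, .ofNat 14, .ofNat 0, .negSucc 6, .negSucc 6,
  .ofNat 9, .ofNat 0, .ofNat 0, .ofNat 0, .ofNat 0, .ofNat 0, .negSucc 6, .negSucc 3, .ofNat 0, .ofNat 0,
  .negSucc 1, .ofNat 0, .ofNat 7, .negSucc 2, .ofNat 0, .ofNat 21, .ofNat 0, .ofNat 0, .ofNat 0, .ofNat 0,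
  .ofNat 3, .ofNat 0, .ofNat 0, .negSucc 13, .negSucc 1, .ofNat 0, .ofNat 0, .ofNat 0, .negSucc 2, .ofNat 0,
  .ofNat 0, .negSucc 2, .ofNat 0, .negSucc 5, .ofNat 0, .ofNat 0, .ofNat 0, .negSucc 4, .ofNat 7, .ofNat 0,
  .ofNat 0, .ofNat 0, .ofNat 0, .ofNat 0, .ofNat 7, .ofNat 0, .ofNat 0, .ofNat 0, .ofNat 6, .ofNat 0,
  .ofNat 0, .ofNat 8, .ofNat 8, .negSucc 7, .negSucc 5, .ofNat 0, .ofNat 0, .ofNat 0, .negSucc 1, .ofNat 0,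
  .ofNat 2, .ofNat 8, .negSucc 7, .ofNat 0, .negSucc 6, .ofNat 0, .ofNat 0, .ofNat 0, .negSucc 7, .ofNat 0,
  .ofNat 0, .ofNat 12, .ofNat 0, .ofNat 0, .ofNat 6, .ofNat 0, .ofNat 0]

/-- the values at 14C -/
def col77 : List ℤ :=
  [.ofNat 1, .negSucc 3, .ofNat 5, .negSucc 1, .ofNat 7, .ofNat 3, .negSucc 8, .ofNat 0, .negSucc 4,
  .ofNat 8, .ofNat 1, .negSucc 2, .ofNat 9, .ofNat 0, .ofNat 1, .ofNat 0, .negSucc 9, .ofNat 0, .ofNat 0,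
  .ofNat 2, .ofNat 0, .ofNat 11, .ofNat 6, .negSucc 6, .negSucc 6, .ofNat 0, .negSucc 14, .ofNat 3,
  .negSucc 16, .ofNat 0, .ofNat 0, .negSucc 10, .ofNat 0, .ofNat 5, .ofNat 0, .ofNat 12, .ofNat 5, .ofNat 0,
  .negSucc 6, .ofNat 0, .ofNat 0, .ofNat 0, .ofNat 7, .ofNat 0, .ofNat 6, .ofNat 7, .ofNat 7, .negSucc 5,
  .ofNat 0, .ofNat 0, .ofNat 4, .ofNat 12, .ofNat 0, .negSucc 3, .ofNat 1, .ofNat 0, .ofNat 8, .ofNat 0,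
  .ofNat 0, .ofNat 0, .negSucc 11, .negSucc 12, .negSucc 6, .negSucc 0, .negSucc 9, .ofNat 0, .negSucc 5,
  .ofNat 0, .ofNat 0, .ofNat 0, .ofNat 0, .negSucc 8, .ofNat 12, .ofNat 0, .ofNat 0, .negSucc 1, .ofNat 0,
  .ofNat 13, .ofNat 1, .ofNat 2, .negSucc 1, .ofNat 12, .ofNat 0, .ofNat 2, .ofNat 1, .ofNat 0, .ofNat 0,
  .negSucc 3, .ofNat 0, .ofNat 0, .negSucc 1, .ofNat 0, .ofNat 1, .negSucc 3, .negSucc 9, .ofNat 0,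
  .negSucc 6, .negSucc 6, .ofNat 9, .ofNat 4, .ofNat 0, .ofNat 0, .negSucc 3, .ofNat 0, .negSucc 10,
  .ofNat 4, .ofNat 16, .ofNat 0, .ofNat 2, .ofNat 0, .ofNat 7, .negSucc 2, .ofNat 0, .negSucc 2, .ofNat 0,
  .ofNat 0, .ofNat 0, .ofNat 0, .ofNat 3, .ofNat 0, .ofNat 0, .negSucc 1, .ofNat 2, .ofNat 0, .ofNat 0,
  .ofNat 0, .negSucc 2, .ofNat 0, .ofNat 0, .negSucc 2, .ofNat 0, .negSucc 5, .ofNat 0, .ofNat 0, .ofNat 0,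
  .negSucc 4, .ofNat 7, .ofNat 0, .ofNat 0, .ofNat 0, .ofNat 0, .ofNat 0, .ofNat 7, .ofNat 0, .ofNat 0,
  .ofNat 0, .negSucc 5, .ofNat 0, .ofNat 0, .ofNat 8, .ofNat 8, .ofNat 8, .ofNat 6, .ofNat 0, .ofNat 0,
  .ofNat 0, .negSucc 1, .ofNat 0, .ofNat 2, .negSucc 7, .negSucc 7, .ofNat 0, .negSucc 6, .ofNat 0, .ofNat 0,
  .ofNat 0, .ofNat 8, .ofNat 0, .ofNat 0, .negSucc 11, .ofNat 0, .ofNat 0, .ofNat 6, .ofNat 0, .ofNat 0]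

/-- the values at 14D -/
def col78 : List ℤ :=
  [.ofNat 1, .ofNat 2, .ofNat 3, .ofNat 2, .ofNat 3, .negSucc 2, .ofNat 1, .ofNat 6, .ofNat 1, .ofNat 0,
  .negSucc 0, .ofNat 5, .ofNat 1, .negSucc 1, .ofNat 1, .negSucc 7, .ofNat 6, .negSucc 3, .ofNat 0, .ofNat 4,
  .negSucc 1, .negSucc 2, .ofNat 2, .ofNat 3, .ofNat 3, .ofNat 6, .negSucc 4, .ofNat 1, .ofNat 1, .negSucc 7,
  .ofNat 0, .negSucc 0, .ofNat 0, .ofNat 3, .ofNat 0, .negSucc 1, .ofNat 5, .ofNat 0, .negSucc 2, .ofNat 0,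
  .ofNat 0, .ofNat 0, .negSucc 2, .ofNat 0, .negSucc 3, .ofNat 3, .negSucc 2, .negSucc 3, .ofNat 0, .ofNat 0,
  .negSucc 1, .ofNat 0, .ofNat 0, .ofNat 2, .ofNat 9, .negSucc 5, .ofNat 4, .ofNat 8, .ofNat 0, .ofNat 0,
  .ofNat 2, .negSucc 8, .negSucc 2, .ofNat 1, .ofNat 0, .ofNat 0, .negSucc 3, .ofNat 0, .ofNat 0, .ofNat 0,
  .ofNat 0, .negSucc 0, .negSucc 1, .ofNat 0, .ofNat 0, .negSucc 3, .ofNat 0, .ofNat 3, .negSucc 4, .ofNat 4,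
  .ofNat 4, .negSucc 5, .ofNat 0, .negSucc 3, .ofNat 1, .ofNat 0, .ofNat 0, .negSucc 1, .ofNat 0, .ofNat 2,
  .ofNat 2, .ofNat 0, .negSucc 0, .ofNat 2, .ofNat 2, .ofNat 0, .ofNat 3, .ofNat 3, .ofNat 1, .ofNat 6,
  .ofNat 0, .ofNat 0, .ofNat 0, .negSucc 7, .ofNat 5, .negSucc 1, .ofNat 0, .ofNat 0, .ofNat 4, .ofNat 0,
  .negSucc 2, .ofNat 3, .negSucc 5, .negSucc 2, .ofNat 0, .ofNat 0, .ofNat 0, .ofNat 0, .ofNat 7, .ofNat 0,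
  .ofNat 0, .negSucc 1, .negSucc 1, .ofNat 0, .ofNat 4, .ofNat 0, .ofNat 3, .ofNat 0, .ofNat 0, .ofNat 3,
  .ofNat 0, .negSucc 3, .ofNat 0, .ofNat 0, .negSucc 1, .negSucc 2, .ofNat 3, .ofNat 0, .ofNat 2, .ofNat 8,
  .ofNat 6, .ofNat 0, .ofNat 3, .ofNat 2, .ofNat 4, .ofNat 0, .negSucc 1, .ofNat 8, .ofNat 0, .ofNat 0,
  .ofNat 0, .ofNat 0, .ofNat 2, .ofNat 0, .ofNat 6, .ofNat 0, .ofNat 4, .negSucc 1, .negSucc 3, .ofNat 0,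
  .ofNat 0, .negSucc 7, .negSucc 2, .negSucc 5, .ofNat 0, .ofNat 0, .negSucc 3, .ofNat 0, .ofNat 0, .ofNat 8,
  .ofNat 0, .ofNat 0, .negSucc 5, .ofNat 0, .negSucc 3]

/-- the values at 14E -/
def col79 : List ℤ :=
  [.ofNat 1, .negSucc 1, .ofNat 3, .negSucc 1, .ofNat 3, .negSucc 2, .ofNat 1, .ofNat 6, .negSucc 2,
  .ofNat 0, .negSucc 4, .ofNat 1, .ofNat 1, .negSucc 1, .ofNat 1, .ofNat 8, .negSucc 5, .ofNat 4, .ofNat 0,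
  .negSucc 3, .negSucc 1, .negSucc 2, .negSucc 1, .ofNat 3, .ofNat 3, .ofNat 6, .negSucc 0, .negSucc 6,
  .ofNat 5, .ofNat 8, .ofNat 0, .ofNat 3, .ofNat 0, .ofNat 3, .ofNat 0, .ofNat 2, .negSucc 2, .ofNat 0,
  .negSucc 2, .ofNat 0, .ofNat 0, .ofNat 0, .negSucc 2, .ofNat 0, .ofNat 4, .ofNat 3, .negSucc 2, .negSucc 3,
  .ofNat 0, .ofNat 0, .ofNat 2, .negSucc 7, .ofNat 0, .ofNat 2, .ofNat 5, .negSucc 5, .ofNat 0, .negSucc 7,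
  .ofNat 0, .ofNat 0, .negSucc 1, .ofNat 3, .negSucc 2, .ofNat 5, .ofNat 0, .ofNat 0, .negSucc 3, .ofNat 0,
  .ofNat 0, .ofNat 0, .ofNat 0, .negSucc 0, .ofNat 2, .ofNat 0, .ofNat 0, .ofNat 4, .ofNat 0, .ofNat 3,
  .negSucc 0, .ofNat 4, .ofNat 4, .negSucc 1, .ofNat 0, .ofNat 4, .ofNat 1, .ofNat 0, .ofNat 0, .ofNat 2,
  .ofNat 0, .ofNat 2, .negSucc 1, .ofNat 0, .negSucc 4, .negSucc 1, .ofNat 6, .ofNat 0, .ofNat 3, .ofNat 3,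
  .ofNat 1, .ofNat 2, .ofNat 0, .ofNat 0, .negSucc 7, .ofNat 8, .negSucc 2, .ofNat 2, .ofNat 0, .ofNat 0,
  .negSucc 3, .ofNat 0, .negSucc 2, .ofNat 3, .negSucc 5, .ofNat 1, .ofNat 0, .ofNat 0, .ofNat 0, .ofNat 0,
  .ofNat 7, .ofNat 0, .ofNat 0, .ofNat 2, .ofNat 2, .ofNat 0, .negSucc 3, .ofNat 0, .ofNat 3, .ofNat 0,
  .ofNat 0, .ofNat 3, .ofNat 0, .negSucc 3, .ofNat 0, .ofNat 0, .negSucc 1, .negSucc 2, .ofNat 3, .ofNat 0,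
  .ofNat 2, .negSucc 7, .ofNat 6, .ofNat 0, .ofNat 3, .ofNat 2, .negSucc 3, .ofNat 0, .ofNat 2, .negSucc 7,
  .ofNat 0, .ofNat 0, .ofNat 0, .ofNat 0, .negSucc 1, .ofNat 0, .ofNat 6, .ofNat 0, .ofNat 4, .negSucc 1,
  .negSucc 3, .ofNat 0, .ofNat 0, .ofNat 8, .negSucc 2, .negSucc 5, .ofNat 0, .ofNat 0, .ofNat 4, .ofNat 0,
  .ofNat 0, .negSucc 7, .ofNat 0, .ofNat 0, .negSucc 5, .ofNat 0, .ofNat 4]

/-- the values at 15A -/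
def col80 : List ℤ :=
  [.ofNat 1, .ofNat 3, .ofNat 1, .ofNat 0, .ofNat 4, .ofNat 3, .negSucc 1, .negSucc 0, .ofNat 2, .ofNat 3,
  .negSucc 4, .ofNat 1, .negSucc 3, .negSucc 2, .ofNat 9, .ofNat 4, .ofNat 10, .negSucc 0, .negSucc 0,
  .negSucc 4, .ofNat 5, .negSucc 5, .ofNat 3, .negSucc 5, .negSucc 0, .ofNat 5, .ofNat 5, .negSucc 3,
  .negSucc 6, .negSucc 7, .ofNat 0, .ofNat 5, .negSucc 5, .ofNat 6, .negSucc 2, .ofNat 5, .ofNat 5, .ofNat 4,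
  .ofNat 0, .ofNat 7, .ofNat 7, .negSucc 4, .ofNat 1, .ofNat 3, .ofNat 7, .negSucc 1, .ofNat 0, .negSucc 4,
  .ofNat 9, .ofNat 10, .ofNat 10, .negSucc 3, .ofNat 2, .negSucc 5, .negSucc 0, .ofNat 0, .ofNat 5, .ofNat 0,
  .negSucc 11, .ofNat 6, .ofNat 3, .ofNat 6, .negSucc 4, .negSucc 10, .ofNat 0, .ofNat 0, .ofNat 5, .ofNat 1,
  .ofNat 1, .negSucc 3, .ofNat 0, .ofNat 0, .ofNat 3, .negSucc 2, .ofNat 5, .negSucc 4, .ofNat 0, .ofNat 0,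
  .negSucc 6, .negSucc 2, .negSucc 2, .ofNat 0, .ofNat 7, .ofNat 1, .negSucc 6, .negSucc 4, .ofNat 0,
  .ofNat 8, .ofNat 3, .negSucc 9, .negSucc 4, .ofNat 0, .negSucc 3, .ofNat 2, .ofNat 2, .ofNat 0, .ofNat 1,
  .ofNat 0, .ofNat 4, .ofNat 10, .negSucc 3, .ofNat 3, .ofNat 8, .negSucc 4, .ofNat 0, .ofNat 0, .ofNat 8,
  .ofNat 0, .ofNat 5, .ofNat 0, .negSucc 6, .ofNat 3, .ofNat 0, .ofNat 5, .ofNat 0, .ofNat 0, .ofNat 0,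
  .ofNat 1, .ofNat 0, .ofNat 0, .negSucc 4, .ofNat 6, .ofNat 6, .negSucc 1, .ofNat 0, .ofNat 0, .ofNat 0,
  .ofNat 0, .ofNat 0, .negSucc 2, .negSucc 3, .ofNat 0, .ofNat 0, .ofNat 0, .negSucc 4, .negSucc 4,
  .negSucc 1, .ofNat 0, .ofNat 7, .negSucc 0, .ofNat 0, .ofNat 2, .ofNat 0, .ofNat 0, .negSucc 0, .ofNat 13,
  .ofNat 0, .ofNat 2, .ofNat 4, .ofNat 2, .negSucc 11, .negSucc 11, .ofNat 0, .ofNat 0, .negSucc 3, .ofNat 0,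
  .negSucc 0, .ofNat 0, .ofNat 5, .negSucc 3, .negSucc 3, .ofNat 10, .ofNat 5, .ofNat 0, .ofNat 0,
  .negSucc 4, .ofNat 0, .ofNat 0, .ofNat 0, .ofNat 0, .ofNat 0, .ofNat 0, .ofNat 0, .ofNat 0, .ofNat 0]

/-- the values at 15B -/
def col81 : List ℤ :=
  [.ofNat 1, .ofNat 2, .ofNat 2, .ofNat 2, .ofNat 0, .ofNat 1, .ofNat 0, .ofNat 1, .ofNat 0, .ofNat 0,
  .ofNat 0, .ofNat 0, .negSucc 0, .ofNat 0, .negSucc 1, .negSucc 1, .negSucc 1, .ofNat 0, .ofNat 2, .ofNat 0,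
  .negSucc 1, .negSucc 0, .ofNat 0, .ofNat 2, .ofNat 0, .ofNat 0, .ofNat 0, .ofNat 0, .ofNat 0, .ofNat 0,
  .ofNat 1, .ofNat 0, .ofNat 1, .ofNat 0, .ofNat 1, .ofNat 0, .ofNat 0, .ofNat 0, .ofNat 0, .negSucc 1,
  .negSucc 1, .ofNat 0, .ofNat 0, .ofNat 0, .ofNat 0, .ofNat 0, .ofNat 2, .ofNat 0, .ofNat 2, .ofNat 1,
  .ofNat 0, .ofNat 0, .ofNat 3, .negSucc 1, .ofNat 0, .ofNat 0, .ofNat 0, .ofNat 0, .ofNat 2, .ofNat 2,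
  .ofNat 0, .ofNat 0, .ofNat 0, .ofNat 0, .ofNat 0, .negSucc 0, .ofNat 0, .ofNat 0, .ofNat 0, .ofNat 0,
  .ofNat 0, .ofNat 0, .ofNat 0, .ofNat 0, .ofNat 0, .negSucc 1, .ofNat 0, .ofNat 0, .ofNat 0, .ofNat 0,
  .ofNat 0, .ofNat 0, .ofNat 0, .ofNat 0, .ofNat 0, .ofNat 0, .ofNat 0, .ofNat 0, .ofNat 0, .negSucc 0,
  .ofNat 0, .ofNat 0, .ofNat 0, .ofNat 0, .ofNat 0, .ofNat 0, .ofNat 0, .ofNat 0, .ofNat 0, .ofNat 0,
  .ofNat 2, .ofNat 0, .ofNat 0, .ofNat 0, .ofNat 0, .ofNat 0, .ofNat 0, .negSucc 0, .ofNat 0, .ofNat 0,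
  .ofNat 0, .ofNat 0, .ofNat 0, .ofNat 0, .ofNat 0, .ofNat 0, .ofNat 0, .ofNat 0, .ofNat 0, .ofNat 0,
  .negSucc 2, .ofNat 0, .ofNat 0, .ofNat 0, .ofNat 0, .ofNat 0, .ofNat 0, .ofNat 0, .ofNat 0, .ofNat 0,
  .ofNat 0, .ofNat 0, .ofNat 0, .ofNat 0, .ofNat 0, .ofNat 0, .ofNat 0, .ofNat 0, .ofNat 0, .ofNat 0,
  .ofNat 0, .ofNat 0, .ofNat 0, .negSucc 0, .ofNat 0, .ofNat 1, .ofNat 0, .ofNat 0, .negSucc 1, .ofNat 0,
  .ofNat 0, .ofNat 0, .negSucc 1, .ofNat 1, .ofNat 0, .ofNat 0, .ofNat 0, .ofNat 0, .ofNat 0, .ofNat 0,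
  .ofNat 0, .ofNat 2, .ofNat 0, .ofNat 1, .ofNat 0, .ofNat 0, .ofNat 0, .ofNat 0, .negSucc 1, .ofNat 0,
  .ofNat 0, .ofNat 0, .ofNat 0, .ofNat 0, .ofNat 0]

/-- the values at 16A -/
def col82 : List ℤ :=
  [.ofNat 1, .ofNat 3, .negSucc 0, .negSucc 5, .ofNat 10, .negSucc 0, .ofNat 5, .negSucc 5, .negSucc 4,
  .negSucc 1, .ofNat 9, .negSucc 1, .ofNat 8, .negSucc 9, .ofNat 6, .negSucc 8, .ofNat 16, .ofNat 11,
  .ofNat 7, .ofNat 0, .ofNat 6, .ofNat 0, .negSucc 12, .ofNat 15, .ofNat 2, .negSucc 15, .ofNat 5,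
  .negSucc 5, .negSucc 20, .ofNat 13, .negSucc 13, .negSucc 8, .ofNat 11, .ofNat 4, .ofNat 0, .ofNat 6,
  .negSucc 8, .ofNat 12, .ofNat 21, .negSucc 2, .negSucc 2, .ofNat 4, .ofNat 0, .ofNat 11, .negSucc 5,
  .ofNat 6, .negSucc 9, .ofNat 16, .ofNat 12, .ofNat 0, .negSucc 3, .negSucc 14, .ofNat 4, .ofNat 0,
  .ofNat 15, .negSucc 10, .ofNat 8, .ofNat 7, .ofNat 0, .ofNat 0, .negSucc 15, .ofNat 1, .ofNat 0,
  .negSucc 5, .ofNat 0, .negSucc 14, .ofNat 5, .ofNat 6, .ofNat 6, .negSucc 14, .negSucc 11, .ofNat 0,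
  .ofNat 2, .negSucc 13, .negSucc 0, .ofNat 0, .ofNat 14, .negSucc 14, .ofNat 2, .ofNat 0, .ofNat 0,
  .negSucc 7, .ofNat 0, .ofNat 0, .ofNat 9, .negSucc 15, .negSucc 0, .ofNat 0, .ofNat 0, .ofNat 0, .ofNat 0,
  .ofNat 12, .negSucc 4, .negSucc 6, .negSucc 10, .negSucc 8, .ofNat 12, .negSucc 26, .ofNat 0, .ofNat 0,
  .ofNat 0, .ofNat 2, .ofNat 0, .ofNat 8, .ofNat 0, .ofNat 12, .ofNat 0, .ofNat 0, .ofNat 0, .negSucc 12,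
  .ofNat 12, .ofNat 8, .negSucc 15, .ofNat 11, .ofNat 1, .ofNat 1, .ofNat 0, .negSucc 0, .ofNat 5, .ofNat 0,
  .ofNat 0, .negSucc 5, .ofNat 6, .ofNat 0, .ofNat 7, .negSucc 6, .ofNat 0, .ofNat 4, .ofNat 4, .ofNat 10,
  .ofNat 0, .ofNat 8, .negSucc 20, .negSucc 8, .ofNat 10, .ofNat 3, .ofNat 5, .ofNat 16, .ofNat 0, .ofNat 8,
  .negSucc 7, .negSucc 5, .ofNat 0, .ofNat 0, .ofNat 4, .ofNat 0, .ofNat 9, .negSucc 2, .ofNat 0, .ofNat 16,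
  .ofNat 0, .ofNat 0, .ofNat 0, .negSucc 17, .ofNat 3, .negSucc 3, .ofNat 0, .negSucc 5, .ofNat 0, .ofNat 0,
  .ofNat 0, .ofNat 0, .ofNat 0, .ofNat 0, .ofNat 12, .ofNat 0, .ofNat 14, .ofNat 10, .ofNat 6, .ofNat 12,
  .ofNat 6, .ofNat 0, .ofNat 0, .negSucc 29, .ofNat 0]

/-- the values at 16B -/
def col83 : List ℤ :=
  [.ofNat 1, .negSucc 4, .ofNat 7, .negSucc 5, .ofNat 10, .ofNat 7, .negSucc 10, .ofNat 10, .negSucc 12,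
  .negSucc 1, .ofNat 1, .negSucc 1, .ofNat 8, .ofNat 6, .ofNat 6, .ofNat 7, .negSucc 15, .negSucc 4,
  .negSucc 0, .ofNat 0, .ofNat 6, .ofNat 0, .negSucc 4, .negSucc 8, .ofNat 2, .ofNat 16, .negSucc 10,
  .negSucc 5, .ofNat 3, .ofNat 13, .ofNat 2, .negSucc 8, .negSucc 4, .ofNat 4, .ofNat 0, .ofNat 22,
  .negSucc 8, .ofNat 12, .ofNat 5, .negSucc 2, .negSucc 18, .ofNat 4, .ofNat 0, .negSucc 4, .negSucc 5,
  .ofNat 6, .negSucc 9, .negSucc 15, .ofNat 12, .ofNat 0, .negSucc 3, .negSucc 14, .ofNat 4, .ofNat 0,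
  .negSucc 8, .ofNat 5, .ofNat 8, .negSucc 0, .ofNat 0, .ofNat 0, .ofNat 16, .negSucc 6, .ofNat 0,
  .negSucc 5, .ofNat 0, .ofNat 9, .negSucc 10, .ofNat 6, .ofNat 6, .negSucc 14, .negSucc 11, .ofNat 0,
  .negSucc 13, .ofNat 2, .ofNat 15, .ofNat 0, .negSucc 1, .negSucc 14, .ofNat 2, .ofNat 0, .ofNat 0,
  .negSucc 7, .ofNat 0, .ofNat 0, .negSucc 14, .ofNat 16, .negSucc 0, .ofNat 0, .ofNat 0, .ofNat 0, .ofNat 0,
  .ofNat 12, .ofNat 19, .ofNat 17, .ofNat 5, .negSucc 16, .ofNat 12, .negSucc 2, .ofNat 0, .ofNat 0,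
  .ofNat 0, .ofNat 2, .ofNat 0, .ofNat 8, .ofNat 0, .ofNat 12, .ofNat 0, .ofNat 0, .ofNat 0, .negSucc 4,
  .ofNat 12, .ofNat 8, .ofNat 16, .negSucc 4, .ofNat 1, .negSucc 22, .ofNat 0, .negSucc 8, .negSucc 18,
  .ofNat 0, .ofNat 0, .negSucc 5, .ofNat 6, .ofNat 0, .negSucc 8, .ofNat 9, .ofNat 0, .ofNat 4, .ofNat 4,
  .ofNat 10, .ofNat 0, .ofNat 8, .ofNat 3, .ofNat 15, .negSucc 5, .ofNat 3, .negSucc 10, .negSucc 15,
  .ofNat 0, .ofNat 8, .negSucc 7, .negSucc 5, .ofNat 0, .ofNat 0, .ofNat 4, .ofNat 0, .negSucc 14, .ofNat 21,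
  .ofNat 0, .negSucc 15, .ofNat 0, .ofNat 0, .ofNat 0, .negSucc 17, .ofNat 3, .negSucc 3, .ofNat 0,
  .negSucc 5, .ofNat 0, .ofNat 0, .ofNat 0, .ofNat 0, .ofNat 0, .ofNat 0, .ofNat 12, .ofNat 0, .negSucc 1,
  .negSucc 5, .ofNat 6, .ofNat 12, .ofNat 6, .ofNat 0, .ofNat 0, .ofNat 18, .ofNat 0]

/-- the values at 16C -/
def col84 : List ℤ :=
  [.ofNat 1, .ofNat 3, .ofNat 3, .ofNat 2, .ofNat 2, .ofNat 3, .ofNat 1, .negSucc 1, .ofNat 3, .negSucc 1,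
  .negSucc 2, .negSucc 5, .ofNat 0, .ofNat 2, .ofNat 6, .ofNat 3, .ofNat 0, .negSucc 0, .ofNat 7, .ofNat 0,
  .negSucc 1, .ofNat 0, .negSucc 0, .negSucc 0, .negSucc 1, .ofNat 0, .ofNat 1, .negSucc 1, .negSucc 0,
  .ofNat 1, .ofNat 6, .ofNat 3, .ofNat 11, .negSucc 3, .ofNat 0, .ofNat 2, .negSucc 0, .ofNat 4, .negSucc 2,
  .ofNat 9, .ofNat 1, .ofNat 4, .ofNat 0, .negSucc 0, .ofNat 10, .negSucc 1, .negSucc 5, .ofNat 0,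
  .negSucc 3, .ofNat 0, .ofNat 4, .ofNat 1, .ofNat 4, .ofNat 0, .negSucc 0, .ofNat 1, .ofNat 0, .negSucc 0,
  .ofNat 0, .ofNat 0, .ofNat 0, .negSucc 2, .ofNat 0, .ofNat 6, .ofNat 0, .ofNat 1, .ofNat 5, .ofNat 6,
  .negSucc 1, .ofNat 1, .negSucc 3, .ofNat 0, .negSucc 1, .negSucc 1, .negSucc 0, .ofNat 0, .ofNat 2,
  .negSucc 2, .negSucc 1, .ofNat 0, .ofNat 0, .ofNat 0, .ofNat 0, .ofNat 0, .negSucc 2, .ofNat 0, .negSucc 0,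
  .ofNat 0, .ofNat 0, .ofNat 0, .ofNat 0, .negSucc 3, .negSucc 0, .ofNat 1, .negSucc 2, .ofNat 7, .negSucc 3,
  .ofNat 5, .ofNat 0, .ofNat 0, .ofNat 0, .ofNat 2, .ofNat 0, .ofNat 0, .ofNat 0, .negSucc 11, .ofNat 0,
  .ofNat 0, .ofNat 0, .ofNat 7, .ofNat 4, .ofNat 0, .ofNat 0, .negSucc 4, .ofNat 1, .ofNat 5, .ofNat 0,
  .negSucc 0, .ofNat 1, .ofNat 0, .ofNat 0, .negSucc 1, .negSucc 9, .ofNat 0, .negSucc 4, .ofNat 1, .ofNat 0,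
  .ofNat 4, .negSucc 3, .ofNat 2, .ofNat 0, .ofNat 0, .negSucc 8, .negSucc 4, .ofNat 6, .negSucc 4,
  .negSucc 2, .ofNat 0, .ofNat 0, .ofNat 0, .ofNat 0, .negSucc 5, .ofNat 0, .ofNat 0, .ofNat 4, .ofNat 0,
  .negSucc 2, .ofNat 5, .ofNat 0, .ofNat 0, .ofNat 0, .ofNat 0, .ofNat 0, .negSucc 5, .ofNat 3, .ofNat 4,
  .ofNat 0, .negSucc 5, .ofNat 0, .ofNat 0, .ofNat 0, .ofNat 0, .ofNat 0, .ofNat 0, .ofNat 12, .ofNat 0,
  .negSucc 1, .ofNat 2, .negSucc 1, .negSucc 3, .ofNat 14, .ofNat 0, .ofNat 0, .ofNat 2, .ofNat 0]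

/-- the values at 16D -/
def col85 : List ℤ :=
  [.ofNat 1, .negSucc 0, .negSucc 0, .ofNat 2, .ofNat 2, .negSucc 0, .ofNat 1, .negSucc 1, .negSucc 0,
  .negSucc 1, .ofNat 1, .ofNat 2, .ofNat 0, .ofNat 2, .ofNat 6, .ofNat 3, .ofNat 0, .negSucc 0, .ofNat 3,
  .ofNat 0, .negSucc 1, .ofNat 0, .negSucc 4, .ofNat 3, .ofNat 6, .ofNat 0, .ofNat 1, .ofNat 6, .ofNat 3,
  .negSucc 6, .ofNat 6, .negSucc 4, .ofNat 3, .negSucc 3, .ofNat 0, .ofNat 2, .negSucc 0, .ofNat 4, .ofNat 5,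
  .ofNat 1, .ofNat 1, .ofNat 4, .ofNat 0, .negSucc 0, .negSucc 5, .negSucc 1, .ofNat 2, .ofNat 0, .negSucc 3,
  .ofNat 0, .ofNat 4, .ofNat 1, .ofNat 4, .ofNat 0, .ofNat 3, .ofNat 1, .ofNat 0, .negSucc 4, .ofNat 0,
  .ofNat 0, .ofNat 0, .ofNat 1, .ofNat 0, .negSucc 1, .ofNat 0, .negSucc 2, .negSucc 2, .negSucc 9,
  .negSucc 1, .ofNat 1, .negSucc 3, .ofNat 0, .negSucc 1, .negSucc 1, .ofNat 7, .ofNat 0, .ofNat 2, .ofNat 5,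
  .ofNat 6, .ofNat 0, .ofNat 0, .ofNat 0, .ofNat 0, .ofNat 0, .negSucc 6, .ofNat 0, .negSucc 0, .ofNat 0,
  .ofNat 0, .ofNat 0, .ofNat 0, .negSucc 3, .ofNat 3, .negSucc 2, .ofNat 5, .ofNat 3, .negSucc 3, .ofNat 1,
  .ofNat 0, .ofNat 0, .ofNat 0, .ofNat 2, .ofNat 0, .ofNat 0, .ofNat 0, .ofNat 4, .ofNat 0, .ofNat 0,
  .ofNat 0, .ofNat 3, .ofNat 4, .ofNat 0, .ofNat 0, .ofNat 3, .ofNat 1, .ofNat 1, .ofNat 0, .negSucc 4,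
  .negSucc 2, .ofNat 0, .ofNat 0, .ofNat 6, .ofNat 6, .ofNat 0, .negSucc 4, .negSucc 6, .ofNat 0,
  .negSucc 11, .ofNat 12, .ofNat 2, .ofNat 0, .ofNat 0, .negSucc 4, .negSucc 0, .ofNat 6, .negSucc 4,
  .ofNat 5, .ofNat 0, .ofNat 0, .ofNat 0, .ofNat 0, .ofNat 10, .ofNat 0, .ofNat 0, .ofNat 4, .ofNat 0,
  .negSucc 6, .ofNat 1, .ofNat 0, .ofNat 0, .ofNat 0, .ofNat 0, .ofNat 0, .ofNat 2, .ofNat 3, .ofNat 4,
  .ofNat 0, .negSucc 5, .ofNat 0, .ofNat 0, .ofNat 0, .ofNat 0, .ofNat 0, .ofNat 0, .negSucc 3, .ofNat 0,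
  .negSucc 9, .ofNat 10, .ofNat 14, .negSucc 3, .negSucc 1, .ofNat 0, .ofNat 0, .negSucc 5, .ofNat 0]

/-- the values at 16E -/
def col86 : List ℤ :=
  [.ofNat 1, .negSucc 0, .ofNat 3, .ofNat 2, .ofNat 2, .negSucc 4, .negSucc 2, .ofNat 2, .negSucc 0,
  .ofNat 6, .negSucc 2, .negSucc 1, .ofNat 8, .negSucc 1, .negSucc 1, .negSucc 0, .ofNat 0, .ofNat 3,
  .negSucc 4, .ofNat 0, .negSucc 1, .ofNat 0, .negSucc 0, .ofNat 3, .ofNat 2, .ofNat 0, .negSucc 2,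
  .negSucc 5, .negSucc 0, .negSucc 2, .negSucc 5, .ofNat 7, .ofNat 3, .ofNat 4, .ofNat 0, .negSucc 1,
  .ofNat 7, .negSucc 3, .negSucc 2, .negSucc 2, .ofNat 5, .ofNat 4, .ofNat 0, .ofNat 3, .ofNat 2, .negSucc 1,
  .ofNat 6, .ofNat 0, .negSucc 3, .ofNat 0, .negSucc 3, .ofNat 1, .ofNat 4, .ofNat 0, .negSucc 4, .negSucc 2,
  .ofNat 8, .negSucc 4, .ofNat 0, .ofNat 0, .ofNat 0, .ofNat 5, .ofNat 0, .negSucc 5, .ofNat 0, .ofNat 5,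
  .negSucc 2, .negSucc 1, .negSucc 1, .ofNat 1, .ofNat 4, .ofNat 0, .negSucc 5, .negSucc 5, .ofNat 7,
  .ofNat 0, .negSucc 9, .ofNat 1, .ofNat 2, .ofNat 0, .ofNat 0, .negSucc 7, .ofNat 0, .ofNat 0, .ofNat 5,
  .ofNat 0, .negSucc 0, .ofNat 0, .ofNat 0, .ofNat 0, .ofNat 0, .negSucc 3, .negSucc 0, .negSucc 2,
  .negSucc 2, .ofNat 3, .negSucc 3, .ofNat 1, .ofNat 0, .ofNat 0, .ofNat 0, .negSucc 5, .ofNat 0, .ofNat 8,
  .ofNat 0, .negSucc 3, .ofNat 0, .ofNat 0, .ofNat 0, .ofNat 7, .negSucc 3, .ofNat 8, .ofNat 0, .ofNat 3,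
  .ofNat 1, .ofNat 5, .ofNat 0, .ofNat 3, .negSucc 6, .ofNat 0, .ofNat 0, .negSucc 5, .negSucc 1, .ofNat 0,
  .negSucc 0, .ofNat 1, .ofNat 0, .ofNat 4, .ofNat 4, .ofNat 2, .ofNat 0, .ofNat 8, .negSucc 0, .ofNat 3,
  .ofNat 2, .ofNat 3, .negSucc 2, .ofNat 0, .ofNat 0, .ofNat 8, .negSucc 7, .ofNat 2, .ofNat 0, .ofNat 0,
  .ofNat 4, .ofNat 0, .negSucc 2, .ofNat 1, .ofNat 0, .ofNat 0, .ofNat 0, .ofNat 0, .ofNat 0, .negSucc 1,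
  .ofNat 3, .negSucc 3, .ofNat 0, .ofNat 2, .ofNat 0, .ofNat 0, .ofNat 0, .ofNat 0, .ofNat 0, .ofNat 0,
  .negSucc 3, .ofNat 0, .ofNat 6, .ofNat 2, .ofNat 6, .negSucc 3, .ofNat 6, .ofNat 0, .ofNat 0, .negSucc 5,
  .ofNat 0]

/-- the values at 16G -/
def col87 : List ℤ :=
  [.ofNat 1, .ofNat 1, .ofNat 1, .ofNat 2, .negSucc 1, .ofNat 1, .ofNat 1, .ofNat 2, .negSucc 2, .ofNat 2,
  .ofNat 3, .ofNat 2, .ofNat 0, .negSucc 1, .ofNat 2, .negSucc 0, .ofNat 0, .negSucc 0, .negSucc 2, .ofNat 0,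
  .negSucc 1, .ofNat 0, .negSucc 2, .ofNat 1, .negSucc 1, .ofNat 0, .ofNat 1, .ofNat 2, .ofNat 1, .ofNat 1,
  .negSucc 1, .negSucc 0, .negSucc 0, .ofNat 0, .ofNat 0, .ofNat 2, .negSucc 0, .ofNat 0, .ofNat 1, .ofNat 1,
  .ofNat 1, .ofNat 0, .ofNat 0, .negSucc 0, .ofNat 2, .ofNat 2, .negSucc 1, .ofNat 0, .ofNat 0, .ofNat 0,
  .ofNat 0, .ofNat 1, .ofNat 0, .ofNat 0, .negSucc 2, .ofNat 1, .ofNat 0, .ofNat 1, .ofNat 0, .ofNat 0,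
  .ofNat 0, .negSucc 0, .ofNat 0, .ofNat 2, .ofNat 0, .ofNat 3, .ofNat 1, .negSucc 1, .negSucc 1, .ofNat 1,
  .ofNat 0, .ofNat 0, .negSucc 1, .negSucc 1, .negSucc 0, .ofNat 0, .negSucc 1, .ofNat 1, .negSucc 1,
  .ofNat 0, .ofNat 0, .ofNat 0, .ofNat 0, .ofNat 0, .negSucc 0, .ofNat 0, .negSucc 0, .ofNat 0, .ofNat 0,
  .ofNat 0, .ofNat 0, .ofNat 0, .negSucc 2, .negSucc 0, .ofNat 1, .ofNat 1, .ofNat 0, .negSucc 0, .ofNat 0,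
  .ofNat 0, .ofNat 0, .ofNat 2, .ofNat 0, .ofNat 0, .ofNat 0, .ofNat 0, .ofNat 0, .ofNat 0, .ofNat 0,
  .ofNat 1, .ofNat 0, .ofNat 0, .ofNat 0, .negSucc 0, .ofNat 1, .negSucc 0, .ofNat 0, .ofNat 1, .negSucc 0,
  .ofNat 0, .ofNat 0, .ofNat 2, .ofNat 2, .ofNat 0, .negSucc 0, .ofNat 1, .ofNat 0, .ofNat 0, .ofNat 0,
  .ofNat 2, .ofNat 0, .ofNat 0, .negSucc 2, .ofNat 1, .ofNat 2, .negSucc 0, .ofNat 1, .ofNat 0, .ofNat 0,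
  .ofNat 0, .ofNat 0, .negSucc 1, .ofNat 0, .ofNat 0, .ofNat 0, .ofNat 0, .negSucc 0, .negSucc 0, .ofNat 0,
  .ofNat 0, .ofNat 0, .ofNat 0, .ofNat 0, .ofNat 2, .negSucc 0, .ofNat 0, .ofNat 0, .ofNat 2, .ofNat 0,
  .ofNat 0, .ofNat 0, .ofNat 0, .ofNat 0, .ofNat 0, .ofNat 0, .ofNat 0, .ofNat 2, .negSucc 1, .negSucc 1,
  .ofNat 4, .negSucc 1, .ofNat 0, .ofNat 0, .negSucc 1, .ofNat 0]

/-- the values at 16H -/
def col88 : List ℤ :=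
  [.ofNat 1, .ofNat 1, .ofNat 1, .negSucc 1, .ofNat 2, .negSucc 2, .ofNat 1, .ofNat 2, .ofNat 1, .negSucc 1,
  .negSucc 0, .ofNat 2, .ofNat 0, .negSucc 1, .negSucc 1, .negSucc 0, .ofNat 0, .negSucc 0, .ofNat 1,
  .ofNat 0, .ofNat 2, .ofNat 0, .ofNat 1, .ofNat 1, .negSucc 1, .ofNat 0, .ofNat 1, .ofNat 2, .negSucc 2,
  .ofNat 1, .negSucc 1, .negSucc 0, .negSucc 0, .ofNat 0, .ofNat 0, .ofNat 2, .negSucc 0, .ofNat 0, .ofNat 1,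
  .ofNat 1, .ofNat 1, .ofNat 0, .ofNat 0, .negSucc 0, .negSucc 1, .negSucc 1, .negSucc 1, .ofNat 0, .ofNat 0,
  .ofNat 0, .ofNat 0, .ofNat 1, .ofNat 0, .ofNat 0, .ofNat 1, .ofNat 1, .ofNat 0, .negSucc 2, .ofNat 0,
  .ofNat 0, .ofNat 0, .ofNat 3, .ofNat 0, .ofNat 2, .ofNat 0, .negSucc 0, .ofNat 1, .ofNat 2, .ofNat 2,
  .ofNat 1, .ofNat 0, .ofNat 0, .negSucc 1, .negSucc 1, .negSucc 0, .ofNat 0, .negSucc 1, .ofNat 1,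
  .negSucc 1, .ofNat 0, .ofNat 0, .ofNat 0, .ofNat 0, .ofNat 0, .ofNat 3, .ofNat 0, .negSucc 0, .ofNat 0,
  .ofNat 0, .ofNat 0, .ofNat 0, .ofNat 0, .ofNat 1, .ofNat 3, .ofNat 1, .ofNat 1, .ofNat 0, .negSucc 0,
  .ofNat 0, .ofNat 0, .ofNat 0, .negSucc 1, .ofNat 0, .ofNat 0, .ofNat 0, .ofNat 0, .ofNat 0, .ofNat 0,
  .ofNat 0, .ofNat 1, .ofNat 0, .ofNat 0, .ofNat 0, .negSucc 0, .ofNat 1, .negSucc 0, .ofNat 0, .negSucc 2,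
  .negSucc 0, .ofNat 0, .ofNat 0, .ofNat 2, .negSucc 1, .ofNat 0, .negSucc 0, .ofNat 1, .ofNat 0, .ofNat 0,
  .ofNat 0, .negSucc 1, .ofNat 0, .ofNat 0, .ofNat 1, .ofNat 1, .ofNat 2, .negSucc 0, .ofNat 1, .ofNat 0,
  .ofNat 0, .ofNat 0, .ofNat 0, .ofNat 2, .ofNat 0, .ofNat 0, .ofNat 0, .ofNat 0, .negSucc 0, .ofNat 3,
  .ofNat 0, .ofNat 0, .ofNat 0, .ofNat 0, .ofNat 0, .ofNat 2, .negSucc 0, .ofNat 0, .ofNat 0, .negSucc 1,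
  .ofNat 0, .ofNat 0, .ofNat 0, .ofNat 0, .ofNat 0, .ofNat 0, .ofNat 0, .ofNat 0, .ofNat 2, .negSucc 1,
  .negSucc 1, .negSucc 3, .negSucc 1, .ofNat 0, .ofNat 0, .negSucc 1, .ofNat 0]

/-- the values at 17A -/
def col89 : List ℤ :=
  [.ofNat 1, .ofNat 2, .ofNat 1, .ofNat 0, .ofNat 1, .ofNat 1, .ofNat 0, .negSucc 0, .ofNat 0, .ofNat 0,
  .ofNat 0, .ofNat 0, .negSucc 0, .negSucc 0, .ofNat 0, .ofNat 0, .ofNat 0, .ofNat 0, .ofNat 0, .negSucc 1,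
  .ofNat 0, .ofNat 0, .ofNat 0, .negSucc 0, .ofNat 1, .ofNat 1, .ofNat 0, .ofNat 0, .ofNat 0, .ofNat 0,
  .ofNat 0, .ofNat 0, .ofNat 0, .negSucc 0, .ofNat 0, .ofNat 0, .ofNat 2, .ofNat 0, .ofNat 2, .ofNat 0,
  .ofNat 0, .negSucc 0, .ofNat 0, .ofNat 0, .ofNat 0, .ofNat 0, .ofNat 0, .ofNat 1, .ofNat 0, .ofNat 0,
  .ofNat 0, .ofNat 0, .ofNat 0, .ofNat 0, .ofNat 0, .ofNat 1, .ofNat 0, .ofNat 0, .ofNat 0, .ofNat 0,
  .ofNat 1, .ofNat 0, .ofNat 0, .ofNat 0, .ofNat 0, .ofNat 0, .ofNat 0, .ofNat 0, .ofNat 0, .ofNat 0,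
  .ofNat 0, .ofNat 0, .negSucc 0, .ofNat 0, .ofNat 0, .ofNat 0, .ofNat 0, .ofNat 0, .ofNat 0, .ofNat 0,
  .ofNat 0, .ofNat 0, .ofNat 0, .ofNat 0, .ofNat 1, .ofNat 0, .ofNat 0, .ofNat 0, .ofNat 0, .ofNat 0,
  .ofNat 0, .ofNat 0, .ofNat 0, .ofNat 0, .ofNat 0, .ofNat 0, .ofNat 0, .ofNat 0, .ofNat 0, .ofNat 0,
  .ofNat 0, .ofNat 0, .ofNat 0, .ofNat 0, .negSucc 1, .ofNat 0, .negSucc 1, .ofNat 0, .ofNat 0, .ofNat 0,
  .ofNat 0, .ofNat 0, .ofNat 0, .ofNat 0, .ofNat 0, .ofNat 0, .ofNat 0, .ofNat 0, .ofNat 0, .ofNat 0,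
  .ofNat 0, .ofNat 0, .ofNat 0, .ofNat 0, .ofNat 0, .negSucc 0, .ofNat 0, .ofNat 0, .ofNat 0, .ofNat 0,
  .ofNat 0, .ofNat 0, .ofNat 0, .ofNat 0, .ofNat 0, .ofNat 0, .negSucc 0, .ofNat 1, .ofNat 0, .ofNat 0,
  .ofNat 1, .ofNat 0, .ofNat 0, .ofNat 0, .ofNat 0, .ofNat 0, .ofNat 0, .ofNat 0, .ofNat 0, .ofNat 0,
  .ofNat 1, .ofNat 1, .ofNat 2, .ofNat 0, .ofNat 0, .ofNat 0, .ofNat 0, .ofNat 1, .ofNat 0, .negSucc 0,
  .negSucc 0, .ofNat 0, .negSucc 1, .ofNat 0, .ofNat 0, .ofNat 0, .ofNat 2, .ofNat 0, .ofNat 2, .ofNat 0,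
  .ofNat 0, .negSucc 1, .negSucc 1, .ofNat 2, .ofNat 0]

/-- the values at 18A -/
def col90 : List ℤ :=
  [.ofNat 1, .ofNat 2, .ofNat 3, .ofNat 2, .ofNat 1, .negSucc 0, .ofNat 0, .ofNat 1, .ofNat 2, .negSucc 2,
  .negSucc 2, .negSucc 1, .ofNat 3, .ofNat 1, .ofNat 5, .negSucc 3, .negSucc 0, .negSucc 0, .ofNat 2,
  .ofNat 4, .negSucc 1, .negSucc 2, .ofNat 0, .ofNat 0, .ofNat 0, .ofNat 0, .ofNat 0, .ofNat 0, .ofNat 0,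
  .ofNat 0, .ofNat 4, .ofNat 0, .ofNat 0, .negSucc 2, .ofNat 2, .negSucc 2, .ofNat 0, .negSucc 5, .ofNat 2,
  .ofNat 3, .negSucc 2, .ofNat 3, .ofNat 3, .ofNat 2, .ofNat 6, .ofNat 3, .ofNat 0, .ofNat 0, .ofNat 0,
  .negSucc 5, .ofNat 0, .ofNat 0, .negSucc 2, .ofNat 0, .ofNat 0, .negSucc 2, .negSucc 2, .ofNat 0,
  .negSucc 3, .ofNat 3, .ofNat 0, .ofNat 0, .negSucc 0, .ofNat 0, .negSucc 1, .ofNat 0, .ofNat 0, .ofNat 7,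
  .negSucc 0, .ofNat 0, .negSucc 5, .ofNat 8, .ofNat 0, .ofNat 0, .ofNat 0, .negSucc 2, .ofNat 1, .ofNat 3,
  .ofNat 0, .ofNat 2, .ofNat 2, .ofNat 0, .ofNat 0, .ofNat 0, .ofNat 0, .negSucc 2, .negSucc 5, .ofNat 0,
  .negSucc 2, .ofNat 2, .negSucc 8, .ofNat 6, .ofNat 0, .ofNat 0, .ofNat 0, .negSucc 2, .ofNat 0, .ofNat 3,
  .ofNat 0, .ofNat 0, .negSucc 1, .ofNat 0, .ofNat 3, .ofNat 6, .ofNat 0, .negSucc 2, .ofNat 0, .negSucc 2,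
  .ofNat 5, .ofNat 0, .ofNat 0, .ofNat 0, .ofNat 0, .ofNat 0, .negSucc 0, .negSucc 2, .ofNat 5, .ofNat 0,
  .ofNat 0, .negSucc 2, .ofNat 3, .ofNat 0, .ofNat 0, .negSucc 2, .ofNat 3, .ofNat 0, .negSucc 2, .negSucc 4,
  .ofNat 3, .ofNat 0, .ofNat 0, .ofNat 0, .ofNat 0, .ofNat 0, .ofNat 0, .ofNat 0, .ofNat 0, .negSucc 3,
  .negSucc 2, .ofNat 0, .ofNat 0, .ofNat 0, .negSucc 2, .ofNat 0, .ofNat 0, .ofNat 0, .ofNat 0, .ofNat 0,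
  .ofNat 3, .ofNat 0, .ofNat 4, .negSucc 3, .ofNat 0, .ofNat 0, .ofNat 0, .negSucc 2, .ofNat 0, .ofNat 0,
  .ofNat 3, .ofNat 4, .negSucc 3, .negSucc 1, .ofNat 0, .ofNat 4, .negSucc 7, .ofNat 2, .ofNat 10, .ofNat 2,
  .ofNat 0, .ofNat 0, .negSucc 7, .ofNat 2, .ofNat 0, .ofNat 0, .ofNat 8]

/-- the values at 18C -/
def col91 : List ℤ :=
  [.ofNat 1, .ofNat 2, .ofNat 1, .negSucc 1, .ofNat 3, .negSucc 0, .ofNat 2, .negSucc 0, .ofNat 0,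
  .negSucc 0, .ofNat 1, .ofNat 2, .ofNat 1, .negSucc 2, .ofNat 1, .negSucc 1, .ofNat 3, .negSucc 0,
  .negSucc 1, .negSucc 1, .ofNat 2, .ofNat 1, .ofNat 0, .ofNat 0, .ofNat 0, .ofNat 0, .ofNat 0, .ofNat 0,
  .ofNat 0, .ofNat 0, .ofNat 2, .negSucc 1, .ofNat 0, .negSucc 0, .negSucc 1, .ofNat 3, .ofNat 0, .ofNat 0,
  .negSucc 3, .negSucc 0, .negSucc 0, .negSucc 0, .ofNat 3, .ofNat 0, .ofNat 0, .negSucc 0, .ofNat 0,
  .ofNat 0, .ofNat 0, .ofNat 2, .ofNat 0, .ofNat 0, .negSucc 0, .ofNat 0, .ofNat 0, .negSucc 2, .negSucc 0,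
  .ofNat 0, .ofNat 2, .negSucc 0, .ofNat 0, .ofNat 0, .ofNat 5, .ofNat 0, .negSucc 1, .ofNat 0, .ofNat 0,
  .negSucc 2, .negSucc 2, .ofNat 0, .negSucc 1, .ofNat 2, .ofNat 0, .ofNat 0, .ofNat 0, .ofNat 1, .ofNat 1,
  .ofNat 1, .ofNat 0, .ofNat 0, .ofNat 0, .ofNat 0, .ofNat 0, .ofNat 0, .ofNat 0, .ofNat 1, .ofNat 0,
  .ofNat 0, .ofNat 3, .ofNat 0, .ofNat 1, .ofNat 4, .ofNat 0, .ofNat 0, .ofNat 0, .negSucc 0, .ofNat 0,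
  .ofNat 3, .ofNat 0, .negSucc 1, .negSucc 3, .ofNat 0, .negSucc 0, .ofNat 0, .ofNat 0, .ofNat 1, .ofNat 0,
  .negSucc 2, .negSucc 0, .ofNat 2, .ofNat 0, .ofNat 0, .ofNat 0, .ofNat 0, .ofNat 1, .ofNat 1, .ofNat 1,
  .ofNat 0, .ofNat 0, .negSucc 0, .negSucc 0, .ofNat 0, .ofNat 0, .ofNat 3, .ofNat 1, .ofNat 0, .ofNat 1,
  .ofNat 5, .negSucc 2, .ofNat 0, .ofNat 4, .ofNat 0, .ofNat 0, .ofNat 0, .ofNat 0, .ofNat 0, .ofNat 0,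
  .negSucc 1, .negSucc 0, .ofNat 0, .ofNat 0, .ofNat 0, .negSucc 0, .ofNat 0, .ofNat 0, .ofNat 0, .ofNat 0,
  .ofNat 0, .negSucc 2, .ofNat 0, .ofNat 0, .ofNat 0, .ofNat 0, .ofNat 0, .ofNat 0, .ofNat 1, .ofNat 0,
  .ofNat 0, .ofNat 1, .ofNat 0, .ofNat 0, .ofNat 2, .ofNat 0, .ofNat 2, .negSucc 3, .negSucc 3, .negSucc 1,
  .ofNat 6, .ofNat 0, .ofNat 0, .ofNat 4, .ofNat 2, .ofNat 0, .ofNat 0, .ofNat 4]

/-- the values at 18D -/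
def col92 : List ℤ :=
  [.ofNat 1, .negSucc 1, .ofNat 3, .negSucc 1, .ofNat 1, .negSucc 0, .ofNat 0, .ofNat 1, .negSucc 1,
  .ofNat 1, .negSucc 2, .ofNat 2, .ofNat 3, .ofNat 1, .ofNat 1, .ofNat 4, .negSucc 0, .ofNat 3, .ofNat 2,
  .negSucc 3, .negSucc 1, .negSucc 2, .ofNat 0, .ofNat 0, .ofNat 0, .ofNat 0, .ofNat 0, .ofNat 0, .ofNat 0,
  .ofNat 0, .negSucc 3, .ofNat 0, .ofNat 0, .negSucc 2, .negSucc 1, .ofNat 1, .ofNat 0, .ofNat 2, .negSucc 1,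
  .ofNat 3, .negSucc 2, .ofNat 3, .negSucc 0, .negSucc 1, .negSucc 1, .ofNat 3, .ofNat 0, .ofNat 0, .ofNat 0,
  .ofNat 2, .ofNat 0, .ofNat 0, .negSucc 2, .ofNat 0, .ofNat 0, .ofNat 1, .negSucc 2, .ofNat 0, .ofNat 4,
  .ofNat 3, .ofNat 0, .ofNat 0, .ofNat 3, .ofNat 0, .ofNat 2, .ofNat 0, .ofNat 0, .negSucc 0, .negSucc 0,
  .ofNat 0, .ofNat 2, .ofNat 0, .ofNat 0, .ofNat 0, .ofNat 0, .negSucc 2, .ofNat 1, .ofNat 3, .ofNat 0,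
  .negSucc 1, .negSucc 1, .ofNat 0, .ofNat 0, .ofNat 0, .ofNat 0, .negSucc 2, .ofNat 2, .ofNat 0, .ofNat 1,
  .negSucc 1, .ofNat 3, .negSucc 1, .ofNat 0, .ofNat 0, .ofNat 0, .negSucc 2, .ofNat 0, .negSucc 0, .ofNat 0,
  .ofNat 0, .ofNat 2, .ofNat 0, .ofNat 3, .negSucc 1, .ofNat 0, .negSucc 2, .ofNat 0, .ofNat 1, .ofNat 1,
  .ofNat 0, .ofNat 0, .ofNat 0, .ofNat 0, .ofNat 0, .negSucc 0, .ofNat 1, .ofNat 1, .ofNat 0, .ofNat 0,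
  .negSucc 2, .ofNat 3, .ofNat 0, .ofNat 0, .ofNat 1, .ofNat 3, .ofNat 0, .ofNat 1, .negSucc 0, .negSucc 0,
  .ofNat 0, .ofNat 0, .ofNat 0, .ofNat 0, .ofNat 0, .ofNat 0, .ofNat 0, .ofNat 0, .ofNat 0, .ofNat 1,
  .ofNat 0, .ofNat 0, .ofNat 0, .negSucc 2, .ofNat 0, .ofNat 0, .ofNat 0, .ofNat 0, .ofNat 0, .negSucc 0,
  .ofNat 0, .ofNat 0, .ofNat 0, .ofNat 0, .ofNat 0, .ofNat 0, .negSucc 2, .ofNat 0, .ofNat 0, .ofNat 3,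
  .ofNat 0, .ofNat 0, .negSucc 1, .ofNat 0, .ofNat 0, .ofNat 0, .ofNat 2, .ofNat 2, .ofNat 2, .ofNat 0,
  .ofNat 0, .ofNat 0, .ofNat 2, .ofNat 0, .ofNat 0, .ofNat 0]

/-- the values at 18E -/
def col93 : List ℤ :=
  [.ofNat 1, .ofNat 1, .ofNat 0, .ofNat 1, .negSucc 1, .ofNat 2, .ofNat 0, .ofNat 1, .negSucc 1, .ofNat 1,
  .ofNat 0, .ofNat 2, .ofNat 0, .negSucc 1, .ofNat 1, .ofNat 1, .negSucc 0, .ofNat 0, .ofNat 2, .negSucc 0,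
  .ofNat 1, .ofNat 0, .ofNat 0, .ofNat 0, .negSucc 2, .ofNat 0, .ofNat 0, .ofNat 0, .ofNat 0, .ofNat 0,
  .negSucc 0, .ofNat 0, .ofNat 0, .ofNat 0, .ofNat 1, .ofNat 1, .ofNat 0, .negSucc 0, .negSucc 1, .ofNat 0,
  .ofNat 0, .ofNat 0, .negSucc 0, .ofNat 4, .negSucc 1, .ofNat 0, .ofNat 0, .ofNat 3, .ofNat 0, .negSucc 0,
  .ofNat 0, .ofNat 0, .ofNat 0, .ofNat 0, .ofNat 0, .negSucc 1, .ofNat 0, .ofNat 0, .negSucc 1, .ofNat 0,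
  .ofNat 0, .ofNat 0, .ofNat 0, .ofNat 0, .negSucc 0, .ofNat 0, .ofNat 0, .ofNat 2, .ofNat 2, .ofNat 0,
  .negSucc 0, .ofNat 0, .ofNat 0, .ofNat 0, .ofNat 3, .ofNat 0, .negSucc 1, .ofNat 0, .ofNat 0, .negSucc 1,
  .negSucc 1, .ofNat 0, .ofNat 0, .ofNat 0, .ofNat 0, .ofNat 0, .ofNat 2, .ofNat 0, .ofNat 1, .ofNat 1,
  .ofNat 0, .ofNat 1, .ofNat 0, .ofNat 0, .ofNat 0, .ofNat 0, .ofNat 0, .ofNat 2, .ofNat 0, .ofNat 0,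
  .ofNat 2, .ofNat 0, .ofNat 0, .ofNat 1, .ofNat 0, .ofNat 0, .ofNat 0, .ofNat 1, .negSucc 1, .ofNat 0,
  .ofNat 0, .ofNat 0, .ofNat 0, .ofNat 0, .negSucc 0, .ofNat 1, .ofNat 1, .ofNat 0, .ofNat 0, .ofNat 0,
  .ofNat 0, .ofNat 0, .ofNat 0, .negSucc 1, .ofNat 0, .ofNat 0, .ofNat 4, .negSucc 0, .negSucc 0, .ofNat 0,
  .ofNat 0, .negSucc 2, .ofNat 0, .ofNat 0, .ofNat 0, .ofNat 0, .ofNat 0, .ofNat 0, .negSucc 1, .ofNat 0,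
  .ofNat 0, .ofNat 0, .ofNat 0, .ofNat 0, .ofNat 0, .ofNat 0, .ofNat 0, .ofNat 0, .ofNat 2, .ofNat 0,
  .ofNat 0, .ofNat 0, .ofNat 0, .ofNat 0, .ofNat 0, .ofNat 0, .ofNat 0, .ofNat 0, .ofNat 0, .ofNat 0,
  .ofNat 0, .negSucc 1, .ofNat 0, .ofNat 3, .ofNat 0, .negSucc 0, .negSucc 3, .ofNat 2, .ofNat 0, .ofNat 0,
  .ofNat 0, .negSucc 3, .ofNat 0, .ofNat 0, .ofNat 0]

/-- the values at 18F -/
def col94 : List ℤ :=
  [.ofNat 1, .negSucc 1, .ofNat 1, .ofNat 2, .ofNat 3, .negSucc 0, .negSucc 1, .negSucc 0, .ofNat 0,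
  .ofNat 3, .ofNat 1, .negSucc 1, .ofNat 1, .negSucc 2, .negSucc 0, .ofNat 2, .negSucc 0, .negSucc 0,
  .ofNat 0, .ofNat 2, .ofNat 2, .ofNat 1, .ofNat 0, .ofNat 0, .ofNat 0, .ofNat 0, .ofNat 0, .ofNat 0,
  .ofNat 0, .ofNat 0, .ofNat 0, .negSucc 1, .ofNat 0, .negSucc 0, .ofNat 2, .negSucc 0, .ofNat 0, .negSucc 1,
  .ofNat 0, .ofNat 1, .negSucc 0, .negSucc 0, .negSucc 0, .ofNat 0, .ofNat 2, .negSucc 0, .ofNat 0, .ofNat 0,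
  .ofNat 0, .ofNat 0, .ofNat 0, .ofNat 0, .negSucc 0, .ofNat 0, .ofNat 0, .negSucc 0, .negSucc 0, .ofNat 0,
  .ofNat 2, .negSucc 0, .ofNat 0, .ofNat 0, .ofNat 1, .ofNat 0, .ofNat 2, .ofNat 0, .ofNat 0, .ofNat 1,
  .negSucc 0, .ofNat 0, .ofNat 0, .negSucc 1, .ofNat 0, .ofNat 0, .ofNat 0, .negSucc 0, .ofNat 1, .ofNat 1,
  .ofNat 0, .ofNat 0, .negSucc 1, .ofNat 0, .ofNat 0, .ofNat 0, .ofNat 0, .ofNat 1, .ofNat 2, .ofNat 0,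
  .ofNat 1, .ofNat 0, .negSucc 0, .ofNat 2, .ofNat 0, .ofNat 0, .ofNat 0, .ofNat 1, .ofNat 0, .negSucc 0,
  .ofNat 0, .ofNat 2, .ofNat 0, .ofNat 0, .negSucc 0, .negSucc 1, .ofNat 0, .negSucc 0, .negSucc 3,
  .negSucc 0, .ofNat 1, .negSucc 1, .ofNat 0, .ofNat 0, .ofNat 0, .ofNat 0, .ofNat 1, .ofNat 1, .negSucc 0,
  .ofNat 0, .ofNat 0, .ofNat 1, .negSucc 0, .ofNat 0, .ofNat 0, .ofNat 1, .negSucc 0, .ofNat 0, .ofNat 3,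
  .negSucc 0, .ofNat 3, .ofNat 0, .ofNat 0, .ofNat 0, .ofNat 0, .ofNat 0, .ofNat 0, .ofNat 0, .ofNat 0,
  .ofNat 0, .negSucc 0, .ofNat 0, .ofNat 0, .ofNat 0, .negSucc 0, .ofNat 0, .ofNat 0, .ofNat 0, .ofNat 0,
  .ofNat 0, .ofNat 1, .ofNat 0, .negSucc 1, .negSucc 1, .ofNat 0, .ofNat 0, .ofNat 0, .ofNat 1, .ofNat 0,
  .ofNat 0, .ofNat 1, .ofNat 2, .ofNat 2, .ofNat 0, .ofNat 0, .ofNat 0, .ofNat 0, .negSucc 1, .ofNat 2,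
  .negSucc 1, .ofNat 0, .ofNat 0, .ofNat 0, .ofNat 2, .ofNat 0, .ofNat 0, .ofNat 0]

/-- the values at 19A -/
def col95 : List ℤ :=
  [.ofNat 1, .ofNat 1, .ofNat 1, .ofNat 1, .negSucc 0, .ofNat 0, .ofNat 0, .ofNat 0, .negSucc 0, .ofNat 0,
  .ofNat 0, .ofNat 0, .ofNat 0, .ofNat 0, .ofNat 0, .ofNat 0, .ofNat 0, .negSucc 0, .ofNat 0, .ofNat 1,
  .ofNat 0, .ofNat 0, .ofNat 0, .ofNat 0, .ofNat 0, .negSucc 0, .ofNat 0, .ofNat 0, .ofNat 0, .ofNat 1,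
  .ofNat 0, .ofNat 0, .ofNat 0, .ofNat 0, .ofNat 0, .ofNat 0, .ofNat 0, .ofNat 1, .ofNat 0, .ofNat 0,
  .ofNat 0, .ofNat 0, .ofNat 0, .ofNat 0, .ofNat 0, .ofNat 1, .ofNat 0, .ofNat 0, .ofNat 0, .ofNat 0,
  .ofNat 0, .ofNat 0, .ofNat 0, .ofNat 0, .ofNat 0, .ofNat 0, .ofNat 0, .ofNat 0, .ofNat 0, .negSucc 0,
  .ofNat 0, .ofNat 0, .ofNat 0, .ofNat 0, .ofNat 0, .ofNat 0, .ofNat 0, .ofNat 0, .ofNat 0, .ofNat 0,
  .ofNat 0, .ofNat 0, .ofNat 0, .ofNat 0, .ofNat 0, .ofNat 0, .ofNat 0, .ofNat 0, .ofNat 0, .ofNat 0,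
  .ofNat 0, .ofNat 0, .ofNat 0, .negSucc 0, .ofNat 0, .ofNat 0, .ofNat 0, .ofNat 0, .ofNat 0, .ofNat 0,
  .ofNat 1, .ofNat 0, .ofNat 0, .ofNat 0, .ofNat 0, .ofNat 0, .ofNat 0, .ofNat 0, .negSucc 0, .ofNat 0,
  .ofNat 0, .negSucc 0, .ofNat 0, .ofNat 0, .ofNat 0, .ofNat 0, .ofNat 0, .ofNat 0, .ofNat 0, .ofNat 0,
  .ofNat 0, .ofNat 0, .ofNat 0, .ofNat 1, .ofNat 0, .ofNat 0, .ofNat 0, .ofNat 0, .ofNat 0, .ofNat 0,
  .ofNat 0, .ofNat 0, .ofNat 0, .ofNat 0, .ofNat 0, .ofNat 0, .ofNat 0, .ofNat 0, .ofNat 0, .negSucc 0,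
  .ofNat 0, .ofNat 0, .ofNat 0, .ofNat 0, .ofNat 0, .ofNat 0, .ofNat 0, .ofNat 0, .ofNat 0, .ofNat 0,
  .ofNat 0, .ofNat 0, .ofNat 1, .ofNat 0, .ofNat 0, .ofNat 0, .ofNat 1, .ofNat 0, .ofNat 0, .ofNat 0,
  .negSucc 0, .negSucc 0, .ofNat 0, .ofNat 0, .ofNat 0, .ofNat 0, .ofNat 0, .ofNat 0, .ofNat 0, .negSucc 0,
  .negSucc 0, .negSucc 0, .ofNat 1, .negSucc 0, .ofNat 0, .ofNat 0, .ofNat 0, .ofNat 0, .ofNat 2, .negSucc 1,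
  .ofNat 0, .ofNat 2, .ofNat 0, .ofNat 2, .ofNat 2]

/-- the values at 20A -/
def col96 : List ℤ :=
  [.ofNat 1, .negSucc 6, .ofNat 11, .negSucc 12, .ofNat 15, .ofNat 22, .negSucc 26, .ofNat 23, .negSucc 29,
  .negSucc 20, .ofNat 16, .negSucc 4, .ofNat 14, .ofNat 35, .negSucc 0, .negSucc 20, .negSucc 5, .negSucc 34,
  .negSucc 9, .negSucc 9, .ofNat 31, .ofNat 22, .negSucc 19, .negSucc 8, .ofNat 5, .negSucc 7, .ofNat 10,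
  .ofNat 0, .ofNat 5, .negSucc 14, .ofNat 0, .ofNat 10, .ofNat 12, .negSucc 14, .ofNat 2, .ofNat 10,
  .ofNat 7, .ofNat 15, .ofNat 0, .ofNat 13, .ofNat 17, .negSucc 9, .ofNat 4, .ofNat 20, .negSucc 19,
  .negSucc 29, .ofNat 0, .negSucc 9, .negSucc 0, .ofNat 4, .ofNat 7, .ofNat 0, .ofNat 23, .negSucc 5,
  .negSucc 34, .ofNat 0, .ofNat 10, .ofNat 0, .ofNat 26, .ofNat 37, .ofNat 2, .negSucc 14, .negSucc 9,
  .ofNat 1, .ofNat 0, .negSucc 8, .ofNat 10, .ofNat 35, .negSucc 4, .negSucc 14, .ofNat 0, .ofNat 0,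
  .ofNat 5, .ofNat 7, .ofNat 10, .negSucc 1, .ofNat 0, .ofNat 0, .negSucc 19, .ofNat 35, .negSucc 4,
  .ofNat 0, .negSucc 45, .negSucc 4, .ofNat 20, .negSucc 9, .ofNat 0, .negSucc 25, .ofNat 20, .ofNat 0,
  .negSucc 9, .ofNat 0, .negSucc 14, .negSucc 20, .ofNat 27, .ofNat 0, .negSucc 4, .ofNat 0, .negSucc 41,
  .negSucc 11, .ofNat 8, .negSucc 1, .ofNat 15, .negSucc 9, .ofNat 0, .ofNat 0, .ofNat 0, .ofNat 0,
  .ofNat 10, .ofNat 0, .negSucc 12, .ofNat 22, .ofNat 0, .ofNat 10, .ofNat 0, .ofNat 0, .ofNat 0, .negSucc 4,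
  .ofNat 0, .ofNat 0, .ofNat 16, .negSucc 14, .negSucc 14, .ofNat 15, .ofNat 0, .ofNat 0, .ofNat 0, .ofNat 0,
  .ofNat 0, .ofNat 20, .ofNat 0, .ofNat 0, .ofNat 9, .negSucc 26, .negSucc 9, .negSucc 9, .ofNat 15,
  .ofNat 0, .ofNat 20, .negSucc 15, .ofNat 0, .ofNat 30, .ofNat 0, .ofNat 36, .negSucc 34, .negSucc 25,
  .ofNat 0, .negSucc 29, .ofNat 15, .ofNat 0, .ofNat 0, .ofNat 0, .ofNat 0, .ofNat 0, .negSucc 14, .ofNat 0,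
  .ofNat 17, .ofNat 0, .ofNat 10, .ofNat 0, .ofNat 0, .ofNat 0, .ofNat 10, .ofNat 0, .ofNat 0, .negSucc 9,
  .ofNat 0, .ofNat 0, .ofNat 0, .ofNat 12, .ofNat 0, .ofNat 0, .ofNat 0, .ofNat 0, .ofNat 0]

/-- the values at 20B -/
def col97 : List ℤ :=
  [.ofNat 1, .negSucc 1, .ofNat 1, .negSucc 2, .ofNat 0, .ofNat 2, .ofNat 3, .ofNat 3, .ofNat 0, .negSucc 0,
  .ofNat 1, .negSucc 4, .negSucc 5, .ofNat 0, .ofNat 4, .negSucc 0, .negSucc 0, .ofNat 0, .ofNat 10,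
  .ofNat 0, .ofNat 1, .negSucc 7, .ofNat 0, .ofNat 6, .ofNat 0, .ofNat 7, .ofNat 0, .ofNat 0, .ofNat 10,
  .ofNat 0, .ofNat 10, .ofNat 0, .negSucc 2, .ofNat 0, .negSucc 2, .ofNat 0, .negSucc 7, .ofNat 0, .ofNat 0,
  .negSucc 6, .ofNat 7, .ofNat 0, .ofNat 14, .ofNat 0, .ofNat 0, .ofNat 0, .negSucc 4, .ofNat 0, .ofNat 4,
  .ofNat 4, .negSucc 2, .ofNat 0, .negSucc 16, .negSucc 10, .ofNat 0, .ofNat 0, .ofNat 0, .negSucc 9,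
  .ofNat 6, .negSucc 7, .ofNat 7, .ofNat 0, .ofNat 0, .negSucc 8, .ofNat 0, .ofNat 6, .ofNat 0, .ofNat 0,
  .ofNat 0, .ofNat 0, .ofNat 0, .ofNat 0, .ofNat 0, .ofNat 7, .ofNat 0, .ofNat 8, .ofNat 0, .ofNat 0,
  .ofNat 0, .ofNat 0, .ofNat 0, .ofNat 5, .negSucc 15, .ofNat 0, .ofNat 0, .ofNat 0, .ofNat 0, .negSucc 5,
  .ofNat 0, .ofNat 0, .ofNat 0, .ofNat 0, .ofNat 0, .negSucc 5, .negSucc 7, .ofNat 0, .ofNat 0, .ofNat 0,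
  .negSucc 1, .ofNat 18, .ofNat 8, .negSucc 11, .ofNat 0, .ofNat 0, .ofNat 0, .ofNat 0, .ofNat 0, .ofNat 10,
  .ofNat 0, .ofNat 0, .negSucc 2, .ofNat 12, .ofNat 0, .ofNat 0, .ofNat 0, .ofNat 0, .ofNat 0, .ofNat 0,
  .ofNat 0, .negSucc 4, .negSucc 3, .ofNat 0, .ofNat 0, .ofNat 0, .ofNat 0, .ofNat 0, .ofNat 0, .ofNat 0,
  .ofNat 0, .ofNat 0, .ofNat 0, .ofNat 0, .negSucc 10, .ofNat 3, .ofNat 0, .ofNat 0, .ofNat 0, .ofNat 0,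
  .ofNat 0, .ofNat 9, .ofNat 0, .ofNat 0, .ofNat 0, .negSucc 3, .ofNat 0, .negSucc 5, .ofNat 0, .ofNat 0,
  .ofNat 0, .ofNat 15, .ofNat 0, .ofNat 0, .ofNat 10, .ofNat 5, .negSucc 9, .ofNat 0, .negSucc 7, .negSucc 4,
  .ofNat 0, .ofNat 0, .ofNat 0, .ofNat 0, .ofNat 0, .ofNat 0, .ofNat 0, .ofNat 0, .ofNat 0, .ofNat 0,
  .negSucc 9, .ofNat 2, .ofNat 0, .ofNat 0, .ofNat 0, .ofNat 0, .ofNat 0]

/-- the values at 20C -/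
def col98 : List ℤ :=
  [.ofNat 1, .ofNat 3, .ofNat 1, .negSucc 2, .ofNat 5, .ofNat 2, .ofNat 3, .negSucc 6, .ofNat 0, .negSucc 0,
  .ofNat 6, .negSucc 4, .ofNat 4, .negSucc 4, .negSucc 0, .negSucc 0, .ofNat 4, .ofNat 5, .ofNat 0,
  .negSucc 9, .ofNat 1, .ofNat 2, .negSucc 9, .ofNat 1, .ofNat 5, .ofNat 2, .ofNat 0, .ofNat 0, .ofNat 5,
  .ofNat 5, .ofNat 0, .ofNat 0, .negSucc 7, .ofNat 5, .negSucc 7, .ofNat 0, .negSucc 2, .negSucc 4, .ofNat 0,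
  .ofNat 3, .negSucc 2, .ofNat 10, .ofNat 4, .ofNat 0, .negSucc 9, .ofNat 0, .ofNat 0, .ofNat 10, .negSucc 0,
  .ofNat 4, .negSucc 2, .ofNat 0, .ofNat 3, .ofNat 4, .negSucc 4, .ofNat 0, .ofNat 0, .ofNat 0, .negSucc 3,
  .ofNat 7, .negSucc 7, .negSucc 4, .negSucc 9, .ofNat 1, .ofNat 0, .ofNat 1, .negSucc 9, .ofNat 5, .ofNat 5,
  .ofNat 5, .ofNat 0, .ofNat 0, .ofNat 5, .negSucc 2, .negSucc 9, .negSucc 1, .ofNat 0, .ofNat 0, .ofNat 0,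
  .ofNat 5, .ofNat 5, .ofNat 0, .negSucc 5, .ofNat 5, .negSucc 9, .ofNat 10, .ofNat 0, .ofNat 4, .ofNat 0,
  .ofNat 0, .ofNat 0, .ofNat 0, .negSucc 4, .negSucc 0, .negSucc 2, .ofNat 0, .negSucc 4, .ofNat 0,
  .negSucc 1, .ofNat 8, .ofNat 8, .negSucc 1, .ofNat 5, .ofNat 0, .ofNat 0, .ofNat 0, .ofNat 0, .ofNat 0,
  .ofNat 10, .ofNat 0, .negSucc 2, .negSucc 7, .ofNat 0, .ofNat 0, .ofNat 0, .ofNat 0, .ofNat 0, .ofNat 5,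
  .ofNat 0, .ofNat 0, .negSucc 3, .ofNat 5, .negSucc 4, .ofNat 5, .ofNat 0, .ofNat 0, .ofNat 0, .ofNat 0,
  .ofNat 0, .negSucc 9, .ofNat 0, .ofNat 0, .negSucc 0, .ofNat 3, .ofNat 0, .ofNat 0, .negSucc 4, .ofNat 0,
  .ofNat 0, .ofNat 4, .ofNat 0, .ofNat 0, .ofNat 0, .negSucc 3, .ofNat 5, .negSucc 5, .ofNat 0, .ofNat 0,
  .ofNat 5, .negSucc 9, .ofNat 0, .ofNat 0, .ofNat 0, .ofNat 0, .ofNat 5, .ofNat 0, .ofNat 7, .ofNat 0,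
  .ofNat 0, .ofNat 0, .ofNat 0, .ofNat 0, .ofNat 10, .ofNat 0, .ofNat 0, .negSucc 9, .ofNat 0, .ofNat 0,
  .ofNat 0, .negSucc 7, .ofNat 0, .ofNat 0, .ofNat 0, .ofNat 0, .ofNat 0]

/-- the values at 20D -/
def col99 : List ℤ :=
  [.ofNat 1, .ofNat 1, .ofNat 3, .ofNat 3, .negSucc 0, .negSucc 1, .negSucc 2, .negSucc 0, .ofNat 2,
  .ofNat 3, .ofNat 0, .negSucc 4, .ofNat 6, .ofNat 3, .ofNat 7, .negSucc 4, .ofNat 2, .negSucc 2, .ofNat 6,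
  .ofNat 6, .negSucc 0, .negSucc 9, .negSucc 3, .negSucc 0, .ofNat 5, .ofNat 0, .ofNat 2, .ofNat 0,
  .negSucc 2, .ofNat 1, .ofNat 0, .ofNat 2, .negSucc 3, .ofNat 1, .negSucc 5, .ofNat 2, .negSucc 0,
  .negSucc 0, .ofNat 0, .ofNat 5, .ofNat 1, .ofNat 6, .ofNat 4, .ofNat 4, .negSucc 3, .ofNat 2, .ofNat 0,
  .ofNat 6, .negSucc 0, .ofNat 4, .negSucc 0, .ofNat 0, .ofNat 7, .ofNat 2, .negSucc 2, .ofNat 0, .ofNat 2,
  .negSucc 7, .ofNat 2, .negSucc 10, .negSucc 5, .ofNat 1, .ofNat 6, .ofNat 1, .ofNat 0, .negSucc 8,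
  .negSucc 5, .ofNat 3, .negSucc 4, .ofNat 1, .ofNat 0, .ofNat 0, .ofNat 5, .negSucc 0, .negSucc 5,
  .ofNat 14, .ofNat 0, .ofNat 0, .negSucc 3, .ofNat 3, .negSucc 4, .ofNat 0, .ofNat 2, .negSucc 4, .ofNat 4,
  .ofNat 6, .ofNat 0, .negSucc 1, .ofNat 4, .ofNat 0, .negSucc 1, .ofNat 0, .ofNat 1, .ofNat 3, .ofNat 3,
  .ofNat 0, .negSucc 4, .ofNat 0, .ofNat 6, .ofNat 4, .ofNat 8, .ofNat 6, .negSucc 0, .negSucc 1, .ofNat 0,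
  .ofNat 0, .ofNat 0, .ofNat 0, .negSucc 5, .ofNat 0, .negSucc 4, .negSucc 1, .ofNat 0, .ofNat 2, .ofNat 0,
  .ofNat 0, .ofNat 0, .negSucc 4, .ofNat 0, .ofNat 0, .ofNat 0, .ofNat 1, .ofNat 1, .negSucc 0, .ofNat 0,
  .ofNat 0, .ofNat 0, .ofNat 0, .ofNat 0, .ofNat 4, .ofNat 0, .ofNat 0, .ofNat 9, .negSucc 2, .negSucc 1,
  .negSucc 1, .negSucc 0, .ofNat 0, .ofNat 4, .ofNat 0, .ofNat 0, .negSucc 1, .ofNat 0, .ofNat 4, .negSucc 2,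
  .ofNat 6, .ofNat 0, .ofNat 2, .negSucc 0, .negSucc 7, .ofNat 0, .ofNat 0, .ofNat 0, .ofNat 0, .ofNat 1,
  .ofNat 0, .negSucc 14, .ofNat 8, .ofNat 2, .ofNat 0, .ofNat 0, .ofNat 0, .negSucc 5, .ofNat 0, .ofNat 0,
  .ofNat 6, .ofNat 0, .ofNat 0, .ofNat 0, .ofNat 12, .ofNat 0, .ofNat 0, .ofNat 0, .ofNat 0, .ofNat 0]

/-- the values at 20E -/
def col100 : List ℤ :=
  [.ofNat 1, .negSucc 0, .ofNat 1, .ofNat 1, .ofNat 1, .negSucc 1, .ofNat 3, .ofNat 1, .negSucc 3,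
  .negSucc 0, .negSucc 1, .negSucc 0, .ofNat 0, .negSucc 0, .ofNat 7, .ofNat 3, .ofNat 0, .ofNat 1,
  .negSucc 3, .ofNat 2, .ofNat 1, .negSucc 1, .negSucc 1, .negSucc 2, .ofNat 5, .ofNat 2, .ofNat 4, .ofNat 0,
  .ofNat 1, .ofNat 1, .ofNat 0, .negSucc 3, .ofNat 0, .negSucc 2, .ofNat 4, .negSucc 3, .ofNat 1, .negSucc 0,
  .ofNat 0, .negSucc 0, .ofNat 1, .negSucc 1, .negSucc 3, .negSucc 3, .negSucc 1, .negSucc 3, .ofNat 0,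
  .negSucc 1, .negSucc 0, .ofNat 0, .negSucc 2, .ofNat 0, .ofNat 3, .ofNat 0, .negSucc 0, .ofNat 0, .ofNat 4,
  .ofNat 0, .ofNat 0, .ofNat 3, .negSucc 3, .ofNat 3, .ofNat 2, .ofNat 1, .ofNat 0, .negSucc 2, .ofNat 2,
  .ofNat 1, .ofNat 5, .ofNat 1, .ofNat 0, .ofNat 0, .ofNat 5, .ofNat 1, .ofNat 2, .ofNat 2, .ofNat 0,
  .ofNat 0, .negSucc 3, .ofNat 1, .ofNat 5, .ofNat 0, .negSucc 1, .ofNat 1, .negSucc 1, .negSucc 1, .ofNat 0,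
  .ofNat 0, .ofNat 4, .ofNat 0, .ofNat 4, .ofNat 0, .negSucc 0, .ofNat 3, .negSucc 2, .ofNat 0, .negSucc 4,
  .ofNat 0, .negSucc 5, .ofNat 0, .ofNat 0, .ofNat 2, .ofNat 1, .ofNat 4, .ofNat 0, .ofNat 0, .ofNat 0,
  .ofNat 0, .negSucc 1, .ofNat 0, .ofNat 1, .negSucc 3, .ofNat 0, .negSucc 3, .ofNat 0, .ofNat 0, .ofNat 0,
  .ofNat 5, .ofNat 0, .ofNat 0, .negSucc 3, .negSucc 2, .ofNat 3, .negSucc 2, .ofNat 0, .ofNat 0, .ofNat 0,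
  .ofNat 0, .ofNat 0, .negSucc 1, .ofNat 0, .ofNat 0, .ofNat 3, .ofNat 3, .negSucc 3, .negSucc 3, .ofNat 3,
  .ofNat 0, .negSucc 3, .ofNat 4, .ofNat 0, .negSucc 3, .ofNat 0, .ofNat 0, .ofNat 1, .negSucc 1, .ofNat 0,
  .ofNat 4, .negSucc 2, .ofNat 6, .ofNat 0, .ofNat 0, .ofNat 0, .ofNat 0, .negSucc 2, .ofNat 0, .negSucc 0,
  .ofNat 0, .ofNat 4, .ofNat 0, .ofNat 0, .ofNat 0, .negSucc 1, .ofNat 0, .ofNat 0, .ofNat 2, .ofNat 0,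
  .ofNat 0, .ofNat 0, .ofNat 0, .ofNat 0, .ofNat 0, .ofNat 0, .ofNat 0, .ofNat 0]

/-- the values at 20F -/
def col101 : List ℤ :=
  [.ofNat 1, .ofNat 1, .negSucc 0, .negSucc 0, .ofNat 3, .negSucc 1, .ofNat 1, .ofNat 3, .negSucc 1,
  .negSucc 0, .ofNat 0, .negSucc 0, .negSucc 1, .negSucc 0, .ofNat 3, .negSucc 0, .ofNat 2, .ofNat 1,
  .ofNat 2, .ofNat 2, .negSucc 0, .ofNat 2, .ofNat 4, .negSucc 0, .negSucc 2, .negSucc 3, .ofNat 2, .ofNat 0,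
  .negSucc 2, .negSucc 2, .ofNat 0, .ofNat 2, .ofNat 4, .ofNat 1, .ofNat 2, .ofNat 2, .negSucc 0, .ofNat 3,
  .ofNat 0, .negSucc 2, .negSucc 2, .ofNat 2, .negSucc 3, .ofNat 0, .ofNat 4, .negSucc 1, .ofNat 0, .ofNat 2,
  .negSucc 0, .ofNat 0, .ofNat 3, .ofNat 0, .negSucc 0, .ofNat 2, .ofNat 1, .ofNat 0, .ofNat 2, .negSucc 3,
  .ofNat 2, .ofNat 1, .ofNat 2, .ofNat 1, .ofNat 2, .ofNat 1, .ofNat 0, .ofNat 3, .negSucc 1, .negSucc 0,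
  .ofNat 3, .negSucc 2, .ofNat 0, .ofNat 0, .negSucc 2, .negSucc 0, .negSucc 1, .ofNat 2, .ofNat 0, .ofNat 0,
  .ofNat 0, .negSucc 0, .ofNat 3, .ofNat 0, .negSucc 1, .negSucc 0, .negSucc 3, .ofNat 2, .ofNat 0,
  .negSucc 1, .ofNat 0, .ofNat 0, .negSucc 1, .ofNat 0, .negSucc 2, .negSucc 4, .negSucc 0, .ofNat 0,
  .ofNat 3, .ofNat 0, .ofNat 2, .ofNat 4, .ofNat 0, .negSucc 1, .ofNat 3, .negSucc 1, .ofNat 0, .ofNat 0,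
  .ofNat 0, .ofNat 0, .negSucc 1, .ofNat 0, .ofNat 3, .negSucc 1, .ofNat 0, .ofNat 2, .ofNat 0, .ofNat 0,
  .ofNat 0, .ofNat 3, .ofNat 0, .ofNat 0, .ofNat 0, .ofNat 1, .ofNat 1, .negSucc 0, .ofNat 0, .ofNat 0,
  .ofNat 0, .ofNat 0, .ofNat 0, .negSucc 3, .ofNat 0, .ofNat 0, .ofNat 5, .ofNat 1, .negSucc 1, .negSucc 1,
  .negSucc 0, .ofNat 0, .ofNat 0, .ofNat 0, .ofNat 0, .ofNat 2, .ofNat 0, .ofNat 0, .ofNat 1, .negSucc 5,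
  .ofNat 0, .negSucc 1, .negSucc 0, .negSucc 3, .ofNat 0, .ofNat 0, .ofNat 0, .ofNat 0, .ofNat 1, .ofNat 0,
  .ofNat 1, .ofNat 4, .ofNat 2, .ofNat 0, .ofNat 0, .ofNat 0, .negSucc 1, .ofNat 0, .ofNat 0, .ofNat 2,
  .ofNat 0, .ofNat 0, .ofNat 0, .ofNat 4, .ofNat 0, .ofNat 0, .ofNat 0, .ofNat 0, .ofNat 0]

/-- the values at 20G -/
def col102 : List ℤ :=
  [.ofNat 1, .ofNat 0, .ofNat 1, .ofNat 3, .ofNat 0, .negSucc 1, .negSucc 2, .ofNat 1, .ofNat 0, .ofNat 3,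
  .ofNat 3, .negSucc 2, .ofNat 0, .ofNat 0, .negSucc 1, .negSucc 2, .ofNat 3, .ofNat 0, .ofNat 0, .ofNat 0,
  .ofNat 1, .negSucc 3, .ofNat 0, .ofNat 4, .ofNat 0, .ofNat 3, .ofNat 0, .ofNat 0, .ofNat 0, .ofNat 0,
  .negSucc 1, .ofNat 0, .ofNat 1, .ofNat 0, .negSucc 4, .ofNat 0, .ofNat 0, .ofNat 0, .ofNat 0, .negSucc 2,
  .ofNat 5, .ofNat 0, .ofNat 0, .ofNat 0, .ofNat 0, .ofNat 0, .ofNat 1, .ofNat 0, .ofNat 2, .negSucc 1,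
  .ofNat 3, .ofNat 0, .negSucc 0, .negSucc 0, .ofNat 0, .ofNat 0, .ofNat 0, .ofNat 0, .ofNat 0, .ofNat 0,
  .ofNat 3, .ofNat 0, .ofNat 0, .ofNat 3, .ofNat 0, .ofNat 2, .ofNat 0, .ofNat 0, .ofNat 0, .ofNat 0,
  .ofNat 0, .ofNat 0, .ofNat 0, .ofNat 3, .ofNat 0, .ofNat 0, .ofNat 0, .ofNat 0, .ofNat 0, .ofNat 0,
  .ofNat 0, .negSucc 2, .ofNat 0, .ofNat 0, .ofNat 0, .ofNat 0, .ofNat 0, .ofNat 0, .ofNat 0, .negSucc 3,
  .ofNat 0, .ofNat 0, .ofNat 0, .ofNat 0, .ofNat 0, .ofNat 0, .ofNat 0, .ofNat 0, .ofNat 0, .ofNat 0,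
  .ofNat 0, .ofNat 6, .ofNat 0, .ofNat 0, .ofNat 0, .ofNat 0, .ofNat 0, .ofNat 2, .ofNat 0, .ofNat 0,
  .ofNat 3, .negSucc 5, .ofNat 0, .ofNat 0, .ofNat 0, .ofNat 0, .ofNat 0, .ofNat 0, .ofNat 0, .negSucc 2,
  .ofNat 2, .ofNat 0, .ofNat 0, .ofNat 0, .ofNat 0, .ofNat 0, .ofNat 0, .ofNat 0, .ofNat 0, .ofNat 0,
  .ofNat 0, .ofNat 0, .ofNat 3, .ofNat 3, .ofNat 0, .ofNat 0, .ofNat 0, .ofNat 0, .ofNat 0, .negSucc 2,
  .ofNat 0, .ofNat 0, .ofNat 0, .ofNat 2, .ofNat 0, .negSucc 3, .ofNat 0, .ofNat 0, .ofNat 0, .ofNat 3,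
  .ofNat 0, .ofNat 0, .ofNat 0, .negSucc 4, .ofNat 0, .ofNat 0, .ofNat 0, .negSucc 2, .ofNat 0, .ofNat 0,
  .ofNat 0, .ofNat 0, .ofNat 0, .ofNat 4, .ofNat 0, .ofNat 0, .ofNat 0, .ofNat 0, .ofNat 2, .negSucc 5,
  .ofNat 0, .ofNat 0, .ofNat 0, .ofNat 0, .ofNat 0]

/-- the values at 20H -/
def col103 : List ℤ :=
  [.ofNat 1, .negSucc 0, .negSucc 0, .negSucc 0, .negSucc 0, .ofNat 2, .ofNat 1, .ofNat 3, .ofNat 2,
  .ofNat 1, .negSucc 1, .negSucc 2, .ofNat 0, .negSucc 2, .ofNat 1, .negSucc 2, .ofNat 0, .negSucc 0,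
  .ofNat 2, .ofNat 0, .ofNat 1, .ofNat 0, .ofNat 2, .ofNat 1, .ofNat 1, .ofNat 0, .ofNat 0, .negSucc 3,
  .ofNat 1, .ofNat 3, .ofNat 0, .ofNat 0, .ofNat 0, .ofNat 1, .ofNat 0, .ofNat 0, .ofNat 1, .ofNat 1,
  .ofNat 0, .ofNat 3, .negSucc 0, .ofNat 0, .ofNat 0, .negSucc 1, .negSucc 1, .negSucc 1, .ofNat 0, .ofNat 0,
  .negSucc 0, .negSucc 1, .negSucc 0, .ofNat 4, .negSucc 0, .ofNat 0, .ofNat 1, .ofNat 0, .ofNat 0, .ofNat 2,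
  .ofNat 0, .negSucc 2, .ofNat 0, .negSucc 0, .ofNat 0, .negSucc 2, .ofNat 0, .negSucc 0, .ofNat 0,
  .negSucc 0, .ofNat 1, .negSucc 0, .ofNat 0, .ofNat 0, .negSucc 2, .negSucc 2, .ofNat 0, .ofNat 0, .ofNat 0,
  .ofNat 0, .ofNat 2, .ofNat 3, .negSucc 2, .ofNat 0, .ofNat 0, .ofNat 3, .negSucc 1, .ofNat 0, .ofNat 0,
  .ofNat 0, .ofNat 2, .ofNat 0, .ofNat 0, .ofNat 0, .ofNat 1, .negSucc 0, .ofNat 3, .ofNat 0, .negSucc 0,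
  .ofNat 0, .ofNat 0, .ofNat 0, .ofNat 0, .ofNat 2, .ofNat 3, .ofNat 0, .ofNat 0, .ofNat 0, .ofNat 0,
  .ofNat 0, .ofNat 0, .ofNat 0, .ofNat 1, .ofNat 0, .ofNat 0, .ofNat 0, .ofNat 0, .ofNat 0, .ofNat 0,
  .ofNat 1, .ofNat 0, .ofNat 0, .ofNat 0, .ofNat 1, .negSucc 0, .negSucc 2, .ofNat 0, .ofNat 0, .ofNat 0,
  .ofNat 0, .ofNat 0, .ofNat 2, .ofNat 0, .ofNat 0, .ofNat 1, .ofNat 1, .ofNat 0, .ofNat 0, .ofNat 3,
  .ofNat 0, .ofNat 2, .ofNat 0, .ofNat 0, .negSucc 1, .ofNat 0, .negSucc 1, .negSucc 0, .ofNat 0, .ofNat 0,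
  .negSucc 1, .negSucc 2, .ofNat 0, .negSucc 3, .ofNat 4, .ofNat 0, .ofNat 0, .negSucc 2, .ofNat 0, .ofNat 3,
  .ofNat 2, .ofNat 0, .ofNat 4, .negSucc 3, .ofNat 0, .ofNat 0, .ofNat 0, .ofNat 0, .ofNat 0, .ofNat 0,
  .ofNat 0, .ofNat 0, .negSucc 3, .ofNat 0, .ofNat 0, .ofNat 0, .ofNat 0, .ofNat 0]

/-- the values at 20I -/
def col104 : List ℤ :=
  [.ofNat 1, .ofNat 2, .ofNat 1, .ofNat 1, .ofNat 0, .ofNat 2, .negSucc 0, .negSucc 0, .ofNat 0, .negSucc 0,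
  .negSucc 2, .negSucc 0, .negSucc 1, .ofNat 0, .ofNat 0, .ofNat 3, .negSucc 0, .ofNat 0, .negSucc 1,
  .ofNat 0, .ofNat 1, .ofNat 0, .ofNat 0, .ofNat 2, .ofNat 0, .negSucc 0, .ofNat 0, .ofNat 0, .negSucc 1,
  .ofNat 0, .ofNat 2, .ofNat 0, .negSucc 2, .ofNat 0, .ofNat 1, .ofNat 0, .ofNat 0, .ofNat 0, .ofNat 0,
  .ofNat 1, .ofNat 3, .ofNat 0, .ofNat 2, .ofNat 0, .ofNat 0, .ofNat 0, .negSucc 0, .ofNat 0, .ofNat 0,
  .ofNat 0, .ofNat 1, .ofNat 0, .negSucc 0, .ofNat 1, .ofNat 0, .ofNat 0, .ofNat 0, .ofNat 2, .ofNat 2,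
  .ofNat 0, .negSucc 0, .ofNat 0, .ofNat 0, .negSucc 0, .ofNat 0, .negSucc 1, .ofNat 0, .ofNat 0, .ofNat 0,
  .ofNat 0, .ofNat 0, .ofNat 0, .ofNat 0, .negSucc 0, .ofNat 0, .ofNat 0, .ofNat 0, .ofNat 0, .ofNat 0,
  .ofNat 0, .ofNat 0, .negSucc 2, .ofNat 0, .ofNat 0, .ofNat 0, .ofNat 0, .ofNat 0, .negSucc 1, .ofNat 0,
  .ofNat 0, .ofNat 0, .ofNat 0, .ofNat 0, .negSucc 1, .ofNat 0, .ofNat 0, .ofNat 0, .ofNat 0, .ofNat 2,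
  .negSucc 1, .ofNat 0, .ofNat 0, .ofNat 0, .ofNat 0, .ofNat 0, .ofNat 0, .ofNat 0, .ofNat 2, .ofNat 0,
  .ofNat 0, .ofNat 1, .ofNat 0, .ofNat 0, .ofNat 0, .ofNat 0, .ofNat 0, .ofNat 0, .ofNat 0, .ofNat 0,
  .negSucc 0, .ofNat 0, .ofNat 0, .ofNat 0, .ofNat 0, .ofNat 0, .ofNat 0, .ofNat 0, .ofNat 0, .ofNat 0,
  .ofNat 0, .ofNat 0, .ofNat 0, .ofNat 1, .ofNat 3, .ofNat 0, .ofNat 0, .ofNat 0, .ofNat 0, .ofNat 0,
  .ofNat 1, .ofNat 0, .ofNat 0, .ofNat 0, .ofNat 0, .ofNat 0, .negSucc 1, .ofNat 0, .ofNat 0, .ofNat 0,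
  .negSucc 0, .ofNat 0, .ofNat 0, .negSucc 1, .ofNat 1, .ofNat 2, .ofNat 0, .ofNat 0, .negSucc 0, .ofNat 0,
  .ofNat 0, .ofNat 0, .ofNat 0, .ofNat 0, .ofNat 0, .ofNat 0, .ofNat 0, .ofNat 0, .ofNat 0, .negSucc 1,
  .ofNat 2, .ofNat 0, .ofNat 0, .ofNat 0, .ofNat 0, .ofNat 0]

/-- the values at 20J -/
def col105 : List ℤ :=
  [.ofNat 1, .ofNat 0, .ofNat 1, .negSucc 0, .ofNat 0, .negSucc 1, .ofNat 1, .ofNat 1, .ofNat 0, .negSucc 0,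
  .negSucc 0, .ofNat 1, .ofNat 0, .ofNat 0, .negSucc 1, .ofNat 1, .negSucc 0, .ofNat 0, .ofNat 0, .ofNat 0,
  .ofNat 1, .ofNat 0, .ofNat 0, .ofNat 0, .ofNat 0, .negSucc 0, .ofNat 0, .ofNat 0, .ofNat 0, .ofNat 0,
  .ofNat 2, .ofNat 0, .ofNat 1, .ofNat 0, .negSucc 0, .ofNat 0, .ofNat 0, .ofNat 0, .ofNat 0, .ofNat 1,
  .ofNat 1, .ofNat 0, .ofNat 0, .ofNat 0, .ofNat 0, .ofNat 0, .ofNat 1, .ofNat 0, .ofNat 2, .negSucc 1,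
  .negSucc 0, .ofNat 0, .negSucc 0, .negSucc 0, .ofNat 0, .ofNat 0, .ofNat 0, .ofNat 0, .ofNat 0, .ofNat 0,
  .negSucc 0, .ofNat 0, .ofNat 0, .negSucc 0, .ofNat 0, .ofNat 2, .ofNat 0, .ofNat 0, .ofNat 0, .ofNat 0,
  .ofNat 0, .ofNat 0, .ofNat 0, .negSucc 0, .ofNat 0, .ofNat 0, .ofNat 0, .ofNat 0, .ofNat 0, .ofNat 0,
  .ofNat 0, .ofNat 1, .ofNat 0, .ofNat 0, .ofNat 0, .ofNat 0, .ofNat 0, .ofNat 0, .ofNat 0, .ofNat 0,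
  .ofNat 0, .ofNat 0, .ofNat 0, .ofNat 0, .ofNat 0, .ofNat 0, .ofNat 0, .ofNat 0, .ofNat 0, .ofNat 0,
  .ofNat 0, .ofNat 2, .ofNat 0, .ofNat 0, .ofNat 0, .ofNat 0, .ofNat 0, .ofNat 2, .ofNat 0, .ofNat 0,
  .negSucc 0, .negSucc 1, .ofNat 0, .ofNat 0, .ofNat 0, .ofNat 0, .ofNat 0, .ofNat 0, .ofNat 0, .ofNat 1,
  .negSucc 1, .ofNat 0, .ofNat 0, .ofNat 0, .ofNat 0, .ofNat 0, .ofNat 0, .ofNat 0, .ofNat 0, .ofNat 0,
  .ofNat 0, .ofNat 0, .negSucc 0, .negSucc 0, .ofNat 0, .ofNat 0, .ofNat 0, .ofNat 0, .ofNat 0, .ofNat 1,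
  .ofNat 0, .ofNat 0, .ofNat 0, .ofNat 2, .ofNat 0, .ofNat 0, .ofNat 0, .ofNat 0, .ofNat 0, .negSucc 0,
  .ofNat 0, .ofNat 0, .ofNat 0, .negSucc 0, .ofNat 0, .ofNat 0, .ofNat 0, .ofNat 1, .ofNat 0, .ofNat 0,
  .ofNat 0, .ofNat 0, .ofNat 0, .ofNat 0, .ofNat 0, .ofNat 0, .ofNat 0, .ofNat 0, .ofNat 2, .ofNat 2,
  .ofNat 0, .ofNat 0, .ofNat 0, .ofNat 0, .ofNat 0]

/-- the values at 21A -/
def col106 : List ℤ :=
  [.ofNat 1, .ofNat 1, .ofNat 1, .negSucc 0, .negSucc 0, .ofNat 0, .ofNat 2, .negSucc 1, .negSucc 0,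
  .ofNat 1, .ofNat 1, .ofNat 0, .ofNat 2, .ofNat 0, .ofNat 1, .ofNat 2, .ofNat 1, .negSucc 3, .ofNat 0,
  .ofNat 1, .ofNat 0, .ofNat 1, .ofNat 0, .negSucc 0, .negSucc 0, .negSucc 1, .ofNat 0, .ofNat 0, .ofNat 1,
  .ofNat 2, .ofNat 0, .ofNat 3, .ofNat 0, .ofNat 1, .ofNat 0, .ofNat 0, .ofNat 1, .ofNat 0, .ofNat 1,
  .ofNat 0, .ofNat 0, .ofNat 0, .ofNat 1, .ofNat 0, .ofNat 0, .negSucc 0, .ofNat 1, .negSucc 1, .ofNat 0,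
  .ofNat 0, .negSucc 0, .negSucc 1, .ofNat 0, .negSucc 0, .ofNat 3, .ofNat 2, .ofNat 0, .negSucc 1, .ofNat 0,
  .ofNat 0, .ofNat 0, .negSucc 0, .ofNat 1, .negSucc 0, .ofNat 1, .ofNat 0, .negSucc 1, .ofNat 0, .ofNat 0,
  .ofNat 0, .ofNat 0, .negSucc 1, .ofNat 0, .ofNat 0, .ofNat 0, .negSucc 0, .ofNat 0, .ofNat 1, .negSucc 1,
  .ofNat 1, .ofNat 1, .negSucc 1, .ofNat 0, .negSucc 0, .ofNat 1, .ofNat 0, .ofNat 0, .negSucc 1, .ofNat 0,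
  .ofNat 0, .negSucc 0, .ofNat 0, .ofNat 1, .ofNat 1, .ofNat 1, .ofNat 0, .negSucc 0, .negSucc 0, .ofNat 2,
  .ofNat 0, .ofNat 0, .ofNat 0, .ofNat 0, .ofNat 2, .ofNat 3, .negSucc 0, .negSucc 1, .ofNat 0, .ofNat 1,
  .ofNat 0, .ofNat 1, .ofNat 0, .ofNat 2, .negSucc 1, .ofNat 0, .ofNat 0, .ofNat 0, .ofNat 0, .ofNat 2,
  .ofNat 0, .ofNat 0, .ofNat 1, .ofNat 1, .ofNat 0, .ofNat 4, .ofNat 0, .ofNat 0, .ofNat 0, .ofNat 0,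
  .ofNat 0, .ofNat 0, .negSucc 1, .ofNat 0, .ofNat 0, .ofNat 0, .negSucc 0, .negSucc 0, .ofNat 0, .ofNat 0,
  .negSucc 1, .negSucc 1, .ofNat 0, .negSucc 0, .ofNat 0, .ofNat 4, .ofNat 0, .ofNat 0, .negSucc 1, .ofNat 0,
  .ofNat 1, .ofNat 1, .ofNat 1, .ofNat 0, .ofNat 0, .negSucc 1, .ofNat 0, .ofNat 1, .ofNat 0, .negSucc 0,
  .negSucc 0, .negSucc 0, .ofNat 2, .ofNat 1, .ofNat 2, .ofNat 0, .ofNat 0, .negSucc 1, .ofNat 0, .ofNat 0,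
  .ofNat 0, .ofNat 0, .ofNat 0, .ofNat 0, .ofNat 0, .negSucc 3]

/-- the values at 22A -/
def col107 : List ℤ :=
  [.ofNat 1, .ofNat 2, .ofNat 1, .negSucc 0, .ofNat 2, .ofNat 0, .ofNat 1, .negSucc 0, .ofNat 0, .negSucc 1,
  .ofNat 0, .negSucc 0, .ofNat 0, .negSucc 1, .ofNat 0, .ofNat 0, .ofNat 1, .ofNat 0, .ofNat 0, .negSucc 0,
  .ofNat 0, .ofNat 2, .ofNat 1, .ofNat 0, .ofNat 0, .ofNat 0, .ofNat 0, .ofNat 1, .ofNat 0, .negSucc 0,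
  .ofNat 0, .ofNat 0, .ofNat 0, .ofNat 0, .ofNat 1, .ofNat 0, .negSucc 0, .negSucc 1, .ofNat 0, .ofNat 0,
  .ofNat 0, .ofNat 2, .ofNat 0, .negSucc 0, .ofNat 0, .ofNat 0, .negSucc 0, .negSucc 1, .ofNat 0, .negSucc 0,
  .negSucc 0, .ofNat 0, .ofNat 0, .ofNat 0, .ofNat 0, .ofNat 0, .ofNat 1, .ofNat 0, .ofNat 0, .ofNat 1,
  .ofNat 1, .ofNat 0, .ofNat 0, .ofNat 0, .negSucc 0, .ofNat 0, .ofNat 0, .ofNat 0, .ofNat 0, .ofNat 0,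
  .ofNat 0, .ofNat 0, .ofNat 1, .ofNat 2, .ofNat 1, .ofNat 0, .negSucc 0, .ofNat 0, .ofNat 1, .ofNat 1,
  .negSucc 0, .ofNat 0, .ofNat 1, .negSucc 0, .ofNat 0, .ofNat 1, .ofNat 0, .ofNat 2, .negSucc 0, .negSucc 1,
  .ofNat 0, .ofNat 0, .negSucc 0, .ofNat 0, .ofNat 0, .ofNat 0, .negSucc 0, .ofNat 0, .ofNat 0, .ofNat 0,
  .ofNat 1, .ofNat 1, .ofNat 0, .ofNat 0, .ofNat 0, .ofNat 0, .ofNat 0, .ofNat 0, .negSucc 0, .negSucc 0,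
  .ofNat 0, .ofNat 1, .negSucc 0, .ofNat 0, .ofNat 0, .ofNat 0, .ofNat 0, .ofNat 0, .ofNat 0, .ofNat 0,
  .ofNat 0, .ofNat 0, .ofNat 0, .negSucc 1, .ofNat 0, .ofNat 1, .ofNat 0, .ofNat 0, .ofNat 0, .ofNat 2,
  .ofNat 0, .ofNat 0, .ofNat 0, .ofNat 0, .ofNat 0, .ofNat 1, .ofNat 0, .ofNat 0, .ofNat 0, .negSucc 0,
  .ofNat 0, .ofNat 0, .ofNat 0, .ofNat 0, .ofNat 0, .ofNat 0, .ofNat 0, .negSucc 1, .ofNat 0, .ofNat 0,
  .negSucc 1, .ofNat 2, .ofNat 0, .ofNat 0, .ofNat 0, .ofNat 0, .negSucc 1, .ofNat 0, .ofNat 0, .negSucc 1,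
  .ofNat 2, .negSucc 1, .ofNat 2, .ofNat 0, .ofNat 0, .ofNat 2, .ofNat 0, .ofNat 0, .ofNat 0, .ofNat 0,
  .ofNat 0, .ofNat 2, .ofNat 0, .ofNat 0, .ofNat 0]

/-- the values at 22B -/
def col108 : List ℤ :=
  [.ofNat 1, .ofNat 0, .ofNat 1, .ofNat 1, .ofNat 0, .negSucc 1, .ofNat 1, .ofNat 1, .negSucc 1, .ofNat 0,
  .ofNat 0, .ofNat 1, .ofNat 0, .ofNat 0, .ofNat 0, .ofNat 0, .ofNat 1, .ofNat 0, .ofNat 0, .ofNat 1,
  .ofNat 0, .ofNat 0, .negSucc 0, .ofNat 0, .ofNat 0, .ofNat 0, .ofNat 0, .negSucc 0, .ofNat 2, .negSucc 0,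
  .ofNat 0, .ofNat 0, .ofNat 0, .ofNat 0, .negSucc 0, .ofNat 0, .ofNat 1, .ofNat 0, .ofNat 0, .ofNat 0,
  .ofNat 0, .ofNat 0, .ofNat 0, .negSucc 0, .ofNat 0, .ofNat 0, .negSucc 0, .ofNat 0, .ofNat 0, .negSucc 0,
  .ofNat 1, .ofNat 2, .ofNat 0, .ofNat 0, .ofNat 0, .ofNat 0, .ofNat 1, .ofNat 0, .ofNat 0, .ofNat 1,
  .negSucc 0, .ofNat 0, .negSucc 1, .ofNat 0, .ofNat 1, .negSucc 1, .ofNat 2, .ofNat 0, .ofNat 0, .negSucc 1,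
  .ofNat 0, .ofNat 0, .ofNat 1, .ofNat 0, .negSucc 0, .ofNat 0, .ofNat 1, .ofNat 0, .ofNat 1, .negSucc 0,
  .negSucc 0, .ofNat 0, .negSucc 0, .ofNat 1, .ofNat 0, .ofNat 1, .ofNat 0, .ofNat 0, .negSucc 0, .ofNat 0,
  .ofNat 0, .ofNat 0, .ofNat 1, .ofNat 0, .ofNat 0, .ofNat 0, .negSucc 0, .ofNat 0, .ofNat 2, .ofNat 0,
  .negSucc 0, .negSucc 0, .ofNat 0, .ofNat 0, .ofNat 0, .ofNat 0, .ofNat 0, .ofNat 0, .negSucc 0, .negSucc 0,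
  .ofNat 0, .ofNat 1, .ofNat 1, .ofNat 0, .ofNat 0, .ofNat 0, .ofNat 0, .ofNat 0, .ofNat 0, .ofNat 0,
  .ofNat 0, .ofNat 0, .ofNat 0, .ofNat 0, .ofNat 0, .ofNat 1, .ofNat 0, .ofNat 0, .ofNat 0, .ofNat 0,
  .ofNat 2, .ofNat 0, .ofNat 0, .ofNat 0, .ofNat 0, .ofNat 1, .negSucc 1, .ofNat 0, .ofNat 0, .negSucc 0,
  .ofNat 0, .ofNat 0, .ofNat 0, .ofNat 0, .ofNat 0, .ofNat 0, .ofNat 0, .ofNat 0, .ofNat 0, .ofNat 0,
  .ofNat 0, .ofNat 0, .ofNat 0, .ofNat 0, .ofNat 0, .ofNat 0, .ofNat 0, .ofNat 0, .ofNat 0, .ofNat 0,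
  .ofNat 0, .ofNat 0, .ofNat 0, .ofNat 0, .ofNat 0, .ofNat 0, .ofNat 0, .ofNat 0, .ofNat 0, .ofNat 0,
  .ofNat 0, .negSucc 1, .ofNat 0, .ofNat 0, .ofNat 0]

/-- the values at 23AB -/
def col109 : List ℤ :=
  [.ofNat 1, .ofNat 1, .ofNat 0, .ofNat 0, .ofNat 0, .ofNat 0, .negSucc 0, .ofNat 0, .ofNat 0, .ofNat 0,
  .ofNat 0, .ofNat 0, .negSucc 0, .ofNat 0, .ofNat 0, .ofNat 0, .ofNat 0, .ofNat 0, .ofNat 0, .ofNat 0,
  .ofNat 0, .ofNat 0, .ofNat 1, .ofNat 0, .ofNat 0, .ofNat 1, .ofNat 0, .ofNat 0, .ofNat 0, .ofNat 0,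
  .ofNat 0, .ofNat 0, .ofNat 0, .ofNat 0, .ofNat 0, .ofNat 0, .ofNat 0, .ofNat 0, .ofNat 0, .ofNat 0,
  .ofNat 0, .ofNat 0, .negSucc 0, .ofNat 0, .ofNat 0, .ofNat 0, .ofNat 0, .ofNat 0, .ofNat 0, .ofNat 0,
  .ofNat 0, .ofNat 0, .ofNat 0, .ofNat 1, .ofNat 0, .ofNat 0, .ofNat 0, .ofNat 0, .ofNat 0, .ofNat 0,
  .ofNat 0, .ofNat 0, .ofNat 0, .ofNat 0, .ofNat 0, .ofNat 0, .negSucc 0, .ofNat 0, .ofNat 0, .ofNat 0,
  .ofNat 0, .ofNat 0, .ofNat 0, .ofNat 0, .ofNat 0, .ofNat 1, .ofNat 0, .ofNat 0, .ofNat 0, .ofNat 0,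
  .ofNat 0, .ofNat 0, .ofNat 0, .ofNat 1, .ofNat 0, .negSucc 0, .ofNat 0, .ofNat 0, .ofNat 0, .ofNat 0,
  .ofNat 0, .ofNat 0, .ofNat 0, .ofNat 0, .ofNat 0, .negSucc 0, .negSucc 0, .ofNat 0, .ofNat 0, .ofNat 0,
  .ofNat 0, .ofNat 0, .ofNat 0, .ofNat 0, .ofNat 1, .ofNat 0, .ofNat 0, .ofNat 0, .ofNat 0, .ofNat 0,
  .ofNat 0, .ofNat 0, .ofNat 0, .ofNat 0, .ofNat 0, .ofNat 0, .ofNat 0, .ofNat 0, .ofNat 0, .ofNat 0,
  .ofNat 0, .ofNat 0, .ofNat 0, .ofNat 1, .ofNat 0, .ofNat 0, .ofNat 0, .ofNat 0, .ofNat 0, .ofNat 0,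
  .ofNat 1, .ofNat 0, .negSucc 0, .negSucc 0, .ofNat 0, .ofNat 0, .ofNat 0, .ofNat 0, .ofNat 0, .ofNat 0,
  .negSucc 0, .ofNat 0, .ofNat 0, .ofNat 0, .ofNat 0, .ofNat 0, .ofNat 0, .ofNat 0, .ofNat 0, .ofNat 0,
  .ofNat 0, .ofNat 0, .ofNat 0, .ofNat 0, .ofNat 0, .ofNat 0, .ofNat 0, .ofNat 0, .ofNat 0, .ofNat 0,
  .ofNat 0, .ofNat 0, .ofNat 0, .ofNat 0, .ofNat 0, .ofNat 0, .ofNat 0, .negSucc 0, .ofNat 0, .ofNat 0,
  .negSucc 0, .ofNat 0, .ofNat 2, .ofNat 0, .ofNat 0]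

/-- the values at 24A -/
def col110 : List ℤ :=
  [.ofNat 1, .ofNat 2, .negSucc 0, .negSucc 3, .ofNat 5, .negSucc 0, .ofNat 1, .negSucc 3, .negSucc 0,
  .negSucc 0, .ofNat 6, .ofNat 1, .ofNat 3, .negSucc 1, .ofNat 2, .negSucc 3, .ofNat 3, .ofNat 5, .negSucc 4,
  .ofNat 2, .negSucc 1, .negSucc 1, .negSucc 2, .ofNat 6, .negSucc 0, .negSucc 0, .ofNat 5, .negSucc 7,
  .negSucc 3, .ofNat 5, .ofNat 3, .negSucc 3, .negSucc 4, .negSucc 6, .ofNat 6, .ofNat 4, .negSucc 1,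
  .ofNat 8, .ofNat 0, .negSucc 3, .ofNat 0, .negSucc 0, .ofNat 0, .ofNat 3, .ofNat 2, .negSucc 1, .ofNat 9,
  .negSucc 0, .ofNat 2, .ofNat 0, .negSucc 2, .negSucc 1, .negSucc 4, .ofNat 6, .ofNat 0, .negSucc 6,
  .ofNat 1, .ofNat 3, .ofNat 0, .ofNat 4, .negSucc 2, .negSucc 2, .ofNat 2, .negSucc 5, .ofNat 2, .ofNat 0,
  .negSucc 0, .ofNat 0, .ofNat 0, .ofNat 0, .ofNat 8, .ofNat 6, .negSucc 2, .ofNat 3, .ofNat 4, .ofNat 8,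
  .ofNat 3, .negSucc 1, .negSucc 2, .negSucc 3, .negSucc 3, .ofNat 3, .ofNat 2, .negSucc 3, .negSucc 3,
  .ofNat 5, .ofNat 3, .ofNat 0, .ofNat 0, .ofNat 0, .ofNat 0, .negSucc 5, .negSucc 2, .negSucc 2, .ofNat 5,
  .ofNat 4, .negSucc 3, .ofNat 4, .ofNat 2, .ofNat 0, .ofNat 0, .negSucc 2, .negSucc 3, .negSucc 0, .ofNat 0,
  .ofNat 0, .ofNat 0, .ofNat 2, .ofNat 8, .ofNat 5, .negSucc 3, .negSucc 2, .ofNat 3, .negSucc 0, .negSucc 4,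
  .ofNat 1, .negSucc 1, .negSucc 3, .negSucc 2, .ofNat 4, .ofNat 0, .negSucc 5, .negSucc 5, .negSucc 3,
  .ofNat 2, .ofNat 6, .negSucc 3, .negSucc 8, .negSucc 0, .ofNat 3, .ofNat 0, .negSucc 8, .ofNat 0, .ofNat 0,
  .ofNat 4, .ofNat 2, .negSucc 4, .negSucc 2, .ofNat 0, .negSucc 8, .ofNat 3, .ofNat 4, .ofNat 2, .ofNat 0,
  .ofNat 3, .ofNat 2, .ofNat 0, .ofNat 6, .negSucc 3, .ofNat 5, .ofNat 0, .ofNat 0, .ofNat 0, .ofNat 0,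
  .negSucc 1, .negSucc 2, .ofNat 4, .ofNat 0, .ofNat 0, .ofNat 0, .ofNat 0, .ofNat 0, .negSucc 1, .ofNat 0,
  .ofNat 4, .ofNat 2, .ofNat 6, .negSucc 7, .ofNat 0, .ofNat 0, .negSucc 3, .ofNat 0, .ofNat 0, .ofNat 0,
  .ofNat 0]

/-- the values at 24B -/
def col111 : List ℤ :=
  [.ofNat 1, .ofNat 0, .ofNat 1, .ofNat 4, .negSucc 2, .ofNat 1, .negSucc 0, .negSucc 1, .negSucc 2,
  .negSucc 4, .ofNat 0, .ofNat 1, .ofNat 3, .ofNat 0, .ofNat 2, .negSucc 1, .negSucc 2, .ofNat 7, .negSucc 2,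
  .ofNat 2, .ofNat 6, .negSucc 5, .negSucc 0, .ofNat 6, .negSucc 4, .negSucc 2, .ofNat 3, .negSucc 3,
  .ofNat 0, .ofNat 1, .negSucc 2, .negSucc 3, .ofNat 5, .ofNat 5, .ofNat 2, .ofNat 2, .negSucc 5, .ofNat 0,
  .ofNat 6, .ofNat 4, .negSucc 5, .ofNat 3, .ofNat 4, .ofNat 1, .negSucc 1, .negSucc 5, .ofNat 1, .negSucc 2,
  .ofNat 2, .ofNat 0, .ofNat 9, .ofNat 6, .negSucc 4, .ofNat 6, .ofNat 4, .ofNat 7, .negSucc 2, .negSucc 2,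
  .ofNat 0, .ofNat 0, .ofNat 3, .ofNat 3, .negSucc 5, .negSucc 5, .negSucc 1, .ofNat 0, .negSucc 2, .ofNat 0,
  .negSucc 7, .ofNat 8, .negSucc 7, .negSucc 5, .ofNat 3, .negSucc 2, .ofNat 6, .ofNat 0, .negSucc 2,
  .ofNat 2, .negSucc 2, .ofNat 0, .ofNat 0, .ofNat 3, .ofNat 2, .ofNat 0, .ofNat 0, .ofNat 3, .ofNat 3,
  .ofNat 0, .ofNat 0, .ofNat 0, .ofNat 0, .negSucc 1, .negSucc 2, .ofNat 9, .ofNat 3, .negSucc 1, .ofNat 0,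
  .ofNat 4, .negSucc 5, .ofNat 0, .ofNat 0, .negSucc 2, .ofNat 0, .negSucc 4, .ofNat 4, .negSucc 7, .ofNat 0,
  .negSucc 1, .ofNat 0, .negSucc 4, .ofNat 0, .negSucc 2, .negSucc 2, .negSucc 2, .negSucc 0, .ofNat 1,
  .negSucc 1, .ofNat 2, .negSucc 2, .ofNat 0, .ofNat 0, .negSucc 5, .ofNat 6, .ofNat 0, .ofNat 4, .ofNat 0,
  .negSucc 7, .ofNat 3, .negSucc 4, .ofNat 3, .ofNat 0, .ofNat 3, .ofNat 0, .ofNat 0, .negSucc 5, .ofNat 6,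
  .negSucc 2, .ofNat 3, .ofNat 0, .ofNat 3, .ofNat 3, .ofNat 4, .ofNat 6, .ofNat 0, .ofNat 3, .negSucc 1,
  .ofNat 0, .negSucc 5, .ofNat 0, .ofNat 3, .ofNat 0, .ofNat 0, .ofNat 0, .ofNat 0, .ofNat 6, .ofNat 9,
  .ofNat 0, .ofNat 0, .ofNat 0, .ofNat 0, .ofNat 0, .ofNat 0, .negSucc 5, .ofNat 0, .negSucc 3, .negSucc 1,
  .ofNat 2, .negSucc 3, .ofNat 0, .ofNat 0, .ofNat 4, .negSucc 7, .ofNat 0, .ofNat 0, .ofNat 0]

/-- the values at 24C -/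
def col112 : List ℤ :=
  [.ofNat 1, .ofNat 0, .ofNat 1, .ofNat 0, .ofNat 1, .negSucc 2, .negSucc 4, .ofNat 2, .ofNat 5, .negSucc 0,
  .ofNat 4, .ofNat 1, .negSucc 0, .ofNat 0, .ofNat 10, .negSucc 1, .negSucc 2, .ofNat 3, .ofNat 5,
  .negSucc 1, .negSucc 5, .ofNat 2, .negSucc 0, .ofNat 2, .negSucc 0, .ofNat 5, .negSucc 0, .ofNat 0,
  .negSucc 3, .ofNat 1, .ofNat 5, .ofNat 4, .ofNat 1, .negSucc 6, .ofNat 2, .negSucc 1, .ofNat 2, .ofNat 0,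
  .negSucc 1, .ofNat 0, .ofNat 2, .negSucc 0, .ofNat 0, .ofNat 5, .negSucc 1, .negSucc 5, .ofNat 1,
  .negSucc 2, .ofNat 2, .ofNat 0, .negSucc 6, .ofNat 2, .negSucc 0, .ofNat 2, .ofNat 4, .negSucc 0,
  .negSucc 2, .ofNat 5, .negSucc 7, .negSucc 3, .ofNat 3, .ofNat 7, .negSucc 1, .ofNat 2, .ofNat 2, .ofNat 0,
  .ofNat 5, .ofNat 0, .negSucc 7, .ofNat 0, .ofNat 4, .ofNat 2, .ofNat 3, .negSucc 2, .negSucc 1, .negSucc 7,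
  .negSucc 6, .ofNat 6, .ofNat 1, .ofNat 4, .ofNat 4, .negSucc 4, .negSucc 1, .ofNat 4, .negSucc 3, .ofNat 7,
  .ofNat 3, .negSucc 7, .ofNat 0, .ofNat 0, .ofNat 8, .negSucc 1, .ofNat 1, .ofNat 1, .negSucc 0, .negSucc 1,
  .ofNat 4, .negSucc 7, .negSucc 1, .ofNat 0, .ofNat 0, .negSucc 2, .ofNat 4, .negSucc 0, .ofNat 0, .ofNat 4,
  .ofNat 0, .ofNat 2, .negSucc 7, .negSucc 8, .negSucc 3, .negSucc 2, .ofNat 5, .ofNat 5, .negSucc 4,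
  .negSucc 2, .negSucc 1, .negSucc 1, .ofNat 5, .ofNat 8, .ofNat 0, .negSucc 1, .ofNat 2, .ofNat 4,
  .negSucc 3, .ofNat 0, .negSucc 3, .ofNat 3, .negSucc 4, .ofNat 3, .ofNat 0, .negSucc 4, .ofNat 0, .ofNat 0,
  .ofNat 6, .negSucc 1, .ofNat 1, .negSucc 4, .ofNat 0, .negSucc 4, .negSucc 4, .ofNat 0, .ofNat 2, .ofNat 0,
  .ofNat 7, .negSucc 1, .ofNat 0, .negSucc 1, .ofNat 4, .negSucc 0, .ofNat 0, .ofNat 0, .ofNat 0, .ofNat 0,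
  .ofNat 2, .ofNat 1, .negSucc 3, .ofNat 0, .ofNat 8, .ofNat 0, .ofNat 0, .ofNat 0, .ofNat 2, .ofNat 0,
  .ofNat 0, .negSucc 1, .ofNat 10, .ofNat 4, .ofNat 0, .ofNat 0, .ofNat 4, .ofNat 0, .ofNat 0, .ofNat 0,
  .ofNat 0]

/-- the values at 24D -/
def col113 : List ℤ :=
  [.ofNat 1, .negSucc 1, .ofNat 3, .ofNat 0, .ofNat 1, .negSucc 0, .ofNat 1, .negSucc 3, .negSucc 4,
  .ofNat 7, .negSucc 5, .ofNat 1, .ofNat 7, .ofNat 2, .ofNat 2, .ofNat 0, .ofNat 3, .ofNat 1, .negSucc 0,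
  .negSucc 1, .negSucc 5, .ofNat 2, .ofNat 9, .negSucc 1, .negSucc 0, .negSucc 0, .ofNat 5, .negSucc 3,
  .negSucc 3, .ofNat 1, .ofNat 3, .negSucc 3, .ofNat 3, .negSucc 2, .negSucc 1, .negSucc 3, .ofNat 2,
  .negSucc 3, .ofNat 0, .ofNat 0, .ofNat 0, .negSucc 0, .ofNat 0, .negSucc 4, .negSucc 1, .ofNat 2, .ofNat 5,
  .ofNat 7, .negSucc 5, .ofNat 0, .ofNat 1, .ofNat 2, .negSucc 0, .negSucc 1, .negSucc 3, .ofNat 1, .ofNat 5,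
  .negSucc 0, .ofNat 8, .negSucc 3, .negSucc 2, .ofNat 1, .negSucc 1, .negSucc 1, .ofNat 2, .ofNat 0,
  .negSucc 0, .ofNat 0, .ofNat 0, .ofNat 8, .ofNat 0, .ofNat 10, .negSucc 2, .ofNat 3, .ofNat 4, .negSucc 7,
  .negSucc 0, .negSucc 1, .negSucc 6, .ofNat 4, .ofNat 4, .negSucc 0, .negSucc 1, .ofNat 4, .negSucc 3,
  .negSucc 2, .ofNat 3, .ofNat 8, .ofNat 0, .ofNat 0, .negSucc 7, .ofNat 6, .ofNat 5, .negSucc 6, .ofNat 5,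
  .ofNat 0, .ofNat 4, .ofNat 0, .negSucc 1, .ofNat 0, .ofNat 0, .negSucc 2, .ofNat 4, .negSucc 0, .ofNat 0,
  .ofNat 4, .ofNat 0, .ofNat 2, .negSucc 7, .negSucc 2, .negSucc 3, .negSucc 2, .negSucc 4, .negSucc 0,
  .ofNat 3, .negSucc 10, .negSucc 1, .negSucc 7, .ofNat 1, .ofNat 0, .ofNat 0, .ofNat 2, .ofNat 2, .ofNat 4,
  .ofNat 2, .ofNat 6, .negSucc 3, .negSucc 0, .negSucc 4, .ofNat 3, .ofNat 0, .negSucc 0, .ofNat 0, .ofNat 0,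
  .ofNat 4, .negSucc 1, .negSucc 4, .ofNat 5, .ofNat 0, .negSucc 0, .negSucc 0, .ofNat 0, .ofNat 2, .ofNat 0,
  .negSucc 0, .negSucc 1, .ofNat 0, .ofNat 2, .ofNat 4, .ofNat 5, .ofNat 0, .ofNat 0, .ofNat 0, .ofNat 0,
  .ofNat 2, .ofNat 5, .negSucc 3, .ofNat 0, .negSucc 7, .ofNat 0, .ofNat 0, .ofNat 0, .ofNat 2, .ofNat 0,
  .ofNat 4, .negSucc 1, .negSucc 9, .negSucc 7, .ofNat 0, .ofNat 0, .ofNat 4, .ofNat 0, .ofNat 0, .ofNat 0,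
  .ofNat 0]

/-- the values at 24E -/
def col114 : List ℤ :=
  [.ofNat 1, .negSucc 3, .ofNat 5, .negSucc 3, .ofNat 5, .ofNat 5, .negSucc 4, .ofNat 2, .negSucc 6,
  .negSucc 0, .ofNat 0, .ofNat 1, .ofNat 3, .ofNat 4, .ofNat 2, .ofNat 2, .negSucc 2, .negSucc 0, .ofNat 1,
  .ofNat 2, .negSucc 1, .negSucc 1, .ofNat 3, .negSucc 5, .negSucc 0, .ofNat 5, .negSucc 0, .ofNat 4,
  .negSucc 3, .ofNat 5, .negSucc 2, .negSucc 3, .ofNat 1, .ofNat 5, .negSucc 5, .negSucc 1, .negSucc 1,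
  .negSucc 3, .ofNat 6, .negSucc 3, .negSucc 5, .negSucc 0, .ofNat 0, .negSucc 2, .ofNat 2, .negSucc 1,
  .negSucc 2, .ofNat 5, .ofNat 2, .ofNat 0, .negSucc 2, .negSucc 1, .negSucc 4, .negSucc 5, .ofNat 0,
  .negSucc 0, .ofNat 1, .ofNat 9, .ofNat 0, .ofNat 4, .ofNat 3, .ofNat 3, .ofNat 2, .ofNat 6, .ofNat 2,
  .ofNat 0, .ofNat 5, .ofNat 0, .ofNat 0, .ofNat 0, .negSucc 3, .ofNat 6, .ofNat 3, .negSucc 2, .negSucc 1,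
  .ofNat 8, .negSucc 2, .negSucc 1, .negSucc 2, .negSucc 3, .negSucc 3, .negSucc 8, .ofNat 2, .negSucc 3,
  .negSucc 3, .negSucc 0, .ofNat 3, .ofNat 0, .ofNat 0, .ofNat 0, .ofNat 0, .negSucc 5, .ofNat 9, .negSucc 2,
  .negSucc 0, .ofNat 10, .negSucc 3, .ofNat 4, .ofNat 2, .ofNat 0, .ofNat 0, .negSucc 2, .negSucc 3,
  .negSucc 0, .ofNat 0, .ofNat 0, .ofNat 0, .ofNat 2, .ofNat 8, .negSucc 0, .negSucc 3, .negSucc 2,
  .negSucc 2, .ofNat 5, .negSucc 4, .ofNat 1, .negSucc 1, .ofNat 2, .ofNat 9, .ofNat 4, .ofNat 0, .ofNat 6,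
  .negSucc 5, .negSucc 3, .negSucc 3, .ofNat 0, .negSucc 3, .ofNat 3, .negSucc 0, .ofNat 3, .ofNat 0,
  .ofNat 3, .ofNat 0, .ofNat 0, .negSucc 1, .ofNat 2, .ofNat 1, .ofNat 3, .ofNat 0, .ofNat 3, .negSucc 8,
  .ofNat 4, .ofNat 2, .ofNat 0, .ofNat 3, .ofNat 2, .ofNat 0, .negSucc 5, .negSucc 3, .negSucc 0, .ofNat 0,
  .ofNat 0, .ofNat 0, .ofNat 0, .negSucc 1, .ofNat 9, .ofNat 4, .ofNat 0, .ofNat 0, .ofNat 0, .ofNat 0,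
  .ofNat 0, .negSucc 1, .ofNat 0, .negSucc 7, .ofNat 2, .negSucc 5, .ofNat 4, .ofNat 0, .ofNat 0, .negSucc 3,
  .ofNat 0, .ofNat 0, .ofNat 0, .ofNat 0]

/-- the values at 24F -/
def col115 : List ℤ :=
  [.ofNat 1, .negSucc 2, .ofNat 1, .ofNat 1, .ofNat 3, .ofNat 4, .negSucc 0, .negSucc 4, .ofNat 0,
  .negSucc 4, .ofNat 0, .ofNat 7, .ofNat 0, .negSucc 2, .ofNat 5, .negSucc 4, .negSucc 5, .ofNat 1, .ofNat 3,
  .ofNat 8, .ofNat 3, .ofNat 0, .negSucc 0, .negSucc 2, .negSucc 1, .ofNat 0, .ofNat 0, .ofNat 5, .ofNat 0,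
  .negSucc 1, .ofNat 3, .ofNat 11, .negSucc 0, .ofNat 5, .negSucc 9, .negSucc 0, .ofNat 0, .ofNat 3,
  .negSucc 2, .negSucc 1, .ofNat 0, .ofNat 3, .negSucc 7, .negSucc 4, .negSucc 1, .negSucc 5, .ofNat 4,
  .ofNat 0, .ofNat 5, .ofNat 0, .ofNat 0, .ofNat 0, .negSucc 4, .ofNat 0, .negSucc 1, .ofNat 1, .ofNat 0,
  .ofNat 3, .ofNat 0, .ofNat 0, .ofNat 0, .negSucc 2, .ofNat 0, .ofNat 0, .ofNat 4, .negSucc 5, .ofNat 0,
  .negSucc 2, .negSucc 4, .ofNat 2, .ofNat 1, .ofNat 0, .ofNat 0, .ofNat 0, .ofNat 3, .ofNat 0, .ofNat 0,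
  .negSucc 0, .ofNat 0, .ofNat 0, .ofNat 0, .ofNat 0, .ofNat 8, .ofNat 0, .ofNat 0, .ofNat 0, .ofNat 0,
  .ofNat 0, .ofNat 0, .ofNat 0, .ofNat 0, .ofNat 1, .ofNat 0, .ofNat 0, .ofNat 0, .ofNat 1, .ofNat 0,
  .ofNat 1, .ofNat 0, .ofNat 0, .ofNat 0, .ofNat 0, .ofNat 0, .ofNat 10, .negSucc 7, .negSucc 1, .ofNat 0,
  .negSucc 1, .ofNat 0, .ofNat 1, .ofNat 0, .ofNat 0, .negSucc 5, .ofNat 0, .ofNat 5, .ofNat 1, .negSucc 1,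
  .negSucc 3, .ofNat 0, .ofNat 0, .ofNat 0, .negSucc 2, .ofNat 3, .ofNat 0, .ofNat 1, .ofNat 3, .ofNat 4,
  .negSucc 5, .negSucc 1, .ofNat 0, .ofNat 0, .ofNat 6, .ofNat 0, .ofNat 0, .ofNat 0, .ofNat 0, .ofNat 0,
  .ofNat 0, .ofNat 0, .ofNat 0, .ofNat 0, .negSucc 1, .ofNat 0, .ofNat 0, .ofNat 0, .negSucc 7, .ofNat 3,
  .ofNat 0, .ofNat 0, .ofNat 0, .ofNat 0, .ofNat 0, .ofNat 6, .ofNat 3, .ofNat 0, .negSucc 2, .ofNat 0,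
  .ofNat 0, .ofNat 0, .ofNat 0, .ofNat 0, .ofNat 0, .ofNat 0, .ofNat 0, .ofNat 8, .negSucc 7, .ofNat 2,
  .ofNat 2, .negSucc 5, .ofNat 0, .negSucc 7, .ofNat 4, .ofNat 0, .ofNat 0, .ofNat 0]

/-- the values at 24G -/
def col116 : List ℤ :=
  [.ofNat 1, .ofNat 2, .negSucc 0, .ofNat 0, .ofNat 1, .ofNat 3, .negSucc 2, .ofNat 0, .negSucc 0, .ofNat 3,
  .negSucc 5, .ofNat 1, .negSucc 0, .negSucc 1, .ofNat 2, .ofNat 4, .ofNat 3, .ofNat 1, .ofNat 3, .negSucc 1,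
  .ofNat 2, .negSucc 1, .negSucc 2, .ofNat 2, .ofNat 3, .negSucc 0, .ofNat 1, .ofNat 4, .ofNat 0, .negSucc 2,
  .negSucc 4, .ofNat 4, .ofNat 7, .ofNat 5, .negSucc 1, .ofNat 0, .negSucc 1, .ofNat 0, .ofNat 0, .ofNat 0,
  .ofNat 0, .negSucc 4, .ofNat 4, .negSucc 0, .ofNat 2, .negSucc 1, .ofNat 1, .negSucc 0, .ofNat 2, .ofNat 0,
  .negSucc 2, .ofNat 2, .negSucc 0, .ofNat 2, .ofNat 0, .ofNat 1, .ofNat 1, .ofNat 3, .ofNat 0, .ofNat 0,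
  .negSucc 2, .ofNat 1, .negSucc 1, .ofNat 2, .negSucc 1, .ofNat 0, .negSucc 0, .ofNat 0, .ofNat 0, .ofNat 0,
  .negSucc 3, .negSucc 1, .negSucc 2, .ofNat 3, .negSucc 3, .ofNat 0, .negSucc 0, .ofNat 2, .ofNat 1,
  .ofNat 0, .ofNat 0, .ofNat 3, .negSucc 1, .ofNat 0, .ofNat 0, .ofNat 1, .ofNat 3, .ofNat 0, .ofNat 0,
  .ofNat 0, .ofNat 0, .ofNat 2, .ofNat 1, .negSucc 2, .ofNat 1, .ofNat 4, .ofNat 0, .ofNat 0, .negSucc 1,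
  .ofNat 0, .ofNat 0, .negSucc 2, .ofNat 0, .ofNat 3, .ofNat 4, .ofNat 4, .ofNat 0, .negSucc 1, .ofNat 0,
  .ofNat 1, .ofNat 0, .negSucc 2, .ofNat 3, .negSucc 0, .negSucc 0, .negSucc 2, .negSucc 1, .ofNat 0,
  .negSucc 2, .ofNat 4, .ofNat 0, .negSucc 1, .negSucc 1, .ofNat 0, .ofNat 2, .negSucc 1, .ofNat 0,
  .negSucc 0, .negSucc 0, .ofNat 3, .ofNat 0, .negSucc 0, .ofNat 0, .ofNat 0, .ofNat 0, .ofNat 2, .negSucc 0,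
  .negSucc 2, .ofNat 0, .negSucc 0, .ofNat 3, .ofNat 0, .negSucc 1, .ofNat 0, .negSucc 0, .ofNat 2, .ofNat 0,
  .ofNat 2, .ofNat 0, .ofNat 1, .ofNat 0, .ofNat 0, .ofNat 0, .ofNat 0, .ofNat 2, .negSucc 2, .ofNat 0,
  .ofNat 0, .ofNat 0, .ofNat 0, .ofNat 0, .ofNat 0, .negSucc 1, .ofNat 0, .ofNat 0, .ofNat 2, .negSucc 1,
  .ofNat 0, .ofNat 0, .ofNat 0, .negSucc 3, .ofNat 8, .ofNat 0, .ofNat 0, .ofNat 0]

/-- the values at 24H -/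
def col117 : List ℤ :=
  [.ofNat 1, .ofNat 1, .negSucc 0, .negSucc 0, .ofNat 3, .negSucc 1, .negSucc 0, .ofNat 1, .ofNat 0,
  .negSucc 0, .ofNat 2, .ofNat 1, .negSucc 1, .ofNat 1, .negSucc 0, .negSucc 2, .ofNat 0, .ofNat 3,
  .negSucc 0, .ofNat 0, .negSucc 2, .ofNat 0, .ofNat 1, .negSucc 0, .negSucc 3, .ofNat 0, .ofNat 2,
  .negSucc 0, .ofNat 0, .ofNat 0, .ofNat 1, .ofNat 1, .negSucc 4, .ofNat 5, .ofNat 4, .ofNat 1, .ofNat 0,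
  .ofNat 1, .negSucc 0, .ofNat 2, .negSucc 1, .ofNat 1, .ofNat 0, .negSucc 2, .ofNat 0, .negSucc 1,
  .negSucc 3, .ofNat 4, .negSucc 0, .ofNat 0, .ofNat 0, .ofNat 0, .ofNat 1, .negSucc 3, .negSucc 1, .ofNat 1,
  .ofNat 0, .negSucc 0, .ofNat 0, .ofNat 0, .ofNat 0, .ofNat 1, .ofNat 0, .ofNat 0, .negSucc 1, .ofNat 0,
  .ofNat 0, .ofNat 3, .negSucc 4, .ofNat 2, .ofNat 1, .negSucc 1, .ofNat 0, .ofNat 0, .ofNat 1, .ofNat 0,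
  .ofNat 2, .ofNat 5, .ofNat 0, .ofNat 0, .ofNat 0, .negSucc 1, .ofNat 0, .ofNat 0, .ofNat 0, .negSucc 3,
  .ofNat 2, .ofNat 0, .ofNat 0, .ofNat 0, .ofNat 0, .negSucc 0, .ofNat 0, .ofNat 0, .ofNat 0, .ofNat 3,
  .ofNat 0, .ofNat 1, .ofNat 0, .ofNat 0, .ofNat 0, .ofNat 0, .ofNat 0, .ofNat 2, .ofNat 0, .ofNat 4,
  .ofNat 0, .ofNat 2, .ofNat 0, .negSucc 0, .ofNat 0, .ofNat 0, .ofNat 4, .ofNat 0, .negSucc 0, .negSucc 0,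
  .negSucc 1, .ofNat 0, .ofNat 2, .negSucc 1, .ofNat 0, .negSucc 4, .negSucc 0, .ofNat 0, .ofNat 3,
  .negSucc 2, .ofNat 0, .ofNat 0, .ofNat 4, .ofNat 0, .ofNat 0, .ofNat 2, .ofNat 0, .ofNat 0, .ofNat 2,
  .ofNat 0, .ofNat 0, .negSucc 3, .ofNat 0, .ofNat 0, .ofNat 4, .negSucc 3, .negSucc 1, .ofNat 0, .ofNat 0,
  .ofNat 0, .ofNat 3, .ofNat 0, .ofNat 0, .ofNat 0, .ofNat 0, .ofNat 0, .ofNat 0, .negSucc 2, .ofNat 0,
  .ofNat 1, .ofNat 0, .ofNat 0, .ofNat 0, .ofNat 0, .ofNat 0, .ofNat 0, .ofNat 0, .ofNat 0, .ofNat 0,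
  .ofNat 0, .negSucc 5, .negSucc 1, .ofNat 6, .ofNat 0, .ofNat 0, .ofNat 0, .ofNat 0, .ofNat 0, .ofNat 0]

/-- the values at 24I -/
def col118 : List ℤ :=
  [.ofNat 1, .negSucc 1, .negSucc 0, .ofNat 2, .ofNat 3, .ofNat 1, .negSucc 0, .negSucc 1, .ofNat 3,
  .negSucc 0, .ofNat 2, .ofNat 1, .ofNat 1, .negSucc 1, .ofNat 2, .ofNat 0, .negSucc 2, .negSucc 2,
  .negSucc 0, .ofNat 0, .ofNat 0, .ofNat 0, .ofNat 1, .ofNat 2, .negSucc 0, .negSucc 2, .negSucc 0, .ofNat 2,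
  .ofNat 0, .ofNat 3, .ofNat 1, .ofNat 4, .ofNat 1, .negSucc 0, .negSucc 1, .negSucc 1, .ofNat 0, .negSucc 1,
  .ofNat 2, .ofNat 2, .negSucc 1, .negSucc 4, .ofNat 0, .negSucc 2, .ofNat 0, .ofNat 4, .negSucc 0, .ofNat 1,
  .ofNat 2, .ofNat 0, .ofNat 3, .ofNat 0, .ofNat 1, .ofNat 2, .negSucc 1, .negSucc 4, .ofNat 3, .negSucc 0,
  .ofNat 0, .ofNat 0, .ofNat 3, .ofNat 1, .ofNat 0, .ofNat 0, .negSucc 1, .ofNat 0, .negSucc 2, .ofNat 0,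
  .ofNat 4, .negSucc 3, .ofNat 4, .ofNat 4, .ofNat 3, .negSucc 2, .negSucc 1, .ofNat 0, .negSucc 0, .ofNat 2,
  .ofNat 3, .ofNat 0, .ofNat 0, .ofNat 1, .ofNat 0, .ofNat 0, .ofNat 0, .negSucc 0, .negSucc 0, .ofNat 0,
  .ofNat 0, .ofNat 0, .ofNat 0, .negSucc 3, .negSucc 2, .ofNat 3, .ofNat 3, .ofNat 0, .ofNat 0, .negSucc 1,
  .ofNat 0, .ofNat 0, .ofNat 0, .negSucc 2, .ofNat 0, .negSucc 0, .ofNat 0, .negSucc 1, .ofNat 0, .ofNat 2,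
  .ofNat 0, .negSucc 0, .ofNat 0, .negSucc 2, .ofNat 1, .negSucc 2, .negSucc 0, .negSucc 0, .negSucc 1,
  .ofNat 0, .negSucc 0, .negSucc 1, .ofNat 0, .negSucc 1, .ofNat 2, .ofNat 0, .ofNat 0, .ofNat 0, .ofNat 0,
  .ofNat 3, .ofNat 1, .ofNat 3, .ofNat 0, .negSucc 0, .ofNat 0, .ofNat 0, .ofNat 2, .ofNat 0, .negSucc 2,
  .negSucc 0, .ofNat 0, .ofNat 3, .ofNat 1, .ofNat 2, .negSucc 1, .ofNat 0, .negSucc 2, .ofNat 0, .ofNat 0,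
  .ofNat 0, .ofNat 0, .ofNat 3, .ofNat 0, .ofNat 0, .ofNat 0, .ofNat 0, .ofNat 0, .ofNat 1, .ofNat 0,
  .ofNat 0, .ofNat 0, .ofNat 0, .ofNat 0, .ofNat 0, .ofNat 0, .ofNat 0, .ofNat 0, .ofNat 0, .negSucc 5,
  .ofNat 4, .ofNat 0, .ofNat 0, .ofNat 0, .ofNat 0, .ofNat 0, .ofNat 0, .ofNat 0]

/-- the values at 24J -/
def col119 : List ℤ :=
  [.ofNat 1, .ofNat 1, .negSucc 0, .negSucc 0, .negSucc 0, .ofNat 2, .negSucc 0, .ofNat 1, .ofNat 0,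
  .ofNat 3, .negSucc 1, .ofNat 1, .ofNat 2, .negSucc 2, .negSucc 0, .ofNat 1, .ofNat 0, .negSucc 0,
  .negSucc 0, .ofNat 0, .ofNat 1, .ofNat 0, .negSucc 2, .negSucc 0, .ofNat 0, .ofNat 0, .ofNat 2, .ofNat 3,
  .ofNat 0, .ofNat 0, .ofNat 1, .ofNat 1, .negSucc 0, .ofNat 1, .ofNat 0, .negSucc 2, .ofNat 0, .ofNat 1,
  .negSucc 0, .negSucc 1, .negSucc 1, .ofNat 1, .ofNat 0, .ofNat 1, .ofNat 0, .negSucc 1, .ofNat 0, .ofNat 0,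
  .negSucc 0, .ofNat 0, .ofNat 0, .ofNat 0, .ofNat 1, .ofNat 0, .ofNat 2, .ofNat 1, .ofNat 0, .negSucc 0,
  .ofNat 0, .ofNat 0, .ofNat 0, .ofNat 1, .ofNat 0, .ofNat 0, .negSucc 1, .ofNat 0, .ofNat 0, .negSucc 0,
  .negSucc 0, .negSucc 1, .ofNat 1, .ofNat 2, .ofNat 0, .ofNat 0, .ofNat 1, .ofNat 0, .ofNat 2, .ofNat 1,
  .ofNat 0, .ofNat 0, .ofNat 0, .ofNat 2, .ofNat 0, .ofNat 0, .ofNat 0, .ofNat 0, .negSucc 1, .ofNat 0,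
  .ofNat 0, .ofNat 0, .ofNat 0, .negSucc 0, .ofNat 0, .ofNat 0, .ofNat 0, .negSucc 0, .ofNat 0, .ofNat 1,
  .ofNat 0, .ofNat 0, .ofNat 0, .ofNat 0, .ofNat 0, .negSucc 1, .ofNat 0, .ofNat 0, .ofNat 0, .ofNat 2,
  .ofNat 0, .negSucc 0, .ofNat 0, .ofNat 0, .ofNat 0, .ofNat 0, .negSucc 0, .negSucc 0, .ofNat 2, .ofNat 0,
  .ofNat 2, .negSucc 1, .ofNat 0, .negSucc 0, .negSucc 0, .ofNat 0, .negSucc 0, .ofNat 1, .ofNat 0, .ofNat 0,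
  .ofNat 0, .ofNat 0, .ofNat 0, .ofNat 2, .ofNat 0, .ofNat 0, .ofNat 2, .ofNat 0, .ofNat 0, .ofNat 0,
  .ofNat 0, .ofNat 0, .ofNat 0, .ofNat 0, .ofNat 2, .ofNat 0, .ofNat 0, .ofNat 0, .negSucc 0, .ofNat 0,
  .ofNat 0, .ofNat 0, .ofNat 0, .ofNat 0, .ofNat 0, .negSucc 2, .ofNat 0, .ofNat 1, .ofNat 0, .ofNat 0,
  .ofNat 0, .ofNat 0, .ofNat 0, .ofNat 0, .ofNat 0, .ofNat 0, .ofNat 0, .ofNat 0, .ofNat 2, .negSucc 1,
  .negSucc 1, .ofNat 0, .ofNat 0, .ofNat 0, .ofNat 0, .ofNat 0, .ofNat 0]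

/-- the values at 24K -/
def col120 : List ℤ :=
  [.ofNat 1, .ofNat 1, .ofNat 1, .ofNat 1, .negSucc 0, .ofNat 0, .negSucc 0, .negSucc 0, .ofNat 0,
  .negSucc 0, .ofNat 0, .negSucc 0, .ofNat 0, .ofNat 1, .ofNat 1, .negSucc 0, .negSucc 1, .ofNat 1,
  .negSucc 0, .ofNat 0, .negSucc 0, .ofNat 0, .negSucc 0, .ofNat 1, .ofNat 2, .ofNat 0, .ofNat 0, .ofNat 1,
  .ofNat 0, .ofNat 2, .negSucc 0, .negSucc 0, .negSucc 0, .ofNat 1, .ofNat 2, .negSucc 0, .ofNat 0,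
  .negSucc 0, .negSucc 2, .ofNat 2, .ofNat 0, .negSucc 0, .ofNat 0, .negSucc 0, .ofNat 2, .negSucc 1,
  .ofNat 0, .ofNat 0, .ofNat 1, .ofNat 0, .ofNat 0, .ofNat 0, .negSucc 0, .ofNat 0, .ofNat 2, .ofNat 1,
  .ofNat 0, .negSucc 0, .ofNat 0, .ofNat 0, .ofNat 0, .ofNat 1, .ofNat 0, .ofNat 0, .ofNat 0, .ofNat 2,
  .ofNat 0, .ofNat 1, .negSucc 0, .negSucc 1, .ofNat 1, .ofNat 0, .ofNat 0, .ofNat 0, .negSucc 0, .ofNat 0,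
  .ofNat 0, .negSucc 0, .ofNat 0, .ofNat 0, .ofNat 0, .ofNat 0, .ofNat 0, .ofNat 0, .ofNat 0, .ofNat 0,
  .ofNat 0, .ofNat 0, .ofNat 0, .ofNat 0, .ofNat 0, .ofNat 1, .ofNat 0, .ofNat 0, .ofNat 0, .ofNat 1,
  .ofNat 0, .negSucc 2, .ofNat 0, .ofNat 0, .ofNat 0, .ofNat 0, .ofNat 0, .negSucc 1, .ofNat 0, .ofNat 2,
  .ofNat 0, .negSucc 1, .ofNat 0, .ofNat 1, .ofNat 0, .ofNat 0, .negSucc 1, .ofNat 0, .ofNat 1, .ofNat 1,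
  .ofNat 2, .ofNat 0, .ofNat 0, .ofNat 0, .ofNat 0, .ofNat 1, .negSucc 0, .ofNat 0, .ofNat 1, .ofNat 3,
  .ofNat 0, .negSucc 1, .negSucc 1, .ofNat 0, .ofNat 0, .ofNat 2, .ofNat 0, .ofNat 0, .ofNat 0, .ofNat 0,
  .ofNat 0, .ofNat 0, .ofNat 0, .ofNat 0, .ofNat 0, .ofNat 2, .ofNat 0, .ofNat 0, .ofNat 0, .ofNat 0,
  .negSucc 0, .ofNat 0, .ofNat 0, .ofNat 0, .ofNat 0, .ofNat 0, .ofNat 2, .negSucc 0, .ofNat 0, .negSucc 2,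
  .ofNat 0, .ofNat 0, .ofNat 0, .ofNat 0, .ofNat 0, .ofNat 0, .ofNat 0, .ofNat 0, .ofNat 0, .ofNat 0,
  .negSucc 5, .ofNat 2, .ofNat 2, .ofNat 0, .ofNat 0, .negSucc 3, .ofNat 0, .ofNat 0, .ofNat 0]

/-- the values at 24L -/
def col121 : List ℤ :=
  [.ofNat 1, .ofNat 0, .ofNat 1, .negSucc 1, .negSucc 0, .negSucc 0, .ofNat 1, .ofNat 0, .ofNat 1,
  .negSucc 0, .ofNat 0, .ofNat 1, .ofNat 1, .ofNat 0, .ofNat 2, .ofNat 2, .negSucc 0, .negSucc 0, .ofNat 1,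
  .ofNat 0, .ofNat 0, .ofNat 0, .ofNat 3, .ofNat 2, .negSucc 0, .negSucc 0, .ofNat 1, .negSucc 1, .ofNat 0,
  .negSucc 0, .negSucc 0, .ofNat 0, .negSucc 0, .negSucc 0, .negSucc 1, .ofNat 0, .ofNat 0, .negSucc 1,
  .ofNat 0, .negSucc 1, .ofNat 0, .negSucc 0, .ofNat 0, .ofNat 3, .ofNat 0, .ofNat 0, .negSucc 0, .negSucc 0,
  .ofNat 2, .ofNat 0, .negSucc 0, .ofNat 0, .ofNat 1, .ofNat 2, .negSucc 1, .ofNat 1, .negSucc 0, .ofNat 1,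
  .ofNat 0, .ofNat 0, .ofNat 1, .negSucc 0, .ofNat 0, .ofNat 0, .ofNat 2, .ofNat 0, .negSucc 0, .ofNat 0,
  .ofNat 0, .ofNat 0, .ofNat 0, .ofNat 0, .ofNat 1, .negSucc 0, .ofNat 0, .ofNat 0, .ofNat 1, .ofNat 2,
  .negSucc 0, .ofNat 0, .ofNat 0, .ofNat 1, .ofNat 0, .ofNat 0, .ofNat 0, .ofNat 1, .negSucc 0, .ofNat 0,
  .ofNat 0, .ofNat 0, .ofNat 0, .ofNat 0, .ofNat 1, .negSucc 0, .ofNat 1, .ofNat 2, .ofNat 0, .negSucc 1,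
  .ofNat 0, .ofNat 0, .ofNat 0, .ofNat 1, .ofNat 0, .negSucc 0, .ofNat 0, .ofNat 2, .ofNat 0, .negSucc 1,
  .ofNat 0, .ofNat 1, .ofNat 0, .ofNat 1, .negSucc 0, .negSucc 0, .negSucc 0, .negSucc 0, .ofNat 2, .ofNat 2,
  .negSucc 0, .negSucc 1, .ofNat 0, .negSucc 1, .negSucc 1, .ofNat 0, .negSucc 1, .negSucc 1, .ofNat 0,
  .negSucc 0, .ofNat 1, .negSucc 0, .ofNat 0, .ofNat 3, .ofNat 0, .ofNat 0, .ofNat 0, .ofNat 0, .negSucc 0,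
  .ofNat 1, .ofNat 0, .negSucc 0, .ofNat 1, .negSucc 1, .ofNat 2, .ofNat 0, .ofNat 1, .ofNat 0, .ofNat 0,
  .ofNat 0, .ofNat 0, .ofNat 1, .ofNat 0, .ofNat 0, .ofNat 0, .ofNat 0, .ofNat 0, .ofNat 1, .ofNat 0,
  .ofNat 0, .ofNat 0, .ofNat 0, .ofNat 0, .ofNat 0, .ofNat 0, .ofNat 0, .ofNat 0, .ofNat 0, .negSucc 1,
  .ofNat 0, .ofNat 0, .ofNat 0, .ofNat 0, .ofNat 0, .ofNat 0, .ofNat 0, .ofNat 0]

/-- the values at 24M -/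
def col122 : List ℤ :=
  [.ofNat 1, .negSucc 0, .negSucc 0, .ofNat 1, .ofNat 1, .ofNat 0, .ofNat 1, .ofNat 1, .ofNat 0, .negSucc 0,
  .ofNat 0, .negSucc 0, .ofNat 0, .negSucc 0, .negSucc 0, .ofNat 1, .ofNat 0, .negSucc 0, .ofNat 1, .ofNat 0,
  .negSucc 0, .ofNat 0, .ofNat 1, .negSucc 0, .ofNat 2, .ofNat 0, .ofNat 2, .negSucc 0, .ofNat 0, .ofNat 0,
  .negSucc 0, .negSucc 0, .negSucc 0, .ofNat 1, .ofNat 0, .ofNat 1, .ofNat 0, .ofNat 1, .ofNat 1, .ofNat 0,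
  .ofNat 0, .negSucc 0, .ofNat 0, .ofNat 1, .ofNat 0, .ofNat 0, .ofNat 2, .ofNat 0, .negSucc 0, .ofNat 2,
  .ofNat 0, .ofNat 0, .negSucc 0, .ofNat 0, .ofNat 0, .ofNat 1, .ofNat 0, .ofNat 1, .ofNat 0, .ofNat 0,
  .ofNat 0, .negSucc 0, .ofNat 0, .ofNat 0, .ofNat 0, .ofNat 0, .ofNat 0, .ofNat 1, .negSucc 0, .ofNat 0,
  .negSucc 0, .ofNat 0, .ofNat 0, .ofNat 0, .negSucc 0, .ofNat 0, .negSucc 1, .ofNat 1, .ofNat 0, .ofNat 0,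
  .ofNat 0, .ofNat 0, .ofNat 0, .ofNat 0, .ofNat 0, .ofNat 0, .negSucc 1, .ofNat 0, .negSucc 1, .ofNat 0,
  .ofNat 0, .negSucc 0, .ofNat 0, .ofNat 0, .ofNat 0, .negSucc 0, .ofNat 0, .ofNat 1, .ofNat 0, .ofNat 0,
  .ofNat 0, .ofNat 0, .ofNat 0, .ofNat 0, .ofNat 0, .ofNat 0, .ofNat 0, .ofNat 0, .ofNat 0, .negSucc 0,
  .ofNat 0, .ofNat 0, .ofNat 0, .ofNat 0, .ofNat 1, .ofNat 1, .ofNat 0, .ofNat 0, .ofNat 0, .ofNat 0,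
  .ofNat 0, .negSucc 0, .ofNat 1, .ofNat 0, .negSucc 0, .ofNat 1, .ofNat 0, .ofNat 0, .ofNat 0, .ofNat 0,
  .ofNat 0, .ofNat 0, .ofNat 0, .ofNat 0, .ofNat 2, .ofNat 0, .ofNat 0, .ofNat 0, .negSucc 1, .ofNat 0,
  .ofNat 0, .ofNat 0, .ofNat 0, .ofNat 2, .ofNat 0, .ofNat 0, .ofNat 1, .ofNat 0, .ofNat 0, .ofNat 0,
  .ofNat 0, .ofNat 0, .ofNat 0, .negSucc 0, .ofNat 0, .negSucc 0, .ofNat 0, .ofNat 0, .ofNat 0, .ofNat 0,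
  .ofNat 0, .ofNat 0, .ofNat 0, .ofNat 0, .ofNat 0, .ofNat 0, .negSucc 1, .ofNat 2, .negSucc 1, .ofNat 0,
  .ofNat 0, .ofNat 0, .ofNat 0, .ofNat 0, .ofNat 0]

/-- the values at 24N -/
def col123 : List ℤ :=
  [.ofNat 1, .negSucc 0, .ofNat 1, .ofNat 1, .ofNat 1, .negSucc 1, .negSucc 0, .ofNat 1, .ofNat 0, .ofNat 1,
  .ofNat 0, .negSucc 0, .ofNat 0, .negSucc 0, .negSucc 0, .ofNat 1, .ofNat 0, .ofNat 1, .ofNat 1, .ofNat 0,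
  .ofNat 1, .ofNat 0, .negSucc 0, .negSucc 0, .ofNat 0, .ofNat 0, .ofNat 0, .negSucc 0, .ofNat 0, .ofNat 0,
  .ofNat 1, .ofNat 1, .negSucc 0, .negSucc 0, .ofNat 0, .negSucc 0, .ofNat 0, .ofNat 1, .ofNat 1, .ofNat 0,
  .ofNat 0, .ofNat 1, .ofNat 0, .ofNat 1, .ofNat 0, .ofNat 0, .negSucc 1, .ofNat 0, .negSucc 0, .ofNat 0,
  .ofNat 0, .ofNat 0, .ofNat 1, .ofNat 0, .ofNat 0, .ofNat 1, .ofNat 0, .ofNat 1, .ofNat 0, .ofNat 0,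
  .ofNat 0, .negSucc 0, .ofNat 0, .ofNat 0, .negSucc 1, .ofNat 2, .ofNat 0, .negSucc 0, .ofNat 1, .ofNat 0,
  .ofNat 1, .ofNat 0, .ofNat 0, .ofNat 0, .ofNat 1, .ofNat 0, .ofNat 0, .negSucc 0, .ofNat 0, .ofNat 0,
  .ofNat 0, .ofNat 0, .ofNat 0, .ofNat 0, .ofNat 0, .ofNat 0, .ofNat 0, .ofNat 0, .ofNat 0, .ofNat 0,
  .ofNat 0, .ofNat 1, .ofNat 0, .ofNat 0, .ofNat 0, .ofNat 1, .ofNat 0, .negSucc 0, .ofNat 0, .ofNat 0,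
  .ofNat 0, .ofNat 0, .ofNat 0, .ofNat 0, .ofNat 0, .ofNat 0, .ofNat 0, .negSucc 1, .ofNat 0, .ofNat 1,
  .ofNat 0, .ofNat 0, .ofNat 0, .ofNat 0, .negSucc 0, .ofNat 1, .ofNat 0, .negSucc 1, .ofNat 0, .ofNat 0,
  .ofNat 0, .negSucc 0, .ofNat 1, .ofNat 0, .ofNat 1, .negSucc 0, .negSucc 1, .ofNat 0, .negSucc 1, .ofNat 0,
  .ofNat 0, .ofNat 0, .ofNat 0, .ofNat 0, .ofNat 0, .ofNat 0, .ofNat 0, .ofNat 0, .ofNat 0, .ofNat 0,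
  .ofNat 0, .ofNat 0, .ofNat 0, .ofNat 0, .ofNat 0, .ofNat 0, .ofNat 1, .ofNat 0, .ofNat 0, .ofNat 0,
  .ofNat 0, .ofNat 0, .ofNat 0, .ofNat 1, .ofNat 0, .ofNat 1, .ofNat 0, .ofNat 0, .ofNat 0, .ofNat 0,
  .ofNat 0, .ofNat 0, .ofNat 0, .ofNat 0, .ofNat 0, .ofNat 0, .negSucc 1, .ofNat 2, .negSucc 1, .ofNat 0,
  .negSucc 3, .ofNat 0, .ofNat 0, .ofNat 0, .ofNat 0]

/-- the values at 25A -/
def col124 : List ℤ :=
  [.ofNat 1, .ofNat 1, .ofNat 0, .negSucc 0, .ofNat 0, .ofNat 0, .ofNat 0, .negSucc 0, .ofNat 0, .ofNat 0,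
  .ofNat 1, .ofNat 0, .ofNat 0, .ofNat 0, .negSucc 0, .ofNat 0, .negSucc 0, .ofNat 0, .ofNat 1, .ofNat 0,
  .ofNat 0, .ofNat 0, .ofNat 0, .ofNat 0, .ofNat 0, .ofNat 1, .ofNat 0, .ofNat 0, .ofNat 1, .ofNat 0,
  .ofNat 0, .ofNat 0, .ofNat 1, .ofNat 0, .ofNat 0, .ofNat 0, .ofNat 0, .ofNat 0, .ofNat 0, .ofNat 0,
  .ofNat 0, .ofNat 0, .ofNat 0, .ofNat 0, .ofNat 0, .ofNat 0, .ofNat 0, .ofNat 0, .negSucc 0, .ofNat 0,
  .ofNat 0, .ofNat 0, .ofNat 0, .ofNat 0, .ofNat 0, .ofNat 0, .ofNat 0, .ofNat 0, .ofNat 0, .ofNat 0,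
  .negSucc 0, .ofNat 0, .ofNat 0, .ofNat 0, .ofNat 0, .ofNat 0, .ofNat 0, .ofNat 0, .ofNat 0, .ofNat 0,
  .ofNat 0, .ofNat 0, .ofNat 0, .negSucc 0, .ofNat 0, .ofNat 0, .ofNat 0, .ofNat 0, .ofNat 0, .ofNat 0,
  .ofNat 0, .ofNat 0, .ofNat 0, .ofNat 0, .ofNat 0, .ofNat 0, .ofNat 0, .ofNat 0, .ofNat 0, .ofNat 0,
  .ofNat 0, .ofNat 0, .ofNat 0, .ofNat 0, .ofNat 0, .ofNat 0, .ofNat 0, .ofNat 0, .ofNat 0, .ofNat 0,
  .negSucc 0, .ofNat 0, .ofNat 0, .ofNat 0, .ofNat 0, .ofNat 0, .ofNat 1, .ofNat 0, .ofNat 0, .ofNat 0,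
  .ofNat 0, .ofNat 0, .ofNat 0, .ofNat 0, .ofNat 0, .ofNat 0, .ofNat 0, .ofNat 0, .ofNat 0, .ofNat 0,
  .ofNat 1, .ofNat 0, .ofNat 0, .ofNat 0, .ofNat 0, .ofNat 0, .ofNat 0, .ofNat 0, .ofNat 0, .ofNat 0,
  .negSucc 0, .ofNat 0, .ofNat 1, .ofNat 1, .ofNat 0, .ofNat 0, .ofNat 0, .ofNat 0, .ofNat 0, .ofNat 0,
  .ofNat 0, .ofNat 0, .ofNat 0, .ofNat 0, .ofNat 0, .ofNat 0, .ofNat 0, .ofNat 0, .ofNat 0, .ofNat 1,
  .negSucc 0, .negSucc 0, .ofNat 0, .ofNat 0, .ofNat 0, .ofNat 0, .ofNat 0, .ofNat 0, .ofNat 0, .ofNat 0,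
  .ofNat 0, .ofNat 0, .ofNat 0, .ofNat 0, .ofNat 0, .ofNat 0, .ofNat 0, .ofNat 0, .ofNat 0, .ofNat 2,
  .ofNat 0, .ofNat 0, .ofNat 0, .ofNat 0, .ofNat 0]

/-- the values at 26A -/
def col125 : List ℤ :=
  [.ofNat 1, .negSucc 0, .negSucc 0, .ofNat 2, .ofNat 2, .negSucc 0, .negSucc 0, .ofNat 0, .ofNat 1,
  .ofNat 0, .ofNat 1, .ofNat 0, .ofNat 0, .ofNat 0, .ofNat 0, .ofNat 1, .ofNat 0, .negSucc 0, .ofNat 0,
  .negSucc 1, .ofNat 0, .ofNat 0, .ofNat 0, .ofNat 1, .negSucc 0, .negSucc 1, .ofNat 1, .ofNat 1, .ofNat 2,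
  .ofNat 0, .negSucc 0, .ofNat 0, .ofNat 0, .ofNat 0, .ofNat 0, .negSucc 0, .ofNat 0, .ofNat 0, .ofNat 0,
  .ofNat 0, .ofNat 0, .ofNat 1, .ofNat 0, .ofNat 0, .ofNat 0, .ofNat 0, .ofNat 0, .ofNat 0, .ofNat 0,
  .ofNat 0, .ofNat 1, .negSucc 0, .ofNat 0, .ofNat 0, .ofNat 0, .ofNat 0, .ofNat 0, .ofNat 0, .negSucc 1,
  .ofNat 1, .ofNat 0, .negSucc 0, .ofNat 2, .negSucc 0, .ofNat 0, .ofNat 0, .ofNat 1, .ofNat 0, .ofNat 0,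
  .ofNat 0, .negSucc 0, .ofNat 0, .negSucc 0, .negSucc 0, .ofNat 0, .ofNat 0, .ofNat 0, .ofNat 0, .ofNat 0,
  .ofNat 1, .ofNat 1, .ofNat 0, .ofNat 0, .ofNat 1, .negSucc 0, .ofNat 0, .ofNat 1, .negSucc 1, .ofNat 0,
  .ofNat 0, .ofNat 0, .ofNat 1, .ofNat 2, .ofNat 0, .ofNat 0, .ofNat 0, .negSucc 0, .ofNat 0, .ofNat 0,
  .ofNat 0, .ofNat 0, .ofNat 0, .negSucc 0, .ofNat 0, .ofNat 0, .ofNat 0, .ofNat 2, .ofNat 0, .ofNat 0,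
  .ofNat 0, .negSucc 0, .ofNat 0, .negSucc 1, .ofNat 1, .ofNat 0, .ofNat 0, .ofNat 0, .ofNat 0, .ofNat 1,
  .ofNat 0, .ofNat 0, .ofNat 0, .ofNat 0, .negSucc 0, .ofNat 0, .ofNat 0, .ofNat 0, .ofNat 0, .ofNat 0,
  .ofNat 0, .ofNat 0, .ofNat 0, .ofNat 0, .ofNat 0, .ofNat 0, .ofNat 1, .ofNat 0, .ofNat 0, .ofNat 0,
  .ofNat 0, .ofNat 0, .ofNat 0, .ofNat 0, .ofNat 0, .negSucc 0, .ofNat 0, .ofNat 0, .ofNat 1, .negSucc 0,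
  .ofNat 0, .ofNat 1, .ofNat 1, .ofNat 0, .ofNat 1, .ofNat 0, .negSucc 0, .negSucc 0, .ofNat 0, .ofNat 0,
  .negSucc 0, .negSucc 0, .ofNat 0, .ofNat 0, .ofNat 0, .ofNat 0, .ofNat 0, .ofNat 0, .negSucc 3, .ofNat 0,
  .ofNat 0, .ofNat 2, .ofNat 0, .ofNat 0, .ofNat 2, .ofNat 0]

/-- the values at 26B -/
def col126 : List ℤ :=
  [.ofNat 1, .ofNat 1, .ofNat 1, .ofNat 0, .ofNat 0, .negSucc 0, .negSucc 0, .ofNat 0, .ofNat 1, .ofNat 0,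
  .negSucc 0, .ofNat 0, .ofNat 0, .ofNat 0, .ofNat 0, .negSucc 0, .ofNat 0, .negSucc 0, .ofNat 0, .ofNat 0,
  .ofNat 0, .ofNat 0, .ofNat 0, .negSucc 0, .ofNat 1, .ofNat 0, .ofNat 1, .ofNat 1, .ofNat 0, .ofNat 0,
  .negSucc 0, .ofNat 0, .ofNat 0, .ofNat 0, .ofNat 0, .ofNat 1, .ofNat 0, .ofNat 0, .ofNat 0, .ofNat 0,
  .ofNat 0, .ofNat 1, .ofNat 0, .ofNat 0, .ofNat 0, .ofNat 0, .ofNat 0, .ofNat 0, .ofNat 0, .ofNat 0,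
  .negSucc 0, .negSucc 0, .ofNat 0, .ofNat 0, .ofNat 0, .ofNat 0, .ofNat 0, .ofNat 0, .ofNat 0, .negSucc 0,
  .ofNat 0, .negSucc 0, .ofNat 0, .negSucc 0, .ofNat 0, .ofNat 0, .ofNat 1, .ofNat 0, .ofNat 0, .ofNat 0,
  .ofNat 1, .ofNat 0, .ofNat 1, .ofNat 1, .ofNat 0, .ofNat 0, .ofNat 0, .ofNat 0, .ofNat 0, .negSucc 0,
  .ofNat 1, .ofNat 0, .ofNat 0, .ofNat 1, .negSucc 0, .ofNat 0, .ofNat 1, .ofNat 0, .ofNat 0, .ofNat 0,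
  .ofNat 0, .negSucc 0, .ofNat 0, .ofNat 0, .ofNat 0, .ofNat 0, .ofNat 1, .ofNat 0, .ofNat 0, .ofNat 0,
  .ofNat 0, .ofNat 0, .negSucc 0, .ofNat 0, .ofNat 0, .ofNat 0, .ofNat 0, .ofNat 0, .ofNat 0, .ofNat 0,
  .ofNat 1, .ofNat 0, .ofNat 0, .negSucc 0, .ofNat 0, .ofNat 0, .ofNat 0, .ofNat 0, .negSucc 0, .ofNat 0,
  .ofNat 0, .ofNat 0, .ofNat 0, .negSucc 0, .ofNat 0, .ofNat 0, .ofNat 0, .ofNat 0, .ofNat 0, .ofNat 0,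
  .ofNat 0, .ofNat 0, .ofNat 0, .ofNat 0, .ofNat 0, .ofNat 1, .ofNat 0, .ofNat 0, .ofNat 0, .ofNat 0,
  .ofNat 0, .ofNat 0, .ofNat 0, .ofNat 0, .negSucc 0, .ofNat 0, .ofNat 0, .negSucc 0, .ofNat 1, .ofNat 0,
  .ofNat 1, .negSucc 0, .ofNat 0, .ofNat 1, .ofNat 0, .ofNat 1, .ofNat 1, .ofNat 0, .ofNat 0, .ofNat 1,
  .negSucc 0, .ofNat 0, .ofNat 0, .ofNat 0, .ofNat 0, .ofNat 0, .ofNat 0, .ofNat 0, .ofNat 0, .ofNat 0,
  .ofNat 2, .ofNat 0, .ofNat 0, .negSucc 1, .ofNat 0]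

/-- the values at 27A -/
def col127 : List ℤ :=
  [.ofNat 1, .ofNat 0, .ofNat 0, .ofNat 1, .negSucc 0, .ofNat 0, .ofNat 0, .ofNat 0, .negSucc 0, .negSucc 0,
  .ofNat 0, .ofNat 0, .ofNat 0, .ofNat 0, .ofNat 0, .ofNat 0, .ofNat 0, .ofNat 1, .ofNat 1, .ofNat 0,
  .ofNat 1, .ofNat 0, .ofNat 0, .ofNat 0, .ofNat 0, .ofNat 0, .ofNat 0, .ofNat 0, .ofNat 0, .ofNat 0,
  .ofNat 0, .negSucc 0, .ofNat 0, .ofNat 0, .ofNat 0, .ofNat 0, .ofNat 0, .ofNat 0, .negSucc 0, .ofNat 0,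
  .ofNat 0, .ofNat 0, .ofNat 0, .ofNat 0, .ofNat 0, .ofNat 0, .ofNat 0, .ofNat 0, .ofNat 0, .ofNat 1,
  .ofNat 0, .ofNat 0, .ofNat 0, .ofNat 0, .ofNat 0, .ofNat 0, .ofNat 0, .ofNat 0, .negSucc 0, .ofNat 0,
  .ofNat 0, .ofNat 0, .ofNat 0, .ofNat 0, .ofNat 0, .ofNat 0, .ofNat 0, .ofNat 0, .ofNat 0, .ofNat 0,
  .ofNat 1, .ofNat 1, .ofNat 0, .ofNat 0, .ofNat 0, .ofNat 0, .ofNat 0, .ofNat 0, .ofNat 0, .ofNat 0,
  .ofNat 0, .ofNat 0, .ofNat 0, .ofNat 0, .ofNat 0, .ofNat 0, .ofNat 0, .ofNat 0, .ofNat 0, .ofNat 0,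
  .negSucc 0, .ofNat 0, .ofNat 0, .ofNat 0, .ofNat 0, .ofNat 0, .ofNat 0, .ofNat 0, .ofNat 0, .ofNat 0,
  .negSucc 0, .ofNat 0, .ofNat 0, .ofNat 0, .ofNat 0, .ofNat 0, .negSucc 0, .ofNat 0, .ofNat 0, .ofNat 0,
  .ofNat 0, .ofNat 0, .ofNat 0, .ofNat 0, .ofNat 0, .ofNat 0, .ofNat 0, .ofNat 0, .ofNat 0, .ofNat 0,
  .ofNat 0, .ofNat 0, .ofNat 0, .ofNat 0, .ofNat 0, .ofNat 0, .ofNat 0, .ofNat 1, .ofNat 1, .ofNat 0,
  .negSucc 0, .ofNat 0, .ofNat 0, .ofNat 0, .ofNat 0, .ofNat 0, .ofNat 0, .ofNat 0, .ofNat 1, .ofNat 0,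
  .ofNat 0, .ofNat 0, .ofNat 0, .ofNat 0, .ofNat 0, .ofNat 0, .ofNat 0, .ofNat 0, .ofNat 0, .ofNat 0,
  .ofNat 1, .ofNat 1, .ofNat 0, .ofNat 0, .ofNat 0, .ofNat 0, .ofNat 0, .ofNat 0, .ofNat 0, .ofNat 0,
  .ofNat 0, .ofNat 0, .ofNat 0, .ofNat 0, .ofNat 0, .ofNat 0, .ofNat 0, .ofNat 0, .ofNat 0, .ofNat 0,
  .ofNat 0, .ofNat 2, .ofNat 0, .ofNat 0, .negSucc 1]

/-- the values at 28A -/
def col128 : List ℤ :=
  [.ofNat 1, .ofNat 2, .negSucc 0, .negSucc 1, .ofNat 3, .ofNat 1, .ofNat 1, .negSucc 1, .negSucc 2,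
  .ofNat 0, .ofNat 3, .negSucc 2, .ofNat 1, .negSucc 1, .ofNat 1, .ofNat 0, .ofNat 2, .ofNat 4, .ofNat 0,
  .ofNat 0, .negSucc 1, .ofNat 1, .negSucc 1, .ofNat 3, .ofNat 3, .negSucc 1, .negSucc 0, .ofNat 1,
  .negSucc 2, .ofNat 0, .ofNat 0, .ofNat 3, .ofNat 0, .negSucc 0, .ofNat 0, .negSucc 1, .ofNat 1, .ofNat 0,
  .negSucc 2, .ofNat 0, .ofNat 0, .ofNat 0, .negSucc 2, .ofNat 0, .ofNat 0, .ofNat 3, .negSucc 2, .ofNat 0,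
  .ofNat 0, .ofNat 0, .negSucc 1, .ofNat 0, .ofNat 0, .negSucc 1, .ofNat 1, .ofNat 2, .ofNat 0, .ofNat 0,
  .ofNat 0, .ofNat 0, .ofNat 2, .negSucc 0, .negSucc 2, .negSucc 2, .ofNat 4, .ofNat 0, .ofNat 0, .ofNat 0,
  .ofNat 0, .ofNat 0, .ofNat 0, .negSucc 0, .negSucc 1, .ofNat 0, .ofNat 0, .ofNat 0, .ofNat 0, .ofNat 3,
  .negSucc 0, .ofNat 0, .ofNat 0, .ofNat 2, .ofNat 0, .ofNat 0, .ofNat 1, .ofNat 0, .ofNat 0, .negSucc 1,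
  .ofNat 0, .ofNat 2, .negSucc 1, .ofNat 0, .ofNat 3, .ofNat 2, .negSucc 1, .ofNat 0, .ofNat 3, .ofNat 3,
  .ofNat 1, .negSucc 1, .ofNat 0, .ofNat 0, .ofNat 0, .ofNat 0, .ofNat 1, .negSucc 1, .ofNat 0, .ofNat 0,
  .ofNat 0, .ofNat 0, .negSucc 2, .negSucc 0, .ofNat 2, .negSucc 2, .ofNat 0, .ofNat 0, .ofNat 0, .ofNat 0,
  .negSucc 0, .ofNat 0, .ofNat 0, .ofNat 2, .ofNat 2, .ofNat 0, .negSucc 3, .ofNat 0, .negSucc 0, .ofNat 0,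
  .ofNat 0, .negSucc 0, .ofNat 0, .ofNat 0, .ofNat 0, .ofNat 0, .negSucc 1, .ofNat 1, .ofNat 3, .ofNat 0,
  .ofNat 2, .ofNat 0, .negSucc 1, .ofNat 0, .ofNat 3, .ofNat 2, .negSucc 3, .ofNat 0, .ofNat 2, .ofNat 0,
  .ofNat 0, .ofNat 0, .ofNat 0, .ofNat 0, .negSucc 1, .ofNat 0, .negSucc 1, .ofNat 0, .ofNat 0, .negSucc 1,
  .ofNat 0, .ofNat 0, .ofNat 0, .ofNat 0, .negSucc 2, .ofNat 2, .ofNat 0, .ofNat 0, .negSucc 3, .ofNat 0,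
  .ofNat 0, .ofNat 0, .ofNat 0, .ofNat 0, .ofNat 2, .ofNat 0, .ofNat 4]

/-- the values at 28B -/
def col129 : List ℤ :=
  [.ofNat 1, .negSucc 1, .negSucc 0, .ofNat 2, .ofNat 3, .ofNat 1, .ofNat 1, .negSucc 1, .ofNat 1, .ofNat 0,
  .negSucc 0, .ofNat 1, .ofNat 1, .negSucc 1, .ofNat 1, .ofNat 0, .negSucc 1, .negSucc 3, .ofNat 0, .ofNat 0,
  .negSucc 1, .ofNat 1, .ofNat 2, .ofNat 3, .ofNat 3, .negSucc 1, .ofNat 3, .ofNat 1, .ofNat 1, .ofNat 0,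
  .ofNat 0, .negSucc 0, .ofNat 0, .negSucc 0, .ofNat 0, .ofNat 2, .ofNat 1, .ofNat 0, .negSucc 2, .ofNat 0,
  .ofNat 0, .ofNat 0, .negSucc 2, .ofNat 0, .ofNat 0, .ofNat 3, .negSucc 2, .ofNat 0, .ofNat 0, .ofNat 0,
  .ofNat 2, .ofNat 0, .ofNat 0, .negSucc 1, .negSucc 2, .ofNat 2, .negSucc 3, .ofNat 0, .ofNat 0, .ofNat 0,
  .negSucc 1, .ofNat 3, .negSucc 2, .ofNat 1, .negSucc 3, .ofNat 0, .ofNat 0, .ofNat 0, .ofNat 0, .ofNat 0,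
  .ofNat 0, .negSucc 0, .ofNat 2, .ofNat 0, .ofNat 0, .ofNat 0, .ofNat 0, .negSucc 4, .ofNat 3, .ofNat 0,
  .ofNat 0, .negSucc 1, .ofNat 0, .ofNat 0, .ofNat 1, .ofNat 0, .ofNat 0, .ofNat 2, .ofNat 0, .ofNat 2,
  .ofNat 2, .ofNat 0, .negSucc 0, .negSucc 1, .ofNat 2, .ofNat 0, .ofNat 3, .ofNat 3, .ofNat 1, .ofNat 2,
  .ofNat 0, .ofNat 0, .ofNat 0, .ofNat 0, .ofNat 1, .ofNat 2, .ofNat 0, .ofNat 0, .ofNat 0, .ofNat 0,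
  .negSucc 2, .negSucc 0, .ofNat 2, .ofNat 1, .ofNat 0, .ofNat 0, .ofNat 0, .ofNat 0, .negSucc 0, .ofNat 0,
  .ofNat 0, .negSucc 1, .negSucc 1, .ofNat 0, .ofNat 4, .ofNat 0, .negSucc 0, .ofNat 0, .ofNat 0, .negSucc 0,
  .ofNat 0, .ofNat 0, .ofNat 0, .ofNat 0, .negSucc 1, .ofNat 1, .ofNat 3, .ofNat 0, .ofNat 2, .ofNat 0,
  .negSucc 1, .ofNat 0, .ofNat 3, .ofNat 2, .ofNat 4, .ofNat 0, .negSucc 1, .ofNat 0, .ofNat 0, .ofNat 0,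
  .ofNat 0, .ofNat 0, .ofNat 2, .ofNat 0, .negSucc 1, .ofNat 0, .ofNat 0, .negSucc 1, .ofNat 0, .ofNat 0,
  .ofNat 0, .ofNat 0, .negSucc 2, .ofNat 2, .ofNat 0, .ofNat 0, .ofNat 4, .ofNat 0, .ofNat 0, .ofNat 0,
  .ofNat 0, .ofNat 0, .ofNat 2, .ofNat 0, .negSucc 3]

/-- the values at 28C -/
def col130 : List ℤ :=
  [.ofNat 1, .ofNat 0, .ofNat 1, .ofNat 2, .negSucc 0, .negSucc 0, .negSucc 0, .ofNat 0, .negSucc 0,
  .ofNat 0, .ofNat 1, .negSucc 2, .ofNat 1, .ofNat 0, .ofNat 1, .ofNat 0, .ofNat 2, .ofNat 0, .ofNat 0,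
  .ofNat 2, .ofNat 0, .negSucc 0, .ofNat 2, .ofNat 1, .ofNat 1, .ofNat 0, .ofNat 1, .negSucc 0, .negSucc 0,
  .ofNat 0, .ofNat 0, .ofNat 1, .ofNat 0, .ofNat 1, .ofNat 0, .ofNat 0, .negSucc 2, .ofNat 0, .ofNat 1,
  .ofNat 0, .ofNat 0, .ofNat 0, .negSucc 0, .ofNat 0, .negSucc 1, .negSucc 0, .negSucc 0, .negSucc 1,
  .ofNat 0, .ofNat 0, .ofNat 0, .ofNat 0, .ofNat 0, .ofNat 0, .negSucc 2, .ofNat 0, .ofNat 0, .ofNat 0,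
  .ofNat 0, .ofNat 0, .ofNat 0, .ofNat 3, .ofNat 1, .negSucc 0, .negSucc 1, .ofNat 0, .negSucc 1, .ofNat 0,
  .ofNat 0, .ofNat 0, .ofNat 0, .negSucc 0, .ofNat 0, .ofNat 0, .ofNat 0, .negSucc 1, .ofNat 0, .ofNat 1,
  .ofNat 1, .negSucc 1, .ofNat 2, .ofNat 4, .ofNat 0, .ofNat 2, .ofNat 1, .ofNat 0, .ofNat 0, .ofNat 0,
  .ofNat 0, .ofNat 0, .ofNat 2, .ofNat 0, .ofNat 1, .ofNat 0, .negSucc 1, .ofNat 0, .ofNat 1, .ofNat 1,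
  .ofNat 1, .negSucc 3, .ofNat 0, .ofNat 0, .ofNat 0, .ofNat 0, .negSucc 2, .ofNat 0, .ofNat 0, .ofNat 0,
  .ofNat 2, .ofNat 0, .negSucc 0, .ofNat 1, .ofNat 0, .ofNat 1, .ofNat 0, .ofNat 0, .ofNat 0, .ofNat 0,
  .ofNat 3, .ofNat 0, .ofNat 0, .ofNat 2, .negSucc 1, .ofNat 0, .ofNat 0, .ofNat 0, .ofNat 1, .ofNat 0,
  .ofNat 0, .ofNat 1, .ofNat 0, .negSucc 1, .ofNat 0, .ofNat 0, .ofNat 0, .negSucc 0, .negSucc 0, .ofNat 0,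
  .ofNat 0, .ofNat 0, .ofNat 0, .ofNat 0, .negSucc 0, .ofNat 0, .ofNat 0, .ofNat 0, .negSucc 1, .ofNat 0,
  .ofNat 0, .ofNat 0, .ofNat 0, .ofNat 0, .ofNat 2, .ofNat 0, .ofNat 0, .ofNat 0, .ofNat 2, .ofNat 0,
  .negSucc 1, .ofNat 0, .ofNat 0, .ofNat 0, .ofNat 1, .ofNat 0, .ofNat 0, .ofNat 0, .ofNat 0, .ofNat 0,
  .ofNat 0, .ofNat 4, .ofNat 0, .ofNat 0, .negSucc 1, .ofNat 0, .ofNat 0]

/-- the values at 28D -/
def col131 : List ℤ :=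
  [.ofNat 1, .ofNat 0, .ofNat 1, .negSucc 1, .negSucc 0, .negSucc 0, .negSucc 0, .ofNat 0, .ofNat 3,
  .ofNat 0, .ofNat 1, .ofNat 1, .ofNat 1, .ofNat 0, .ofNat 1, .ofNat 0, .negSucc 1, .ofNat 0, .ofNat 0,
  .negSucc 1, .ofNat 0, .negSucc 0, .negSucc 1, .ofNat 1, .ofNat 1, .ofNat 0, .ofNat 1, .ofNat 3, .negSucc 0,
  .ofNat 0, .ofNat 0, .negSucc 2, .ofNat 0, .ofNat 1, .ofNat 0, .ofNat 0, .ofNat 1, .ofNat 0, .ofNat 1,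
  .ofNat 0, .ofNat 0, .ofNat 0, .negSucc 0, .ofNat 0, .ofNat 2, .negSucc 0, .negSucc 0, .negSucc 1, .ofNat 0,
  .ofNat 0, .ofNat 0, .ofNat 4, .ofNat 0, .ofNat 0, .negSucc 2, .ofNat 0, .ofNat 0, .ofNat 0, .ofNat 0,
  .ofNat 0, .ofNat 0, .negSucc 0, .ofNat 1, .negSucc 0, .ofNat 2, .ofNat 0, .negSucc 1, .ofNat 0, .ofNat 0,
  .ofNat 0, .ofNat 0, .negSucc 0, .ofNat 0, .ofNat 0, .ofNat 0, .ofNat 2, .ofNat 0, .negSucc 2, .ofNat 1,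
  .negSucc 1, .ofNat 2, .ofNat 0, .ofNat 0, .negSucc 1, .ofNat 1, .ofNat 0, .ofNat 0, .ofNat 0, .ofNat 0,
  .ofNat 0, .negSucc 1, .ofNat 0, .ofNat 1, .ofNat 0, .negSucc 1, .ofNat 0, .ofNat 1, .ofNat 1, .ofNat 1,
  .ofNat 0, .ofNat 0, .ofNat 0, .ofNat 4, .ofNat 0, .ofNat 1, .ofNat 0, .ofNat 0, .ofNat 0, .negSucc 1,
  .ofNat 0, .negSucc 0, .ofNat 1, .ofNat 0, .ofNat 1, .ofNat 0, .ofNat 0, .ofNat 0, .ofNat 0, .ofNat 3,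
  .ofNat 0, .ofNat 0, .negSucc 1, .ofNat 2, .ofNat 0, .ofNat 0, .ofNat 0, .ofNat 1, .ofNat 0, .ofNat 0,
  .ofNat 1, .ofNat 0, .negSucc 1, .ofNat 0, .ofNat 0, .ofNat 0, .negSucc 0, .negSucc 0, .ofNat 0, .ofNat 0,
  .ofNat 0, .ofNat 0, .ofNat 0, .negSucc 0, .ofNat 0, .ofNat 0, .ofNat 0, .ofNat 2, .ofNat 0, .ofNat 0,
  .ofNat 0, .ofNat 0, .ofNat 0, .negSucc 1, .ofNat 0, .ofNat 0, .ofNat 0, .ofNat 2, .ofNat 0, .negSucc 1,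
  .ofNat 0, .ofNat 0, .ofNat 0, .ofNat 1, .ofNat 0, .ofNat 0, .ofNat 0, .ofNat 0, .ofNat 0, .ofNat 0,
  .negSucc 3, .ofNat 0, .ofNat 0, .negSucc 1, .ofNat 0, .ofNat 0]

/-- the values at 28E -/
def col132 : List ℤ :=
  [.ofNat 1, .ofNat 0, .negSucc 0, .ofNat 0, .negSucc 0, .ofNat 1, .ofNat 1, .ofNat 2, .negSucc 0, .ofNat 0,
  .ofNat 1, .negSucc 0, .ofNat 1, .negSucc 1, .ofNat 1, .ofNat 0, .ofNat 0, .ofNat 0, .ofNat 0, .ofNat 0,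
  .negSucc 1, .ofNat 1, .ofNat 0, .negSucc 0, .negSucc 0, .ofNat 2, .ofNat 1, .ofNat 1, .negSucc 0, .ofNat 0,
  .ofNat 0, .ofNat 1, .ofNat 0, .negSucc 0, .ofNat 0, .ofNat 0, .ofNat 1, .ofNat 0, .ofNat 1, .ofNat 0,
  .ofNat 0, .ofNat 0, .ofNat 1, .ofNat 0, .ofNat 0, .negSucc 0, .ofNat 1, .ofNat 0, .ofNat 0, .ofNat 0,
  .ofNat 0, .ofNat 0, .ofNat 0, .negSucc 1, .negSucc 0, .negSucc 1, .negSucc 1, .ofNat 0, .ofNat 0, .ofNat 0,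
  .ofNat 0, .ofNat 1, .ofNat 1, .negSucc 0, .ofNat 0, .ofNat 0, .ofNat 0, .ofNat 0, .ofNat 0, .ofNat 0,
  .ofNat 0, .negSucc 0, .ofNat 0, .ofNat 0, .ofNat 0, .ofNat 0, .ofNat 0, .negSucc 0, .ofNat 1, .ofNat 0,
  .ofNat 0, .ofNat 0, .ofNat 0, .ofNat 0, .ofNat 1, .ofNat 0, .ofNat 0, .ofNat 0, .ofNat 0, .ofNat 2,
  .ofNat 0, .ofNat 0, .ofNat 1, .ofNat 0, .ofNat 0, .ofNat 0, .negSucc 0, .negSucc 0, .ofNat 1, .ofNat 0,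
  .ofNat 0, .ofNat 0, .ofNat 0, .ofNat 0, .ofNat 1, .ofNat 0, .ofNat 0, .ofNat 0, .ofNat 0, .ofNat 0,
  .ofNat 1, .negSucc 0, .negSucc 1, .negSucc 0, .ofNat 0, .ofNat 0, .ofNat 0, .ofNat 0, .negSucc 0, .ofNat 0,
  .ofNat 0, .ofNat 0, .ofNat 0, .ofNat 0, .ofNat 0, .ofNat 0, .negSucc 0, .ofNat 0, .ofNat 0, .negSucc 0,
  .ofNat 0, .ofNat 0, .ofNat 0, .ofNat 0, .negSucc 1, .ofNat 1, .negSucc 0, .ofNat 0, .ofNat 2, .ofNat 0,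
  .ofNat 2, .ofNat 0, .negSucc 0, .ofNat 2, .ofNat 0, .ofNat 0, .ofNat 0, .ofNat 0, .ofNat 0, .ofNat 0,
  .ofNat 0, .ofNat 0, .ofNat 0, .ofNat 0, .ofNat 2, .ofNat 0, .ofNat 0, .negSucc 1, .ofNat 0, .ofNat 0,
  .ofNat 0, .ofNat 0, .ofNat 1, .negSucc 1, .ofNat 0, .ofNat 0, .ofNat 0, .ofNat 0, .ofNat 0, .ofNat 0,
  .ofNat 0, .ofNat 0, .ofNat 2, .ofNat 0, .ofNat 0]

/-- the values at 30A -/
def col133 : List ℤ :=
  [.ofNat 1, .negSucc 4, .ofNat 7, .negSucc 7, .ofNat 6, .ofNat 11, .negSucc 9, .ofNat 9, .negSucc 11,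
  .negSucc 6, .ofNat 3, .negSucc 0, .ofNat 2, .ofNat 13, .negSucc 4, .negSucc 3, .ofNat 6, .negSucc 8,
  .ofNat 3, .negSucc 4, .ofNat 1, .negSucc 1, .ofNat 3, .ofNat 6, .negSucc 0, .negSucc 4, .ofNat 5, .ofNat 4,
  .ofNat 7, .ofNat 2, .ofNat 0, .negSucc 4, .negSucc 1, .negSucc 5, .negSucc 0, .negSucc 4, .ofNat 5,
  .negSucc 5, .ofNat 0, .ofNat 5, .ofNat 1, .ofNat 5, .negSucc 0, .ofNat 7, .ofNat 7, .negSucc 7, .ofNat 0,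
  .ofNat 5, .negSucc 6, .negSucc 3, .ofNat 0, .negSucc 3, .negSucc 3, .ofNat 6, .ofNat 9, .ofNat 0, .ofNat 5,
  .ofNat 0, .negSucc 1, .negSucc 7, .ofNat 3, .ofNat 6, .negSucc 4, .negSucc 2, .ofNat 0, .ofNat 0,
  .negSucc 4, .negSucc 8, .negSucc 0, .ofNat 6, .ofNat 0, .ofNat 0, .ofNat 3, .negSucc 2, .negSucc 4,
  .negSucc 6, .ofNat 0, .ofNat 0, .ofNat 3, .negSucc 12, .ofNat 3, .ofNat 0, .ofNat 5, .ofNat 1, .ofNat 7,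
  .ofNat 5, .ofNat 0, .ofNat 6, .negSucc 6, .ofNat 6, .ofNat 5, .ofNat 0, .negSucc 5, .negSucc 5, .negSucc 1,
  .ofNat 0, .ofNat 1, .ofNat 0, .ofNat 4, .ofNat 2, .ofNat 2, .negSucc 2, .ofNat 2, .ofNat 5, .ofNat 0,
  .ofNat 0, .ofNat 0, .ofNat 0, .ofNat 5, .ofNat 0, .ofNat 7, .negSucc 2, .ofNat 0, .negSucc 4, .ofNat 0,
  .ofNat 0, .ofNat 0, .negSucc 0, .ofNat 0, .ofNat 0, .negSucc 2, .negSucc 5, .ofNat 6, .negSucc 1, .ofNat 0,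
  .ofNat 0, .ofNat 0, .ofNat 0, .ofNat 0, .ofNat 3, .ofNat 0, .ofNat 0, .ofNat 0, .ofNat 0, .negSucc 4,
  .negSucc 4, .ofNat 2, .ofNat 0, .ofNat 3, .negSucc 2, .ofNat 0, .negSucc 7, .ofNat 0, .ofNat 0, .negSucc 8,
  .ofNat 5, .ofNat 0, .ofNat 12, .negSucc 3, .negSucc 1, .negSucc 3, .ofNat 4, .ofNat 0, .ofNat 0,
  .negSucc 3, .ofNat 0, .negSucc 0, .ofNat 0, .ofNat 5, .negSucc 3, .ofNat 4, .ofNat 6, .ofNat 5, .ofNat 0,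
  .ofNat 0, .negSucc 4, .ofNat 0, .ofNat 0, .ofNat 0, .ofNat 0, .ofNat 0, .ofNat 0, .ofNat 0, .ofNat 0,
  .ofNat 0]

/-- the values at 30B -/
def col134 : List ℤ :=
  [.ofNat 1, .ofNat 1, .ofNat 1, .negSucc 1, .ofNat 0, .negSucc 0, .ofNat 2, .negSucc 2, .ofNat 0,
  .negSucc 0, .ofNat 3, .negSucc 0, .ofNat 2, .ofNat 1, .ofNat 1, .ofNat 2, .ofNat 0, .negSucc 2, .negSucc 2,
  .ofNat 1, .ofNat 1, .negSucc 1, .ofNat 3, .ofNat 0, .negSucc 0, .ofNat 1, .negSucc 0, .negSucc 1, .ofNat 1,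
  .ofNat 2, .ofNat 0, .ofNat 1, .negSucc 1, .ofNat 0, .negSucc 0, .ofNat 1, .negSucc 0, .ofNat 0, .ofNat 0,
  .negSucc 0, .ofNat 1, .negSucc 0, .negSucc 0, .ofNat 1, .ofNat 1, .negSucc 1, .ofNat 0, .negSucc 0,
  .negSucc 0, .ofNat 2, .ofNat 0, .ofNat 2, .ofNat 2, .ofNat 0, .ofNat 3, .ofNat 0, .negSucc 0, .ofNat 0,
  .negSucc 1, .ofNat 4, .negSucc 2, .ofNat 0, .ofNat 1, .ofNat 3, .ofNat 0, .ofNat 0, .ofNat 1, .negSucc 2,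
  .negSucc 0, .ofNat 0, .ofNat 0, .ofNat 0, .negSucc 2, .ofNat 3, .ofNat 1, .negSucc 0, .ofNat 0, .ofNat 0,
  .ofNat 3, .negSucc 0, .negSucc 2, .ofNat 0, .negSucc 0, .ofNat 1, .ofNat 1, .negSucc 0, .ofNat 0, .ofNat 0,
  .negSucc 0, .ofNat 0, .negSucc 0, .ofNat 0, .ofNat 0, .ofNat 0, .negSucc 1, .ofNat 0, .ofNat 1, .ofNat 0,
  .negSucc 1, .ofNat 2, .ofNat 2, .negSucc 2, .ofNat 2, .negSucc 0, .ofNat 0, .ofNat 0, .ofNat 0, .ofNat 0,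
  .negSucc 0, .ofNat 0, .ofNat 1, .negSucc 2, .ofNat 0, .ofNat 1, .ofNat 0, .ofNat 0, .ofNat 0, .negSucc 0,
  .ofNat 0, .ofNat 0, .negSucc 2, .ofNat 0, .ofNat 0, .negSucc 1, .ofNat 0, .ofNat 0, .ofNat 0, .ofNat 0,
  .ofNat 0, .ofNat 3, .ofNat 0, .ofNat 0, .ofNat 0, .ofNat 0, .ofNat 1, .ofNat 1, .ofNat 2, .ofNat 0,
  .ofNat 3, .ofNat 3, .ofNat 0, .negSucc 1, .ofNat 0, .ofNat 0, .negSucc 2, .negSucc 0, .ofNat 0, .ofNat 0,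
  .ofNat 2, .negSucc 1, .ofNat 2, .negSucc 1, .ofNat 0, .ofNat 0, .ofNat 2, .ofNat 0, .negSucc 0, .ofNat 0,
  .negSucc 0, .ofNat 2, .negSucc 1, .ofNat 0, .negSucc 0, .ofNat 0, .ofNat 0, .ofNat 1, .ofNat 0, .ofNat 0,
  .ofNat 0, .ofNat 0, .ofNat 0, .ofNat 0, .ofNat 0, .ofNat 0, .ofNat 0]

/-- the values at 30C -/
def col135 : List ℤ :=
  [.ofNat 1, .negSucc 2, .ofNat 3, .negSucc 1, .ofNat 2, .ofNat 3, .negSucc 1, .negSucc 0, .negSucc 1,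
  .ofNat 1, .negSucc 0, .ofNat 1, .ofNat 0, .ofNat 1, .negSucc 0, .negSucc 1, .ofNat 0, .ofNat 1, .ofNat 1,
  .ofNat 1, .negSucc 2, .ofNat 2, .ofNat 3, .ofNat 0, .negSucc 0, .negSucc 0, .negSucc 0, .ofNat 2,
  .negSucc 0, .ofNat 0, .ofNat 0, .negSucc 0, .negSucc 1, .ofNat 0, .negSucc 2, .negSucc 0, .negSucc 0,
  .ofNat 2, .ofNat 0, .ofNat 1, .ofNat 3, .ofNat 1, .ofNat 1, .ofNat 1, .ofNat 1, .ofNat 0, .ofNat 0,
  .ofNat 1, .negSucc 0, .ofNat 0, .ofNat 2, .ofNat 2, .ofNat 0, .ofNat 0, .ofNat 1, .ofNat 0, .negSucc 0,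
  .ofNat 0, .negSucc 3, .ofNat 2, .negSucc 2, .ofNat 0, .ofNat 1, .negSucc 0, .ofNat 0, .ofNat 0, .negSucc 0,
  .negSucc 0, .ofNat 1, .negSucc 1, .ofNat 0, .ofNat 0, .negSucc 2, .ofNat 3, .negSucc 0, .ofNat 1, .ofNat 0,
  .ofNat 0, .ofNat 1, .ofNat 1, .ofNat 3, .ofNat 0, .negSucc 2, .ofNat 1, .negSucc 0, .ofNat 1, .ofNat 0,
  .negSucc 1, .ofNat 1, .ofNat 0, .ofNat 1, .ofNat 0, .negSucc 1, .ofNat 4, .ofNat 2, .ofNat 0, .ofNat 1,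
  .ofNat 0, .negSucc 1, .negSucc 1, .ofNat 0, .ofNat 3, .ofNat 0, .ofNat 1, .ofNat 0, .ofNat 0, .negSucc 3,
  .ofNat 0, .negSucc 0, .ofNat 0, .negSucc 0, .ofNat 3, .ofNat 0, .negSucc 0, .ofNat 0, .ofNat 0, .ofNat 0,
  .ofNat 1, .ofNat 0, .ofNat 0, .negSucc 0, .ofNat 0, .ofNat 0, .negSucc 1, .ofNat 0, .ofNat 0, .ofNat 0,
  .ofNat 0, .ofNat 0, .negSucc 2, .ofNat 0, .ofNat 0, .ofNat 0, .ofNat 0, .ofNat 1, .ofNat 1, .negSucc 1,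
  .ofNat 0, .negSucc 0, .ofNat 1, .ofNat 0, .ofNat 0, .ofNat 0, .ofNat 0, .ofNat 1, .ofNat 3, .ofNat 0,
  .negSucc 1, .negSucc 1, .ofNat 2, .negSucc 1, .negSucc 1, .ofNat 0, .ofNat 0, .ofNat 2, .ofNat 0,
  .negSucc 0, .ofNat 0, .negSucc 0, .ofNat 2, .ofNat 2, .ofNat 0, .negSucc 0, .ofNat 0, .ofNat 0, .ofNat 1,
  .ofNat 0, .ofNat 0, .ofNat 0, .ofNat 0, .ofNat 0, .ofNat 0, .ofNat 0, .ofNat 0, .ofNat 0]

/-- the values at 30D -/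
def col136 : List ℤ :=
  [.ofNat 1, .negSucc 0, .negSucc 0, .ofNat 0, .ofNat 2, .negSucc 0, .ofNat 2, .ofNat 1, .ofNat 0, .ofNat 1,
  .negSucc 0, .negSucc 0, .negSucc 1, .ofNat 1, .ofNat 3, .ofNat 0, .negSucc 1, .negSucc 0, .negSucc 0,
  .negSucc 0, .ofNat 1, .negSucc 1, .negSucc 0, .negSucc 1, .negSucc 0, .negSucc 0, .ofNat 1, .ofNat 0,
  .negSucc 0, .ofNat 2, .ofNat 0, .negSucc 0, .ofNat 2, .ofNat 2, .ofNat 3, .negSucc 0, .ofNat 1, .negSucc 1,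
  .ofNat 0, .negSucc 2, .ofNat 1, .ofNat 1, .negSucc 0, .ofNat 3, .negSucc 0, .ofNat 0, .ofNat 0, .ofNat 1,
  .ofNat 1, .ofNat 0, .ofNat 0, .ofNat 0, .ofNat 0, .negSucc 1, .ofNat 1, .ofNat 0, .ofNat 1, .ofNat 0,
  .ofNat 2, .ofNat 0, .negSucc 0, .negSucc 1, .negSucc 0, .ofNat 1, .ofNat 0, .ofNat 0, .negSucc 0,
  .negSucc 0, .negSucc 0, .ofNat 2, .ofNat 0, .ofNat 0, .negSucc 0, .ofNat 1, .negSucc 0, .ofNat 1, .ofNat 0,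
  .ofNat 0, .ofNat 3, .negSucc 0, .negSucc 0, .ofNat 0, .ofNat 1, .ofNat 1, .negSucc 0, .ofNat 1, .ofNat 0,
  .negSucc 1, .negSucc 2, .negSucc 1, .ofNat 1, .ofNat 0, .negSucc 1, .ofNat 2, .ofNat 2, .ofNat 0, .ofNat 1,
  .ofNat 0, .ofNat 0, .negSucc 1, .negSucc 1, .ofNat 1, .ofNat 2, .ofNat 1, .ofNat 0, .ofNat 0, .ofNat 0,
  .ofNat 0, .ofNat 1, .ofNat 0, .negSucc 0, .ofNat 1, .ofNat 0, .negSucc 0, .ofNat 0, .ofNat 0, .ofNat 0,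
  .negSucc 0, .ofNat 0, .ofNat 0, .ofNat 1, .ofNat 2, .negSucc 1, .ofNat 2, .ofNat 0, .ofNat 0, .ofNat 0,
  .ofNat 0, .ofNat 0, .negSucc 0, .ofNat 0, .ofNat 0, .ofNat 0, .ofNat 0, .negSucc 0, .negSucc 0, .negSucc 1,
  .ofNat 0, .ofNat 3, .ofNat 1, .ofNat 0, .ofNat 0, .ofNat 0, .ofNat 0, .negSucc 0, .ofNat 1, .ofNat 0,
  .ofNat 0, .ofNat 0, .ofNat 2, .ofNat 0, .ofNat 0, .ofNat 0, .ofNat 0, .ofNat 0, .ofNat 0, .negSucc 0,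
  .ofNat 0, .ofNat 1, .ofNat 0, .ofNat 0, .negSucc 1, .ofNat 1, .ofNat 0, .ofNat 0, .negSucc 0, .ofNat 0,
  .ofNat 0, .ofNat 0, .ofNat 0, .ofNat 0, .ofNat 0, .ofNat 0, .ofNat 0, .ofNat 0]

/-- the values at 30E -/
def col137 : List ℤ :=
  [.ofNat 1, .negSucc 0, .ofNat 1, .ofNat 0, .ofNat 0, .negSucc 0, .ofNat 2, .negSucc 0, .negSucc 1,
  .ofNat 3, .negSucc 0, .ofNat 1, .ofNat 0, .ofNat 1, .ofNat 1, .ofNat 0, .ofNat 2, .negSucc 0, .ofNat 3,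
  .negSucc 0, .negSucc 2, .ofNat 2, .negSucc 0, .ofNat 2, .negSucc 0, .ofNat 1, .ofNat 1, .ofNat 0, .ofNat 1,
  .ofNat 0, .ofNat 0, .ofNat 1, .negSucc 1, .negSucc 1, .ofNat 1, .ofNat 1, .ofNat 1, .ofNat 0, .ofNat 0,
  .negSucc 0, .negSucc 0, .negSucc 0, .ofNat 1, .negSucc 0, .negSucc 0, .negSucc 1, .ofNat 0, .negSucc 0,
  .ofNat 1, .negSucc 1, .ofNat 2, .ofNat 0, .negSucc 1, .ofNat 2, .negSucc 0, .ofNat 0, .ofNat 1, .ofNat 0,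
  .ofNat 0, .negSucc 1, .negSucc 0, .negSucc 1, .negSucc 0, .ofNat 1, .ofNat 0, .ofNat 0, .ofNat 1, .ofNat 1,
  .ofNat 1, .ofNat 0, .ofNat 0, .ofNat 0, .negSucc 0, .ofNat 1, .ofNat 1, .ofNat 3, .ofNat 0, .ofNat 0,
  .ofNat 1, .ofNat 1, .ofNat 1, .ofNat 0, .ofNat 3, .ofNat 1, .ofNat 1, .negSucc 0, .ofNat 0, .ofNat 0,
  .negSucc 0, .negSucc 1, .negSucc 0, .ofNat 0, .ofNat 0, .ofNat 2, .negSucc 1, .ofNat 0, .ofNat 1, .ofNat 0,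
  .ofNat 0, .negSucc 1, .ofNat 0, .negSucc 0, .ofNat 0, .negSucc 0, .ofNat 0, .ofNat 0, .ofNat 0, .ofNat 0,
  .ofNat 1, .ofNat 0, .ofNat 1, .negSucc 0, .ofNat 0, .ofNat 1, .ofNat 0, .ofNat 0, .ofNat 0, .ofNat 1,
  .ofNat 0, .ofNat 0, .negSucc 0, .negSucc 1, .negSucc 1, .ofNat 2, .ofNat 0, .ofNat 0, .ofNat 0, .ofNat 0,
  .ofNat 0, .ofNat 1, .negSucc 3, .ofNat 0, .ofNat 0, .ofNat 0, .negSucc 0, .negSucc 0, .ofNat 2, .ofNat 0,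
  .negSucc 0, .ofNat 3, .ofNat 0, .ofNat 2, .ofNat 0, .ofNat 0, .negSucc 0, .ofNat 1, .ofNat 0, .negSucc 1,
  .ofNat 0, .negSucc 1, .ofNat 0, .ofNat 0, .ofNat 0, .ofNat 0, .ofNat 0, .ofNat 0, .negSucc 0, .ofNat 0,
  .ofNat 1, .ofNat 0, .ofNat 0, .ofNat 2, .ofNat 1, .ofNat 0, .ofNat 0, .negSucc 0, .ofNat 0, .ofNat 0,
  .ofNat 0, .ofNat 0, .ofNat 0, .ofNat 0, .ofNat 0, .ofNat 0, .ofNat 0]

/-- the values at 30F -/
def col138 : List ℤ :=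
  [.ofNat 1, .negSucc 1, .ofNat 2, .negSucc 1, .ofNat 0, .ofNat 1, .ofNat 0, .ofNat 1, .ofNat 0, .ofNat 0,
  .ofNat 0, .ofNat 0, .negSucc 0, .ofNat 0, .negSucc 1, .ofNat 2, .ofNat 2, .ofNat 0, .negSucc 1, .ofNat 0,
  .negSucc 1, .negSucc 0, .ofNat 0, .ofNat 2, .ofNat 0, .ofNat 0, .ofNat 0, .ofNat 0, .ofNat 0, .ofNat 0,
  .ofNat 1, .ofNat 0, .ofNat 1, .ofNat 0, .ofNat 1, .ofNat 0, .ofNat 0, .ofNat 0, .ofNat 0, .ofNat 2,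
  .negSucc 1, .ofNat 0, .ofNat 0, .ofNat 0, .ofNat 0, .ofNat 0, .ofNat 2, .ofNat 0, .ofNat 2, .ofNat 1,
  .ofNat 0, .ofNat 0, .ofNat 3, .negSucc 1, .ofNat 0, .ofNat 0, .ofNat 0, .ofNat 0, .negSucc 1, .negSucc 1,
  .ofNat 0, .ofNat 0, .ofNat 0, .ofNat 0, .ofNat 0, .negSucc 0, .ofNat 0, .ofNat 0, .ofNat 0, .ofNat 0,
  .ofNat 0, .ofNat 0, .ofNat 0, .ofNat 0, .ofNat 0, .ofNat 2, .ofNat 0, .ofNat 0, .ofNat 0, .ofNat 0,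
  .ofNat 0, .ofNat 0, .ofNat 0, .ofNat 0, .ofNat 0, .ofNat 0, .ofNat 0, .ofNat 0, .ofNat 0, .negSucc 0,
  .ofNat 0, .ofNat 0, .ofNat 0, .ofNat 0, .ofNat 0, .ofNat 0, .ofNat 0, .ofNat 0, .ofNat 0, .ofNat 0,
  .negSucc 1, .ofNat 0, .ofNat 0, .ofNat 0, .ofNat 0, .ofNat 0, .ofNat 0, .negSucc 0, .ofNat 0, .ofNat 0,
  .ofNat 0, .ofNat 0, .ofNat 0, .ofNat 0, .ofNat 0, .ofNat 0, .ofNat 0, .ofNat 0, .ofNat 0, .ofNat 0,
  .ofNat 1, .ofNat 0, .ofNat 0, .ofNat 0, .ofNat 0, .ofNat 0, .ofNat 0, .ofNat 0, .ofNat 0, .ofNat 0,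
  .ofNat 0, .ofNat 0, .ofNat 0, .ofNat 0, .ofNat 0, .ofNat 0, .ofNat 0, .ofNat 0, .ofNat 0, .ofNat 0,
  .ofNat 0, .ofNat 0, .ofNat 0, .negSucc 0, .ofNat 0, .negSucc 2, .ofNat 0, .ofNat 0, .ofNat 2, .ofNat 0,
  .ofNat 0, .ofNat 0, .ofNat 2, .ofNat 1, .ofNat 0, .ofNat 0, .ofNat 0, .ofNat 0, .ofNat 0, .ofNat 0,
  .ofNat 0, .negSucc 1, .ofNat 0, .ofNat 1, .ofNat 0, .ofNat 0, .ofNat 0, .ofNat 0, .negSucc 1, .ofNat 0,
  .ofNat 0, .ofNat 0, .ofNat 0, .ofNat 0, .ofNat 0]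

/-- the values at 30GH -/
def col139 : List ℤ :=
  [.ofNat 1, .ofNat 0, .ofNat 0, .ofNat 0, .ofNat 0, .negSucc 0, .ofNat 0, .ofNat 1, .ofNat 0, .ofNat 0,
  .ofNat 0, .ofNat 0, .negSucc 0, .ofNat 0, .ofNat 0, .ofNat 0, .ofNat 0, .ofNat 0, .negSucc 1, .ofNat 0,
  .ofNat 0, .ofNat 1, .ofNat 0, .ofNat 0, .ofNat 0, .ofNat 0, .ofNat 0, .ofNat 0, .ofNat 0, .ofNat 0,
  .ofNat 1, .ofNat 0, .ofNat 1, .ofNat 0, .negSucc 0, .ofNat 0, .ofNat 0, .ofNat 0, .ofNat 0, .ofNat 0,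
  .ofNat 0, .ofNat 0, .ofNat 0, .ofNat 0, .ofNat 0, .ofNat 0, .ofNat 0, .ofNat 0, .ofNat 0, .ofNat 1,
  .ofNat 0, .ofNat 0, .negSucc 0, .ofNat 0, .ofNat 0, .ofNat 0, .ofNat 0, .ofNat 0, .ofNat 0, .ofNat 0,
  .ofNat 0, .ofNat 0, .ofNat 0, .ofNat 0, .ofNat 0, .negSucc 0, .ofNat 0, .ofNat 0, .ofNat 0, .ofNat 0,
  .ofNat 0, .ofNat 0, .ofNat 0, .ofNat 0, .ofNat 0, .ofNat 0, .ofNat 0, .ofNat 0, .ofNat 0, .ofNat 0,
  .ofNat 0, .ofNat 0, .ofNat 0, .ofNat 0, .ofNat 0, .ofNat 0, .ofNat 0, .ofNat 0, .ofNat 0, .ofNat 1,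
  .ofNat 0, .ofNat 0, .ofNat 0, .ofNat 0, .ofNat 0, .ofNat 0, .ofNat 0, .ofNat 0, .ofNat 0, .ofNat 0,
  .ofNat 2, .ofNat 0, .ofNat 0, .ofNat 0, .ofNat 0, .ofNat 0, .ofNat 0, .negSucc 0, .ofNat 0, .ofNat 0,
  .ofNat 0, .ofNat 0, .ofNat 0, .ofNat 0, .ofNat 0, .ofNat 0, .ofNat 0, .ofNat 0, .ofNat 0, .ofNat 0,
  .ofNat 1, .ofNat 0, .ofNat 0, .ofNat 0, .ofNat 0, .ofNat 0, .ofNat 0, .ofNat 0, .ofNat 0, .ofNat 0,
  .negSucc 1, .ofNat 0, .ofNat 0, .ofNat 0, .ofNat 0, .ofNat 0, .ofNat 0, .ofNat 0, .ofNat 0, .ofNat 0,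
  .ofNat 0, .ofNat 0, .ofNat 0, .negSucc 0, .ofNat 0, .ofNat 1, .ofNat 0, .ofNat 0, .ofNat 0, .ofNat 0,
  .ofNat 0, .ofNat 0, .ofNat 0, .negSucc 0, .ofNat 0, .ofNat 0, .ofNat 0, .ofNat 0, .ofNat 0, .ofNat 0,
  .ofNat 0, .ofNat 0, .ofNat 0, .ofNat 1, .ofNat 0, .ofNat 0, .ofNat 0, .ofNat 0, .ofNat 0, .ofNat 0,
  .ofNat 0, .ofNat 0, .ofNat 0, .ofNat 0, .ofNat 0]

/-- the values at 31AB -/
def col140 : List ℤ :=
  [.ofNat 1, .ofNat 0, .ofNat 0, .ofNat 0, .negSucc 0, .ofNat 0, .ofNat 0, .ofNat 0, .ofNat 0, .ofNat 0,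
  .ofNat 0, .ofNat 0, .ofNat 0, .ofNat 0, .ofNat 0, .ofNat 0, .ofNat 0, .ofNat 0, .ofNat 0, .ofNat 0,
  .ofNat 0, .ofNat 1, .ofNat 0, .ofNat 0, .ofNat 0, .ofNat 0, .ofNat 0, .ofNat 0, .ofNat 0, .ofNat 0,
  .ofNat 0, .ofNat 0, .ofNat 0, .ofNat 0, .ofNat 0, .ofNat 0, .ofNat 0, .ofNat 0, .ofNat 0, .ofNat 0,
  .ofNat 0, .ofNat 0, .ofNat 0, .ofNat 0, .ofNat 0, .ofNat 0, .ofNat 0, .ofNat 0, .ofNat 0, .ofNat 0,
  .ofNat 0, .negSucc 0, .ofNat 0, .ofNat 0, .ofNat 0, .ofNat 0, .ofNat 0, .ofNat 0, .ofNat 0, .ofNat 0,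
  .ofNat 0, .ofNat 0, .ofNat 0, .ofNat 0, .ofNat 0, .ofNat 0, .ofNat 0, .ofNat 0, .ofNat 0, .ofNat 0,
  .ofNat 0, .ofNat 0, .ofNat 0, .ofNat 0, .ofNat 0, .ofNat 0, .ofNat 0, .ofNat 0, .ofNat 0, .ofNat 0,
  .ofNat 0, .ofNat 0, .ofNat 0, .ofNat 0, .ofNat 0, .ofNat 0, .ofNat 0, .ofNat 0, .ofNat 0, .ofNat 0,
  .ofNat 0, .ofNat 0, .ofNat 0, .ofNat 0, .ofNat 0, .ofNat 0, .ofNat 0, .ofNat 0, .ofNat 0, .ofNat 0,
  .ofNat 0, .ofNat 0, .ofNat 1, .ofNat 0, .ofNat 0, .ofNat 0, .ofNat 1, .ofNat 0, .ofNat 1, .ofNat 0,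
  .ofNat 0, .ofNat 0, .ofNat 0, .ofNat 0, .ofNat 0, .ofNat 0, .negSucc 0, .ofNat 0, .ofNat 0, .ofNat 0,
  .ofNat 0, .ofNat 0, .ofNat 0, .ofNat 0, .ofNat 0, .ofNat 0, .ofNat 0, .ofNat 0, .ofNat 0, .ofNat 0,
  .ofNat 1, .ofNat 0, .ofNat 0, .ofNat 0, .ofNat 0, .ofNat 0, .ofNat 0, .ofNat 0, .ofNat 0, .ofNat 0,
  .ofNat 0, .ofNat 0, .ofNat 0, .ofNat 0, .ofNat 0, .ofNat 0, .ofNat 0, .ofNat 0, .ofNat 0, .ofNat 0,
  .ofNat 0, .ofNat 0, .ofNat 0, .ofNat 0, .ofNat 0, .ofNat 0, .negSucc 0, .ofNat 0, .ofNat 0, .ofNat 1,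
  .ofNat 1, .ofNat 0, .negSucc 0, .ofNat 0, .ofNat 0, .ofNat 0, .ofNat 0, .ofNat 0, .ofNat 0, .negSucc 0,
  .ofNat 0, .ofNat 0, .negSucc 1, .ofNat 0, .ofNat 0]

/-- the values at 32AB -/
def col141 : List ℤ :=
  [.ofNat 1, .ofNat 1, .negSucc 0, .ofNat 0, .ofNat 0, .ofNat 1, .negSucc 0, .ofNat 0, .negSucc 0, .ofNat 0,
  .negSucc 0, .ofNat 0, .ofNat 0, .ofNat 0, .ofNat 0, .ofNat 1, .ofNat 0, .ofNat 1, .negSucc 0, .ofNat 0,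
  .ofNat 0, .ofNat 0, .ofNat 1, .ofNat 1, .ofNat 0, .ofNat 0, .negSucc 0, .ofNat 0, .ofNat 1, .negSucc 0,
  .ofNat 0, .ofNat 1, .negSucc 0, .ofNat 0, .ofNat 0, .ofNat 0, .negSucc 0, .ofNat 0, .ofNat 1, .negSucc 0,
  .negSucc 0, .ofNat 0, .ofNat 0, .ofNat 1, .ofNat 0, .ofNat 0, .ofNat 0, .ofNat 0, .ofNat 0, .ofNat 0,
  .ofNat 0, .ofNat 1, .ofNat 0, .ofNat 0, .negSucc 0, .negSucc 0, .ofNat 0, .negSucc 0, .ofNat 0, .ofNat 0,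
  .ofNat 0, .negSucc 0, .ofNat 0, .ofNat 0, .ofNat 0, .ofNat 1, .ofNat 1, .ofNat 0, .ofNat 0, .ofNat 1,
  .ofNat 0, .ofNat 0, .ofNat 0, .ofNat 0, .negSucc 0, .ofNat 0, .ofNat 0, .negSucc 0, .ofNat 0, .ofNat 0,
  .ofNat 0, .ofNat 0, .ofNat 0, .ofNat 0, .negSucc 0, .ofNat 0, .negSucc 0, .ofNat 0, .ofNat 0, .ofNat 0,
  .ofNat 0, .ofNat 0, .ofNat 1, .ofNat 1, .ofNat 1, .ofNat 1, .ofNat 0, .negSucc 0, .ofNat 0, .ofNat 0,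
  .ofNat 0, .ofNat 0, .ofNat 0, .ofNat 0, .ofNat 0, .ofNat 0, .ofNat 0, .ofNat 0, .ofNat 0, .negSucc 0,
  .ofNat 0, .ofNat 0, .ofNat 0, .negSucc 0, .ofNat 1, .ofNat 1, .ofNat 0, .negSucc 0, .ofNat 1, .ofNat 0,
  .ofNat 0, .ofNat 0, .ofNat 0, .ofNat 0, .ofNat 1, .ofNat 1, .ofNat 0, .ofNat 0, .ofNat 0, .ofNat 0,
  .ofNat 0, .ofNat 0, .ofNat 1, .negSucc 0, .ofNat 0, .negSucc 0, .ofNat 1, .ofNat 0, .ofNat 0, .ofNat 0,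
  .ofNat 0, .ofNat 0, .ofNat 0, .ofNat 0, .ofNat 0, .ofNat 0, .ofNat 1, .ofNat 1, .ofNat 0, .ofNat 0,
  .ofNat 0, .ofNat 0, .ofNat 0, .ofNat 0, .negSucc 0, .ofNat 0, .ofNat 0, .ofNat 0, .ofNat 0, .ofNat 0,
  .ofNat 0, .ofNat 0, .ofNat 0, .ofNat 0, .ofNat 0, .ofNat 0, .ofNat 2, .ofNat 2, .ofNat 2, .ofNat 0,
  .ofNat 2, .ofNat 0, .ofNat 0, .negSucc 1, .ofNat 0]

/-- the values at 32CD -/
def col142 : List ℤ :=
  [.ofNat 1, .negSucc 0, .ofNat 1, .ofNat 0, .ofNat 0, .negSucc 0, .negSucc 0, .ofNat 0, .ofNat 1, .ofNat 0,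
  .ofNat 1, .ofNat 0, .ofNat 0, .ofNat 0, .ofNat 0, .ofNat 1, .ofNat 0, .ofNat 1, .ofNat 1, .ofNat 0,
  .ofNat 0, .ofNat 0, .negSucc 0, .negSucc 0, .ofNat 0, .ofNat 0, .negSucc 0, .ofNat 0, .negSucc 0,
  .negSucc 0, .ofNat 0, .ofNat 1, .negSucc 0, .ofNat 0, .ofNat 0, .ofNat 0, .negSucc 0, .ofNat 0, .ofNat 1,
  .negSucc 0, .negSucc 0, .ofNat 0, .ofNat 0, .ofNat 1, .ofNat 0, .ofNat 0, .ofNat 0, .ofNat 0, .ofNat 0,
  .ofNat 0, .ofNat 0, .ofNat 1, .ofNat 0, .ofNat 0, .ofNat 1, .negSucc 0, .ofNat 0, .ofNat 1, .ofNat 0,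
  .ofNat 0, .ofNat 0, .ofNat 1, .ofNat 0, .ofNat 0, .ofNat 0, .negSucc 0, .ofNat 1, .ofNat 0, .ofNat 0,
  .ofNat 1, .ofNat 0, .ofNat 0, .ofNat 0, .ofNat 0, .negSucc 0, .ofNat 0, .ofNat 0, .negSucc 0, .ofNat 0,
  .ofNat 0, .ofNat 0, .ofNat 0, .ofNat 0, .ofNat 0, .ofNat 1, .ofNat 0, .negSucc 0, .ofNat 0, .ofNat 0,
  .ofNat 0, .ofNat 0, .ofNat 0, .negSucc 0, .negSucc 0, .ofNat 1, .negSucc 0, .ofNat 0, .ofNat 1, .ofNat 0,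
  .ofNat 0, .ofNat 0, .ofNat 0, .ofNat 0, .ofNat 0, .ofNat 0, .ofNat 0, .ofNat 0, .ofNat 0, .ofNat 0,
  .ofNat 1, .ofNat 0, .ofNat 0, .ofNat 0, .negSucc 0, .ofNat 1, .negSucc 0, .ofNat 0, .ofNat 1, .negSucc 0,
  .ofNat 0, .ofNat 0, .ofNat 0, .ofNat 0, .ofNat 0, .ofNat 1, .ofNat 1, .ofNat 0, .ofNat 0, .ofNat 0,
  .ofNat 0, .ofNat 0, .ofNat 0, .negSucc 0, .ofNat 1, .ofNat 0, .negSucc 0, .ofNat 1, .ofNat 0, .ofNat 0,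
  .ofNat 0, .ofNat 0, .ofNat 0, .ofNat 0, .ofNat 0, .ofNat 0, .ofNat 0, .negSucc 0, .negSucc 0, .ofNat 0,
  .ofNat 0, .ofNat 0, .ofNat 0, .ofNat 0, .ofNat 0, .negSucc 0, .ofNat 0, .ofNat 0, .ofNat 0, .ofNat 0,
  .ofNat 0, .ofNat 0, .ofNat 0, .ofNat 0, .ofNat 0, .ofNat 0, .ofNat 0, .negSucc 1, .negSucc 1, .ofNat 2,
  .ofNat 0, .ofNat 2, .ofNat 0, .ofNat 0, .ofNat 2, .ofNat 0]

/-- the values at 33A -/
def col143 : List ℤ :=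
  [.ofNat 1, .ofNat 1, .negSucc 0, .negSucc 0, .ofNat 1, .ofNat 0, .negSucc 0, .negSucc 0, .ofNat 0,
  .ofNat 1, .ofNat 0, .ofNat 1, .ofNat 0, .ofNat 1, .ofNat 0, .ofNat 0, .ofNat 1, .ofNat 0, .ofNat 0,
  .ofNat 1, .ofNat 0, .negSucc 0, .negSucc 0, .ofNat 0, .ofNat 0, .ofNat 0, .ofNat 0, .negSucc 0, .ofNat 0,
  .ofNat 1, .ofNat 0, .ofNat 0, .ofNat 0, .ofNat 0, .ofNat 1, .ofNat 0, .ofNat 1, .ofNat 1, .ofNat 0,
  .ofNat 0, .ofNat 0, .negSucc 0, .ofNat 0, .negSucc 0, .ofNat 0, .ofNat 0, .ofNat 1, .negSucc 0, .ofNat 0,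
  .negSucc 0, .ofNat 1, .ofNat 0, .ofNat 0, .ofNat 0, .ofNat 0, .ofNat 0, .negSucc 0, .ofNat 0, .ofNat 0,
  .ofNat 1, .ofNat 1, .ofNat 0, .ofNat 0, .ofNat 0, .negSucc 0, .ofNat 0, .ofNat 0, .ofNat 0, .ofNat 0,
  .ofNat 0, .ofNat 0, .ofNat 0, .ofNat 1, .negSucc 0, .negSucc 0, .ofNat 0, .negSucc 0, .ofNat 0, .negSucc 0,
  .negSucc 0, .negSucc 0, .ofNat 0, .negSucc 0, .ofNat 1, .ofNat 0, .ofNat 1, .ofNat 0, .ofNat 1, .negSucc 0,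
  .ofNat 1, .ofNat 0, .ofNat 0, .ofNat 1, .ofNat 0, .ofNat 0, .ofNat 0, .ofNat 1, .ofNat 0, .ofNat 0,
  .ofNat 0, .ofNat 1, .ofNat 1, .ofNat 0, .ofNat 0, .ofNat 0, .ofNat 0, .ofNat 0, .ofNat 0, .negSucc 0,
  .ofNat 1, .ofNat 0, .ofNat 1, .negSucc 0, .ofNat 0, .ofNat 0, .ofNat 0, .ofNat 0, .ofNat 0, .ofNat 0,
  .ofNat 0, .ofNat 0, .ofNat 0, .ofNat 0, .negSucc 0, .ofNat 0, .negSucc 0, .ofNat 0, .ofNat 0, .ofNat 0,
  .negSucc 0, .ofNat 0, .ofNat 0, .ofNat 0, .ofNat 0, .ofNat 0, .negSucc 0, .ofNat 0, .ofNat 0, .ofNat 0,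
  .ofNat 1, .ofNat 0, .ofNat 0, .ofNat 0, .ofNat 0, .ofNat 0, .ofNat 0, .ofNat 0, .negSucc 0, .ofNat 0,
  .ofNat 0, .ofNat 1, .ofNat 1, .ofNat 0, .ofNat 0, .ofNat 0, .ofNat 0, .negSucc 0, .ofNat 0, .ofNat 0,
  .ofNat 1, .ofNat 1, .negSucc 0, .ofNat 1, .ofNat 0, .ofNat 0, .negSucc 0, .ofNat 0, .ofNat 0, .ofNat 0,
  .ofNat 0, .ofNat 0, .ofNat 2, .ofNat 0, .ofNat 0, .ofNat 0]

/-- the values at 34AB -/
def col144 : List ℤ :=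
  [.ofNat 1, .ofNat 0, .ofNat 1, .ofNat 0, .negSucc 0, .negSucc 0, .ofNat 0, .negSucc 0, .ofNat 0, .ofNat 0,
  .ofNat 0, .ofNat 0, .ofNat 1, .ofNat 1, .ofNat 0, .ofNat 0, .ofNat 0, .ofNat 0, .ofNat 0, .ofNat 0,
  .ofNat 0, .ofNat 0, .ofNat 0, .negSucc 0, .ofNat 1, .negSucc 0, .ofNat 0, .ofNat 0, .ofNat 0, .ofNat 0,
  .ofNat 0, .ofNat 0, .ofNat 0, .ofNat 1, .ofNat 0, .ofNat 0, .ofNat 0, .ofNat 0, .ofNat 0, .ofNat 0,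
  .ofNat 0, .negSucc 0, .ofNat 0, .ofNat 0, .ofNat 0, .ofNat 0, .ofNat 0, .ofNat 1, .ofNat 0, .ofNat 0,
  .ofNat 0, .ofNat 0, .ofNat 0, .ofNat 0, .ofNat 0, .negSucc 0, .ofNat 0, .ofNat 0, .ofNat 0, .ofNat 0,
  .ofNat 1, .ofNat 0, .ofNat 0, .ofNat 0, .ofNat 0, .ofNat 0, .ofNat 0, .ofNat 0, .ofNat 0, .ofNat 0,
  .ofNat 0, .ofNat 0, .negSucc 0, .ofNat 0, .ofNat 0, .ofNat 0, .ofNat 0, .ofNat 0, .ofNat 0, .ofNat 0,
  .ofNat 0, .ofNat 0, .ofNat 0, .ofNat 0, .negSucc 0, .ofNat 0, .ofNat 0, .ofNat 0, .ofNat 0, .ofNat 0,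
  .ofNat 0, .ofNat 0, .ofNat 0, .ofNat 0, .ofNat 0, .ofNat 0, .ofNat 0, .ofNat 0, .ofNat 0, .ofNat 0,
  .ofNat 0, .ofNat 0, .ofNat 0, .ofNat 0, .ofNat 0, .ofNat 0, .ofNat 0, .ofNat 0, .ofNat 0, .ofNat 0,
  .ofNat 0, .ofNat 0, .ofNat 0, .ofNat 0, .ofNat 0, .ofNat 0, .ofNat 0, .ofNat 0, .ofNat 0, .ofNat 0,
  .ofNat 0, .ofNat 0, .ofNat 0, .ofNat 0, .ofNat 0, .negSucc 0, .ofNat 0, .ofNat 0, .ofNat 0, .ofNat 0,
  .ofNat 0, .ofNat 0, .ofNat 0, .ofNat 0, .ofNat 0, .ofNat 0, .ofNat 1, .negSucc 0, .ofNat 0, .ofNat 0,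
  .ofNat 1, .ofNat 0, .ofNat 0, .ofNat 0, .ofNat 0, .ofNat 0, .ofNat 0, .ofNat 0, .ofNat 0, .ofNat 0,
  .negSucc 0, .ofNat 1, .ofNat 0, .ofNat 0, .ofNat 0, .ofNat 0, .ofNat 0, .negSucc 0, .ofNat 0, .negSucc 0,
  .ofNat 1, .ofNat 0, .ofNat 0, .ofNat 0, .ofNat 0, .ofNat 0, .ofNat 2, .ofNat 0, .negSucc 1, .ofNat 0,
  .ofNat 0, .negSucc 1, .ofNat 2, .ofNat 0, .ofNat 0]

/-- the values at 34C -/
def col145 : List ℤ :=
  [.ofNat 1, .negSucc 1, .ofNat 1, .ofNat 0, .ofNat 1, .ofNat 1, .ofNat 0, .negSucc 0, .ofNat 0, .ofNat 0,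
  .ofNat 0, .ofNat 0, .negSucc 0, .negSucc 0, .ofNat 0, .ofNat 0, .ofNat 0, .ofNat 0, .ofNat 0, .ofNat 2,
  .ofNat 0, .ofNat 0, .ofNat 0, .negSucc 0, .ofNat 1, .ofNat 1, .ofNat 0, .ofNat 0, .ofNat 0, .ofNat 0,
  .ofNat 0, .ofNat 0, .ofNat 0, .negSucc 0, .ofNat 0, .ofNat 0, .negSucc 1, .ofNat 0, .negSucc 1, .ofNat 0,
  .ofNat 0, .negSucc 0, .ofNat 0, .ofNat 0, .ofNat 0, .ofNat 0, .ofNat 0, .ofNat 1, .ofNat 0, .ofNat 0,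
  .ofNat 0, .ofNat 0, .ofNat 0, .ofNat 0, .ofNat 0, .ofNat 1, .ofNat 0, .ofNat 0, .ofNat 0, .ofNat 0,
  .ofNat 1, .ofNat 0, .ofNat 0, .ofNat 0, .ofNat 0, .ofNat 0, .ofNat 0, .ofNat 0, .ofNat 0, .ofNat 0,
  .ofNat 0, .ofNat 0, .negSucc 0, .ofNat 0, .ofNat 0, .ofNat 0, .ofNat 0, .ofNat 0, .ofNat 0, .ofNat 0,
  .ofNat 0, .ofNat 0, .ofNat 0, .ofNat 0, .ofNat 1, .ofNat 0, .ofNat 0, .ofNat 0, .ofNat 0, .ofNat 0,
  .ofNat 0, .ofNat 0, .ofNat 0, .ofNat 0, .ofNat 0, .ofNat 0, .ofNat 0, .ofNat 0, .ofNat 0, .ofNat 0,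
  .ofNat 0, .ofNat 0, .ofNat 0, .ofNat 0, .ofNat 2, .ofNat 0, .ofNat 2, .ofNat 0, .ofNat 0, .ofNat 0,
  .ofNat 0, .ofNat 0, .ofNat 0, .ofNat 0, .ofNat 0, .ofNat 0, .ofNat 0, .ofNat 0, .ofNat 0, .ofNat 0,
  .ofNat 0, .ofNat 0, .ofNat 0, .ofNat 0, .ofNat 0, .negSucc 0, .ofNat 0, .ofNat 0, .ofNat 0, .ofNat 0,
  .ofNat 0, .ofNat 0, .ofNat 0, .ofNat 0, .ofNat 0, .ofNat 0, .negSucc 0, .ofNat 1, .ofNat 0, .ofNat 0,
  .ofNat 1, .ofNat 0, .ofNat 0, .ofNat 0, .ofNat 0, .ofNat 0, .ofNat 0, .ofNat 0, .ofNat 0, .ofNat 0,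
  .ofNat 1, .ofNat 1, .negSucc 1, .ofNat 0, .ofNat 0, .ofNat 0, .ofNat 0, .ofNat 1, .ofNat 0, .negSucc 0,
  .negSucc 0, .ofNat 0, .ofNat 2, .ofNat 0, .ofNat 0, .ofNat 0, .ofNat 2, .ofNat 0, .ofNat 2, .ofNat 0,
  .ofNat 0, .negSucc 1, .negSucc 1, .negSucc 1, .ofNat 0]

/-- the values at 35A -/
def col146 : List ℤ :=
  [.ofNat 1, .ofNat 0, .negSucc 0, .ofNat 1, .ofNat 0, .ofNat 0, .ofNat 0, .ofNat 0, .negSucc 0, .negSucc 0,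
  .ofNat 0, .ofNat 0, .ofNat 0, .ofNat 1, .ofNat 1, .ofNat 1, .ofNat 1, .ofNat 0, .ofNat 0, .ofNat 0,
  .ofNat 1, .negSucc 0, .ofNat 0, .ofNat 0, .ofNat 0, .ofNat 0, .negSucc 0, .ofNat 1, .negSucc 1, .ofNat 1,
  .ofNat 0, .negSucc 0, .ofNat 0, .negSucc 0, .ofNat 0, .negSucc 0, .ofNat 2, .ofNat 0, .ofNat 0, .ofNat 0,
  .ofNat 0, .ofNat 0, .ofNat 0, .ofNat 0, .negSucc 0, .ofNat 0, .ofNat 0, .ofNat 0, .ofNat 0, .ofNat 0,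
  .ofNat 0, .ofNat 1, .ofNat 0, .negSucc 0, .ofNat 0, .ofNat 0, .negSucc 0, .negSucc 0, .ofNat 0, .ofNat 0,
  .ofNat 1, .negSucc 0, .ofNat 0, .ofNat 0, .ofNat 0, .ofNat 0, .ofNat 0, .ofNat 0, .ofNat 0, .ofNat 0,
  .ofNat 0, .ofNat 0, .negSucc 0, .ofNat 0, .ofNat 0, .ofNat 0, .ofNat 0, .ofNat 0, .ofNat 1, .ofNat 1,
  .ofNat 1, .ofNat 0, .ofNat 0, .ofNat 0, .ofNat 1, .ofNat 0, .ofNat 0, .ofNat 1, .ofNat 0, .negSucc 0,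
  .ofNat 1, .ofNat 0, .ofNat 0, .ofNat 0, .ofNat 0, .ofNat 0, .ofNat 0, .ofNat 0, .ofNat 0, .ofNat 2,
  .ofNat 0, .ofNat 0, .negSucc 0, .ofNat 1, .ofNat 0, .ofNat 0, .ofNat 2, .ofNat 0, .ofNat 0, .ofNat 0,
  .ofNat 0, .ofNat 0, .ofNat 0, .negSucc 0, .ofNat 0, .ofNat 0, .ofNat 0, .ofNat 0, .ofNat 0, .ofNat 0,
  .ofNat 0, .negSucc 0, .negSucc 0, .ofNat 0, .ofNat 0, .ofNat 0, .ofNat 0, .ofNat 0, .ofNat 0, .ofNat 0,
  .ofNat 0, .ofNat 0, .ofNat 0, .ofNat 0, .ofNat 1, .ofNat 1, .ofNat 0, .ofNat 0, .negSucc 0, .negSucc 0,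
  .ofNat 0, .ofNat 0, .ofNat 0, .negSucc 0, .ofNat 0, .ofNat 0, .ofNat 0, .negSucc 0, .ofNat 0, .negSucc 0,
  .negSucc 0, .negSucc 0, .ofNat 0, .ofNat 0, .ofNat 0, .ofNat 0, .ofNat 1, .ofNat 1, .negSucc 0, .ofNat 1,
  .ofNat 1, .ofNat 1, .ofNat 0, .ofNat 0, .ofNat 0, .ofNat 0, .ofNat 0, .ofNat 0, .ofNat 0, .ofNat 2,
  .ofNat 0, .ofNat 0, .ofNat 0, .ofNat 0, .ofNat 0]

/-- the values at 36A -/
def col147 : List ℤ :=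
  [.ofNat 1, .ofNat 0, .ofNat 1, .ofNat 0, .negSucc 0, .negSucc 0, .negSucc 1, .negSucc 0, .ofNat 2,
  .ofNat 1, .ofNat 1, .ofNat 0, .ofNat 1, .ofNat 1, .ofNat 1, .negSucc 1, .negSucc 0, .ofNat 1, .negSucc 3,
  .negSucc 1, .negSucc 1, .ofNat 1, .ofNat 0, .ofNat 0, .ofNat 0, .ofNat 0, .ofNat 0, .ofNat 0, .ofNat 0,
  .ofNat 0, .ofNat 0, .ofNat 2, .ofNat 0, .negSucc 0, .ofNat 0, .ofNat 1, .ofNat 0, .ofNat 2, .negSucc 1,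
  .ofNat 1, .negSucc 0, .negSucc 0, .ofNat 1, .ofNat 2, .negSucc 1, .negSucc 0, .ofNat 0, .ofNat 0, .ofNat 0,
  .ofNat 0, .ofNat 0, .ofNat 0, .negSucc 0, .ofNat 0, .ofNat 0, .ofNat 1, .negSucc 0, .ofNat 0, .ofNat 2,
  .negSucc 0, .ofNat 0, .ofNat 0, .negSucc 0, .ofNat 0, .ofNat 0, .ofNat 0, .ofNat 0, .ofNat 1, .ofNat 3,
  .ofNat 0, .negSucc 3, .ofNat 2, .ofNat 0, .ofNat 0, .ofNat 0, .negSucc 0, .ofNat 1, .ofNat 1, .ofNat 0,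
  .negSucc 1, .ofNat 0, .ofNat 0, .ofNat 0, .ofNat 0, .ofNat 0, .ofNat 1, .negSucc 1, .ofNat 0, .negSucc 0,
  .negSucc 1, .ofNat 1, .ofNat 2, .ofNat 0, .ofNat 0, .ofNat 0, .ofNat 1, .ofNat 0, .ofNat 1, .ofNat 0,
  .ofNat 2, .negSucc 1, .ofNat 0, .negSucc 0, .ofNat 2, .ofNat 0, .negSucc 0, .ofNat 0, .ofNat 1, .negSucc 0,
  .negSucc 1, .ofNat 0, .ofNat 0, .ofNat 0, .ofNat 0, .ofNat 1, .ofNat 3, .ofNat 1, .ofNat 0, .ofNat 0,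
  .ofNat 1, .negSucc 0, .ofNat 0, .ofNat 0, .negSucc 0, .negSucc 0, .ofNat 0, .ofNat 1, .ofNat 1, .ofNat 1,
  .ofNat 0, .ofNat 0, .ofNat 0, .ofNat 0, .ofNat 0, .ofNat 0, .ofNat 0, .ofNat 0, .ofNat 2, .ofNat 1,
  .ofNat 0, .ofNat 0, .ofNat 0, .negSucc 0, .ofNat 0, .ofNat 0, .ofNat 0, .ofNat 0, .ofNat 0, .negSucc 0,
  .ofNat 0, .ofNat 0, .ofNat 0, .ofNat 0, .ofNat 0, .ofNat 0, .ofNat 1, .ofNat 0, .ofNat 0, .ofNat 1,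
  .ofNat 0, .ofNat 0, .ofNat 0, .ofNat 0, .negSucc 1, .ofNat 0, .ofNat 2, .negSucc 1, .negSucc 1, .ofNat 0,
  .ofNat 0, .negSucc 3, .ofNat 2, .ofNat 0, .ofNat 0, .negSucc 3]

/-- the values at 36B -/
def col148 : List ℤ :=
  [.ofNat 1, .ofNat 0, .negSucc 0, .ofNat 0, .ofNat 1, .negSucc 0, .ofNat 0, .ofNat 1, .ofNat 0, .negSucc 0,
  .ofNat 1, .ofNat 0, .negSucc 0, .ofNat 1, .ofNat 1, .ofNat 0, .negSucc 0, .ofNat 1, .ofNat 0, .ofNat 0,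
  .negSucc 1, .ofNat 1, .ofNat 0, .ofNat 0, .ofNat 0, .ofNat 0, .ofNat 0, .ofNat 0, .ofNat 0, .ofNat 0,
  .negSucc 1, .ofNat 0, .ofNat 0, .ofNat 1, .ofNat 0, .negSucc 0, .ofNat 0, .ofNat 0, .ofNat 0, .ofNat 1,
  .ofNat 1, .negSucc 0, .ofNat 1, .ofNat 0, .ofNat 0, .negSucc 0, .ofNat 0, .ofNat 0, .ofNat 0, .ofNat 0,
  .ofNat 0, .ofNat 0, .ofNat 1, .ofNat 0, .ofNat 0, .ofNat 1, .ofNat 1, .ofNat 0, .ofNat 0, .negSucc 0,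
  .ofNat 0, .ofNat 0, .ofNat 1, .ofNat 0, .ofNat 0, .ofNat 0, .ofNat 0, .negSucc 0, .ofNat 1, .ofNat 0,
  .ofNat 0, .ofNat 0, .ofNat 0, .ofNat 0, .ofNat 0, .negSucc 0, .ofNat 1, .negSucc 0, .ofNat 0, .ofNat 0,
  .negSucc 1, .ofNat 0, .ofNat 0, .ofNat 0, .ofNat 0, .ofNat 1, .ofNat 0, .ofNat 0, .ofNat 1, .ofNat 0,
  .negSucc 0, .ofNat 0, .ofNat 0, .ofNat 0, .ofNat 0, .negSucc 0, .ofNat 0, .ofNat 1, .ofNat 0, .ofNat 0,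
  .ofNat 0, .ofNat 0, .negSucc 0, .ofNat 0, .ofNat 0, .negSucc 0, .ofNat 0, .ofNat 1, .ofNat 1, .ofNat 0,
  .ofNat 0, .ofNat 0, .ofNat 0, .ofNat 0, .negSucc 0, .negSucc 0, .ofNat 1, .ofNat 0, .ofNat 0, .negSucc 0,
  .negSucc 0, .ofNat 0, .ofNat 0, .ofNat 1, .ofNat 1, .ofNat 0, .ofNat 1, .negSucc 0, .negSucc 0, .ofNat 0,
  .ofNat 0, .ofNat 0, .ofNat 0, .ofNat 0, .ofNat 0, .ofNat 0, .ofNat 0, .ofNat 0, .negSucc 0, .ofNat 0,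
  .ofNat 0, .ofNat 0, .ofNat 1, .ofNat 0, .ofNat 0, .ofNat 0, .ofNat 0, .ofNat 0, .ofNat 1, .ofNat 0,
  .ofNat 0, .ofNat 0, .ofNat 0, .ofNat 0, .ofNat 0, .ofNat 1, .ofNat 0, .ofNat 0, .negSucc 0, .ofNat 0,
  .ofNat 0, .ofNat 0, .ofNat 0, .ofNat 0, .ofNat 0, .ofNat 0, .ofNat 2, .ofNat 2, .ofNat 0, .ofNat 0,
  .ofNat 0, .ofNat 2, .ofNat 0, .ofNat 0, .ofNat 0]

/-- the values at 36C -/
def col149 : List ℤ :=
  [.ofNat 1, .negSucc 0, .ofNat 0, .ofNat 1, .ofNat 0, .ofNat 0, .ofNat 0, .negSucc 0, .ofNat 0, .ofNat 1,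
  .ofNat 0, .ofNat 0, .ofNat 0, .ofNat 0, .negSucc 0, .negSucc 0, .ofNat 1, .ofNat 0, .ofNat 0, .negSucc 0,
  .ofNat 1, .ofNat 0, .ofNat 0, .ofNat 0, .negSucc 0, .ofNat 0, .ofNat 0, .ofNat 0, .ofNat 0, .ofNat 0,
  .ofNat 1, .ofNat 0, .ofNat 0, .ofNat 0, .ofNat 1, .ofNat 1, .ofNat 0, .negSucc 0, .ofNat 0, .ofNat 0,
  .ofNat 0, .ofNat 0, .negSucc 0, .ofNat 0, .ofNat 0, .ofNat 0, .ofNat 0, .negSucc 0, .ofNat 0, .ofNat 1,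
  .ofNat 0, .ofNat 0, .ofNat 0, .ofNat 0, .ofNat 0, .ofNat 0, .ofNat 0, .ofNat 0, .ofNat 0, .ofNat 0,
  .ofNat 0, .ofNat 0, .ofNat 0, .ofNat 0, .ofNat 1, .ofNat 0, .ofNat 0, .ofNat 0, .ofNat 0, .ofNat 0,
  .negSucc 0, .ofNat 0, .ofNat 0, .ofNat 0, .negSucc 0, .ofNat 0, .ofNat 0, .ofNat 0, .ofNat 0, .ofNat 0,
  .ofNat 0, .ofNat 0, .ofNat 0, .ofNat 0, .ofNat 0, .ofNat 0, .ofNat 0, .ofNat 0, .ofNat 1, .ofNat 1,
  .ofNat 0, .negSucc 0, .ofNat 0, .ofNat 0, .ofNat 0, .ofNat 0, .ofNat 0, .ofNat 0, .ofNat 0, .ofNat 0,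
  .ofNat 0, .ofNat 0, .ofNat 0, .ofNat 1, .ofNat 0, .ofNat 0, .ofNat 0, .ofNat 1, .ofNat 0, .ofNat 0,
  .ofNat 0, .ofNat 0, .ofNat 0, .ofNat 0, .negSucc 0, .negSucc 0, .ofNat 1, .ofNat 0, .ofNat 0, .ofNat 0,
  .ofNat 0, .ofNat 0, .ofNat 0, .ofNat 0, .ofNat 0, .ofNat 0, .ofNat 0, .negSucc 0, .negSucc 0, .ofNat 0,
  .ofNat 0, .ofNat 1, .ofNat 0, .ofNat 0, .ofNat 0, .ofNat 0, .ofNat 0, .ofNat 0, .ofNat 0, .ofNat 0,
  .ofNat 0, .ofNat 0, .ofNat 0, .ofNat 0, .ofNat 0, .ofNat 0, .ofNat 0, .ofNat 0, .ofNat 0, .ofNat 0,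
  .ofNat 0, .ofNat 0, .ofNat 0, .ofNat 0, .ofNat 0, .ofNat 0, .ofNat 0, .ofNat 0, .ofNat 0, .ofNat 0,
  .ofNat 0, .ofNat 0, .ofNat 0, .negSucc 0, .ofNat 0, .ofNat 1, .ofNat 0, .ofNat 2, .ofNat 0, .ofNat 0,
  .ofNat 0, .ofNat 0, .ofNat 0, .ofNat 0, .ofNat 0]

/-- the values at 38A -/
def col150 : List ℤ :=
  [.ofNat 1, .ofNat 1, .negSucc 0, .negSucc 0, .ofNat 1, .ofNat 0, .ofNat 0, .ofNat 0, .negSucc 0, .ofNat 0,
  .ofNat 0, .ofNat 0, .ofNat 0, .ofNat 0, .ofNat 0, .ofNat 0, .ofNat 0, .ofNat 1, .ofNat 0, .ofNat 1,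
  .ofNat 0, .ofNat 0, .ofNat 0, .ofNat 0, .ofNat 0, .negSucc 0, .ofNat 0, .ofNat 0, .ofNat 0, .negSucc 0,
  .ofNat 0, .ofNat 0, .ofNat 0, .ofNat 0, .ofNat 0, .ofNat 0, .ofNat 0, .negSucc 0, .ofNat 0, .ofNat 0,
  .ofNat 0, .ofNat 0, .ofNat 0, .ofNat 0, .ofNat 0, .ofNat 1, .ofNat 0, .ofNat 0, .ofNat 0, .ofNat 0,
  .ofNat 0, .ofNat 0, .ofNat 0, .ofNat 0, .ofNat 0, .ofNat 0, .ofNat 0, .ofNat 0, .ofNat 0, .negSucc 0,
  .ofNat 0, .ofNat 0, .ofNat 0, .ofNat 0, .ofNat 0, .ofNat 0, .ofNat 0, .ofNat 0, .ofNat 0, .ofNat 0,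
  .ofNat 0, .ofNat 0, .ofNat 0, .ofNat 0, .ofNat 0, .ofNat 0, .ofNat 0, .ofNat 0, .ofNat 0, .ofNat 0,
  .ofNat 0, .ofNat 0, .ofNat 0, .negSucc 0, .ofNat 0, .ofNat 0, .ofNat 0, .ofNat 0, .ofNat 0, .ofNat 0,
  .ofNat 1, .ofNat 0, .ofNat 0, .ofNat 0, .ofNat 0, .ofNat 0, .ofNat 0, .ofNat 0, .negSucc 0, .ofNat 0,
  .ofNat 0, .ofNat 1, .ofNat 0, .ofNat 0, .ofNat 0, .ofNat 0, .ofNat 0, .ofNat 0, .ofNat 0, .ofNat 0,
  .ofNat 0, .ofNat 0, .ofNat 0, .ofNat 1, .ofNat 0, .ofNat 0, .ofNat 0, .ofNat 0, .ofNat 0, .ofNat 0,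
  .ofNat 0, .ofNat 0, .ofNat 0, .ofNat 0, .ofNat 0, .ofNat 0, .ofNat 0, .ofNat 0, .ofNat 0, .ofNat 1,
  .ofNat 0, .ofNat 0, .ofNat 0, .ofNat 0, .ofNat 0, .ofNat 0, .ofNat 0, .ofNat 0, .ofNat 0, .ofNat 0,
  .ofNat 0, .ofNat 0, .negSucc 0, .ofNat 0, .ofNat 0, .ofNat 0, .negSucc 0, .ofNat 0, .ofNat 0, .ofNat 0,
  .ofNat 1, .negSucc 0, .ofNat 0, .ofNat 0, .ofNat 0, .ofNat 0, .ofNat 0, .ofNat 0, .ofNat 0, .ofNat 1,
  .negSucc 0, .ofNat 1, .ofNat 1, .negSucc 0, .ofNat 0, .ofNat 0, .ofNat 0, .ofNat 0, .negSucc 1, .negSucc 1,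
  .ofNat 0, .negSucc 1, .ofNat 0, .ofNat 2, .negSucc 1]

/-- the values at 39A -/
def col151 : List ℤ :=
  [.ofNat 1, .ofNat 0, .ofNat 0, .negSucc 0, .negSucc 0, .ofNat 0, .ofNat 0, .ofNat 0, .ofNat 1, .ofNat 0,
  .ofNat 1, .ofNat 0, .ofNat 0, .ofNat 0, .ofNat 0, .ofNat 1, .ofNat 0, .negSucc 0, .ofNat 0, .ofNat 1,
  .ofNat 0, .ofNat 0, .ofNat 0, .ofNat 0, .negSucc 0, .ofNat 1, .ofNat 0, .ofNat 0, .negSucc 0, .ofNat 0,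
  .negSucc 0, .ofNat 0, .ofNat 0, .ofNat 0, .ofNat 0, .negSucc 0, .ofNat 0, .ofNat 0, .ofNat 0, .ofNat 0,
  .ofNat 0, .ofNat 1, .ofNat 0, .ofNat 0, .ofNat 0, .ofNat 0, .ofNat 0, .ofNat 0, .ofNat 0, .ofNat 0,
  .ofNat 1, .ofNat 0, .ofNat 0, .ofNat 0, .ofNat 0, .ofNat 0, .ofNat 0, .ofNat 0, .ofNat 1, .ofNat 0,
  .ofNat 0, .ofNat 0, .negSucc 0, .negSucc 0, .ofNat 0, .ofNat 0, .ofNat 1, .ofNat 0, .ofNat 0, .ofNat 0,
  .negSucc 0, .ofNat 0, .ofNat 0, .ofNat 0, .ofNat 0, .ofNat 0, .ofNat 0, .ofNat 0, .ofNat 0, .ofNat 1,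
  .ofNat 1, .ofNat 0, .ofNat 0, .ofNat 0, .negSucc 0, .ofNat 0, .ofNat 1, .ofNat 1, .ofNat 0, .ofNat 0,
  .ofNat 0, .ofNat 0, .negSucc 0, .ofNat 0, .ofNat 0, .ofNat 0, .ofNat 0, .ofNat 0, .ofNat 0, .ofNat 0,
  .ofNat 0, .ofNat 0, .negSucc 0, .ofNat 0, .ofNat 0, .ofNat 0, .negSucc 0, .ofNat 0, .ofNat 0, .ofNat 0,
  .negSucc 0, .ofNat 0, .ofNat 1, .ofNat 1, .ofNat 0, .ofNat 0, .ofNat 0, .ofNat 0, .ofNat 0, .ofNat 0,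
  .ofNat 0, .ofNat 0, .ofNat 0, .ofNat 0, .ofNat 0, .ofNat 0, .ofNat 0, .ofNat 0, .ofNat 0, .ofNat 0,
  .ofNat 0, .ofNat 0, .ofNat 0, .ofNat 0, .ofNat 0, .ofNat 0, .ofNat 0, .ofNat 0, .ofNat 0, .ofNat 0,
  .ofNat 0, .ofNat 0, .ofNat 0, .ofNat 0, .negSucc 0, .ofNat 0, .ofNat 0, .ofNat 1, .negSucc 0, .ofNat 0,
  .ofNat 1, .ofNat 1, .ofNat 0, .ofNat 0, .ofNat 0, .negSucc 0, .ofNat 0, .ofNat 0, .ofNat 0, .ofNat 0,
  .ofNat 0, .ofNat 0, .ofNat 0, .ofNat 0, .ofNat 0, .ofNat 0, .ofNat 0, .ofNat 2, .ofNat 0, .ofNat 0,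
  .ofNat 0, .ofNat 0, .ofNat 0, .ofNat 0, .ofNat 0]

/-- the values at 40A -/
def col152 : List ℤ :=
  [.ofNat 1, .ofNat 1, .negSucc 0, .negSucc 2, .ofNat 1, .ofNat 0, .ofNat 1, .negSucc 0, .ofNat 0, .ofNat 1,
  .ofNat 2, .negSucc 0, .ofNat 2, .negSucc 0, .negSucc 2, .negSucc 0, .negSucc 1, .ofNat 1, .ofNat 0,
  .ofNat 2, .ofNat 1, .negSucc 1, .negSucc 1, .ofNat 3, .ofNat 1, .ofNat 0, .ofNat 2, .ofNat 0, .negSucc 0,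
  .ofNat 1, .ofNat 0, .negSucc 1, .ofNat 0, .ofNat 1, .negSucc 1, .negSucc 1, .negSucc 0, .negSucc 0,
  .ofNat 0, .ofNat 1, .ofNat 1, .negSucc 1, .ofNat 0, .ofNat 0, .negSucc 1, .ofNat 0, .ofNat 0, .negSucc 1,
  .negSucc 0, .ofNat 0, .ofNat 3, .ofNat 0, .negSucc 0, .negSucc 1, .negSucc 0, .ofNat 0, .ofNat 2, .ofNat 2,
  .negSucc 1, .negSucc 0, .ofNat 2, .negSucc 0, .ofNat 2, .ofNat 1, .ofNat 0, .ofNat 1, .ofNat 2, .ofNat 1,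
  .ofNat 1, .ofNat 1, .ofNat 0, .ofNat 0, .ofNat 1, .ofNat 3, .ofNat 2, .negSucc 1, .ofNat 0, .ofNat 0,
  .ofNat 0, .ofNat 1, .ofNat 1, .ofNat 0, .ofNat 2, .ofNat 1, .negSucc 1, .negSucc 1, .ofNat 0, .negSucc 1,
  .ofNat 0, .ofNat 0, .ofNat 2, .ofNat 0, .negSucc 0, .negSucc 2, .ofNat 3, .ofNat 0, .negSucc 0, .ofNat 0,
  .ofNat 2, .ofNat 0, .ofNat 0, .negSucc 3, .ofNat 1, .ofNat 2, .ofNat 0, .ofNat 0, .ofNat 0, .ofNat 0,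
  .negSucc 1, .ofNat 0, .ofNat 3, .ofNat 2, .ofNat 0, .negSucc 1, .ofNat 0, .ofNat 0, .ofNat 0, .ofNat 1,
  .ofNat 0, .ofNat 0, .ofNat 0, .ofNat 1, .negSucc 0, .ofNat 1, .ofNat 0, .ofNat 0, .ofNat 0, .ofNat 0,
  .ofNat 0, .negSucc 1, .ofNat 0, .ofNat 0, .negSucc 0, .negSucc 2, .negSucc 1, .negSucc 1, .negSucc 0,
  .ofNat 0, .ofNat 0, .ofNat 0, .ofNat 0, .ofNat 0, .ofNat 0, .ofNat 0, .ofNat 1, .ofNat 2, .ofNat 0,
  .ofNat 0, .ofNat 1, .negSucc 3, .ofNat 0, .ofNat 0, .ofNat 0, .ofNat 0, .ofNat 1, .ofNat 0, .negSucc 0,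
  .ofNat 2, .ofNat 2, .ofNat 0, .ofNat 0, .ofNat 0, .negSucc 1, .ofNat 0, .ofNat 0, .ofNat 2, .ofNat 0,
  .ofNat 0, .ofNat 0, .ofNat 0, .ofNat 0, .ofNat 0, .ofNat 0, .ofNat 0, .ofNat 0]

/-- the values at 40B -/
def col153 : List ℤ :=
  [.ofNat 1, .negSucc 2, .ofNat 3, .negSucc 2, .ofNat 1, .ofNat 4, .negSucc 2, .ofNat 3, .ofNat 0,
  .negSucc 2, .ofNat 2, .negSucc 0, .negSucc 1, .negSucc 0, .ofNat 1, .negSucc 0, .ofNat 2, .ofNat 1,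
  .ofNat 0, .ofNat 2, .ofNat 1, .negSucc 1, .negSucc 1, .negSucc 0, .ofNat 1, .negSucc 3, .negSucc 1,
  .ofNat 0, .ofNat 3, .ofNat 1, .ofNat 0, .ofNat 2, .ofNat 0, .ofNat 1, .ofNat 2, .ofNat 2, .ofNat 3,
  .negSucc 0, .ofNat 0, .negSucc 2, .ofNat 1, .negSucc 1, .ofNat 0, .ofNat 0, .negSucc 1, .ofNat 0, .ofNat 0,
  .negSucc 1, .negSucc 0, .ofNat 0, .negSucc 0, .ofNat 0, .negSucc 0, .ofNat 2, .negSucc 0, .ofNat 0,
  .negSucc 1, .negSucc 1, .ofNat 2, .negSucc 0, .negSucc 1, .negSucc 0, .ofNat 2, .ofNat 1, .ofNat 0,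
  .ofNat 1, .ofNat 2, .ofNat 1, .ofNat 1, .ofNat 1, .ofNat 0, .ofNat 0, .ofNat 1, .negSucc 0, .ofNat 2,
  .negSucc 1, .ofNat 0, .ofNat 0, .ofNat 0, .ofNat 1, .ofNat 1, .ofNat 0, .ofNat 2, .ofNat 1, .negSucc 1,
  .negSucc 1, .ofNat 0, .ofNat 2, .ofNat 0, .ofNat 0, .negSucc 1, .ofNat 0, .negSucc 0, .ofNat 1, .negSucc 0,
  .ofNat 0, .negSucc 0, .ofNat 0, .ofNat 2, .ofNat 0, .ofNat 0, .ofNat 0, .ofNat 1, .negSucc 1, .ofNat 0,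
  .ofNat 0, .ofNat 0, .ofNat 0, .negSucc 1, .ofNat 0, .negSucc 0, .negSucc 1, .ofNat 0, .ofNat 2, .ofNat 0,
  .ofNat 0, .ofNat 0, .ofNat 1, .ofNat 0, .ofNat 0, .ofNat 0, .ofNat 1, .negSucc 0, .ofNat 1, .ofNat 0,
  .ofNat 0, .ofNat 0, .ofNat 0, .ofNat 0, .negSucc 1, .ofNat 0, .ofNat 0, .negSucc 0, .ofNat 1, .ofNat 2,
  .ofNat 2, .negSucc 0, .ofNat 0, .ofNat 0, .ofNat 0, .ofNat 0, .ofNat 0, .ofNat 0, .ofNat 0, .ofNat 1,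
  .ofNat 2, .ofNat 0, .ofNat 0, .ofNat 1, .ofNat 0, .ofNat 0, .ofNat 0, .ofNat 0, .ofNat 0, .ofNat 1,
  .ofNat 0, .negSucc 0, .negSucc 1, .negSucc 1, .ofNat 0, .ofNat 0, .ofNat 0, .negSucc 1, .ofNat 0, .ofNat 0,
  .ofNat 2, .ofNat 0, .ofNat 0, .ofNat 0, .ofNat 0, .ofNat 0, .ofNat 0, .ofNat 0, .ofNat 0, .ofNat 0]

/-- the values at 40C -/
def col154 : List ℤ :=
  [.ofNat 1, .negSucc 0, .ofNat 1, .negSucc 0, .negSucc 0, .ofNat 0, .negSucc 0, .ofNat 1, .ofNat 2,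
  .ofNat 1, .ofNat 0, .negSucc 0, .ofNat 0, .negSucc 0, .ofNat 1, .negSucc 0, .ofNat 0, .ofNat 1, .ofNat 2,
  .negSucc 1, .negSucc 0, .ofNat 2, .ofNat 0, .ofNat 1, .ofNat 1, .negSucc 1, .ofNat 0, .ofNat 0, .negSucc 0,
  .ofNat 1, .ofNat 0, .ofNat 0, .ofNat 0, .ofNat 1, .ofNat 0, .ofNat 0, .ofNat 1, .negSucc 0, .ofNat 0,
  .negSucc 0, .ofNat 1, .negSucc 1, .ofNat 0, .ofNat 0, .ofNat 0, .ofNat 2, .ofNat 0, .negSucc 1, .negSucc 0,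
  .ofNat 0, .ofNat 1, .ofNat 0, .negSucc 0, .ofNat 0, .ofNat 1, .ofNat 0, .ofNat 0, .negSucc 1, .ofNat 0,
  .ofNat 1, .ofNat 0, .ofNat 1, .negSucc 1, .ofNat 1, .ofNat 0, .negSucc 0, .ofNat 2, .negSucc 0, .negSucc 0,
  .ofNat 1, .ofNat 0, .ofNat 0, .ofNat 1, .ofNat 1, .ofNat 2, .ofNat 2, .ofNat 0, .ofNat 0, .ofNat 0,
  .negSucc 0, .negSucc 0, .ofNat 0, .negSucc 1, .negSucc 0, .ofNat 0, .negSucc 1, .ofNat 0, .ofNat 0,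
  .ofNat 0, .ofNat 0, .ofNat 0, .ofNat 0, .ofNat 1, .ofNat 1, .ofNat 1, .ofNat 0, .negSucc 0, .ofNat 0,
  .negSucc 1, .ofNat 0, .ofNat 0, .ofNat 0, .negSucc 0, .ofNat 0, .ofNat 0, .ofNat 0, .ofNat 0, .ofNat 0,
  .ofNat 2, .ofNat 0, .ofNat 1, .ofNat 0, .ofNat 0, .ofNat 0, .ofNat 0, .ofNat 0, .ofNat 0, .negSucc 0,
  .ofNat 0, .ofNat 0, .ofNat 0, .ofNat 1, .ofNat 1, .negSucc 0, .ofNat 0, .ofNat 0, .ofNat 0, .ofNat 0,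
  .ofNat 0, .ofNat 0, .ofNat 0, .ofNat 0, .ofNat 1, .negSucc 0, .ofNat 0, .ofNat 0, .negSucc 0, .ofNat 0,
  .ofNat 0, .ofNat 0, .ofNat 0, .negSucc 1, .ofNat 0, .ofNat 0, .ofNat 1, .negSucc 1, .ofNat 0, .ofNat 2,
  .negSucc 0, .negSucc 1, .ofNat 0, .ofNat 0, .ofNat 0, .ofNat 0, .ofNat 1, .ofNat 0, .ofNat 1, .ofNat 2,
  .ofNat 0, .ofNat 0, .ofNat 0, .ofNat 0, .ofNat 2, .ofNat 0, .ofNat 0, .negSucc 1, .ofNat 0, .ofNat 0,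
  .ofNat 0, .ofNat 4, .ofNat 0, .ofNat 0, .ofNat 0, .ofNat 0, .ofNat 0]

/-- the values at 40D -/
def col155 : List ℤ :=
  [.ofNat 1, .negSucc 0, .negSucc 0, .ofNat 1, .ofNat 1, .ofNat 0, .ofNat 1, .negSucc 0, .ofNat 0,
  .negSucc 0, .ofNat 0, .ofNat 1, .ofNat 0, .ofNat 1, .negSucc 0, .ofNat 1, .ofNat 0, .negSucc 0, .ofNat 0,
  .ofNat 0, .negSucc 0, .ofNat 0, .ofNat 0, .ofNat 1, .ofNat 1, .ofNat 0, .ofNat 0, .ofNat 0, .negSucc 0,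
  .negSucc 0, .ofNat 0, .ofNat 0, .ofNat 0, .ofNat 1, .ofNat 0, .ofNat 0, .ofNat 1, .ofNat 1, .ofNat 0,
  .negSucc 0, .negSucc 0, .ofNat 0, .ofNat 0, .ofNat 2, .ofNat 0, .ofNat 0, .ofNat 0, .ofNat 0, .negSucc 0,
  .negSucc 1, .negSucc 0, .ofNat 0, .negSucc 0, .ofNat 0, .negSucc 0, .ofNat 0, .ofNat 0, .ofNat 0, .ofNat 0,
  .negSucc 0, .ofNat 0, .ofNat 1, .ofNat 0, .ofNat 1, .ofNat 0, .ofNat 1, .ofNat 0, .ofNat 1, .negSucc 0,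
  .negSucc 0, .ofNat 0, .ofNat 0, .ofNat 1, .ofNat 1, .ofNat 0, .ofNat 0, .ofNat 0, .ofNat 0, .negSucc 1,
  .ofNat 1, .negSucc 0, .ofNat 0, .ofNat 0, .ofNat 1, .ofNat 0, .ofNat 0, .ofNat 0, .ofNat 0, .ofNat 2,
  .ofNat 0, .ofNat 0, .ofNat 0, .negSucc 0, .ofNat 1, .negSucc 0, .ofNat 0, .negSucc 0, .ofNat 0, .ofNat 0,
  .ofNat 0, .ofNat 0, .ofNat 0, .ofNat 1, .ofNat 0, .ofNat 0, .ofNat 0, .ofNat 0, .ofNat 0, .ofNat 0,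
  .ofNat 0, .ofNat 1, .ofNat 0, .ofNat 0, .ofNat 0, .ofNat 0, .ofNat 0, .ofNat 0, .negSucc 0, .ofNat 0,
  .ofNat 0, .ofNat 0, .ofNat 1, .ofNat 1, .negSucc 0, .ofNat 0, .ofNat 0, .ofNat 0, .ofNat 0, .ofNat 0,
  .ofNat 0, .ofNat 0, .ofNat 0, .negSucc 0, .ofNat 1, .ofNat 0, .ofNat 0, .negSucc 0, .ofNat 0, .ofNat 2,
  .ofNat 0, .ofNat 0, .ofNat 0, .ofNat 0, .negSucc 1, .negSucc 0, .ofNat 0, .ofNat 0, .ofNat 0, .negSucc 0,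
  .ofNat 0, .ofNat 0, .ofNat 0, .ofNat 0, .ofNat 0, .ofNat 1, .ofNat 0, .ofNat 1, .ofNat 0, .ofNat 0,
  .ofNat 0, .ofNat 0, .ofNat 0, .ofNat 0, .ofNat 0, .ofNat 0, .ofNat 0, .ofNat 0, .ofNat 0, .ofNat 0,
  .ofNat 0, .ofNat 0, .ofNat 0, .ofNat 0, .ofNat 0, .ofNat 0]

/-- the values at 40E -/
def col156 : List ℤ :=
  [.ofNat 1, .ofNat 0, .negSucc 0, .negSucc 0, .ofNat 0, .ofNat 0, .ofNat 1, .ofNat 1, .ofNat 0, .ofNat 1,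
  .negSucc 0, .negSucc 0, .ofNat 0, .ofNat 0, .ofNat 0, .negSucc 0, .negSucc 0, .ofNat 0, .ofNat 0, .ofNat 0,
  .ofNat 1, .ofNat 0, .ofNat 0, .ofNat 0, .ofNat 0, .negSucc 0, .ofNat 0, .ofNat 0, .ofNat 0, .ofNat 0,
  .ofNat 0, .ofNat 0, .negSucc 0, .ofNat 0, .negSucc 0, .ofNat 0, .ofNat 0, .ofNat 0, .ofNat 0, .ofNat 1,
  .negSucc 0, .ofNat 0, .ofNat 0, .ofNat 0, .ofNat 0, .ofNat 0, .ofNat 1, .ofNat 0, .ofNat 0, .ofNat 0,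
  .ofNat 1, .ofNat 0, .ofNat 1, .ofNat 1, .ofNat 0, .ofNat 0, .ofNat 0, .ofNat 0, .ofNat 0, .ofNat 0,
  .ofNat 1, .ofNat 0, .ofNat 0, .ofNat 1, .ofNat 0, .ofNat 0, .ofNat 0, .ofNat 0, .ofNat 0, .ofNat 0,
  .ofNat 0, .ofNat 0, .ofNat 0, .ofNat 1, .ofNat 0, .ofNat 0, .ofNat 0, .ofNat 0, .ofNat 0, .ofNat 0,
  .ofNat 0, .negSucc 0, .ofNat 0, .ofNat 0, .ofNat 0, .ofNat 0, .ofNat 0, .ofNat 0, .ofNat 0, .ofNat 0,
  .ofNat 0, .ofNat 0, .ofNat 0, .ofNat 0, .negSucc 1, .ofNat 0, .ofNat 0, .ofNat 0, .ofNat 0, .ofNat 0,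
  .ofNat 0, .ofNat 0, .ofNat 0, .ofNat 0, .ofNat 0, .ofNat 0, .ofNat 0, .ofNat 0, .ofNat 0, .ofNat 0,
  .negSucc 0, .ofNat 0, .ofNat 0, .ofNat 0, .ofNat 0, .ofNat 0, .ofNat 0, .ofNat 0, .ofNat 0, .ofNat 1,
  .ofNat 0, .ofNat 0, .ofNat 0, .ofNat 0, .ofNat 0, .ofNat 0, .ofNat 0, .ofNat 0, .ofNat 0, .ofNat 0,
  .ofNat 0, .ofNat 0, .negSucc 0, .ofNat 1, .ofNat 0, .ofNat 0, .ofNat 0, .ofNat 0, .ofNat 0, .negSucc 0,
  .ofNat 0, .ofNat 0, .ofNat 0, .ofNat 0, .ofNat 0, .ofNat 0, .ofNat 0, .ofNat 0, .ofNat 0, .ofNat 1,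
  .ofNat 0, .ofNat 0, .ofNat 0, .ofNat 1, .ofNat 0, .ofNat 0, .ofNat 0, .negSucc 0, .ofNat 0, .ofNat 0,
  .ofNat 0, .ofNat 0, .ofNat 0, .ofNat 0, .ofNat 0, .ofNat 0, .ofNat 0, .ofNat 0, .ofNat 2, .ofNat 2,
  .ofNat 0, .ofNat 0, .ofNat 0, .ofNat 0, .ofNat 0]

/-- the values at 42A -/
def col157 : List ℤ :=
  [.ofNat 1, .negSucc 0, .ofNat 1, .ofNat 1, .negSucc 0, .ofNat 0, .ofNat 0, .negSucc 1, .negSucc 0,
  .negSucc 0, .negSucc 0, .ofNat 2, .ofNat 2, .ofNat 0, .ofNat 1, .negSucc 1, .negSucc 0, .ofNat 4, .ofNat 0,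
  .negSucc 0, .ofNat 0, .ofNat 1, .ofNat 0, .negSucc 0, .negSucc 0, .negSucc 1, .ofNat 2, .negSucc 1,
  .ofNat 1, .negSucc 1, .ofNat 0, .ofNat 1, .ofNat 0, .ofNat 1, .ofNat 0, .ofNat 0, .ofNat 1, .ofNat 0,
  .ofNat 1, .ofNat 0, .ofNat 0, .ofNat 0, .ofNat 1, .ofNat 0, .ofNat 0, .negSucc 0, .ofNat 1, .negSucc 1,
  .ofNat 0, .ofNat 0, .ofNat 1, .negSucc 1, .ofNat 0, .negSucc 0, .ofNat 1, .ofNat 2, .negSucc 1, .ofNat 2,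
  .ofNat 0, .ofNat 0, .ofNat 0, .ofNat 1, .ofNat 1, .ofNat 1, .negSucc 0, .ofNat 0, .negSucc 1, .ofNat 0,
  .ofNat 0, .ofNat 0, .ofNat 0, .negSucc 1, .ofNat 0, .ofNat 0, .ofNat 0, .ofNat 1, .ofNat 0, .negSucc 0,
  .ofNat 2, .ofNat 3, .ofNat 1, .negSucc 1, .ofNat 0, .negSucc 0, .ofNat 1, .ofNat 0, .ofNat 0, .ofNat 2,
  .ofNat 0, .ofNat 0, .ofNat 1, .ofNat 0, .negSucc 0, .negSucc 0, .ofNat 1, .ofNat 0, .negSucc 0, .negSucc 0,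
  .ofNat 2, .ofNat 2, .ofNat 0, .ofNat 0, .negSucc 1, .negSucc 1, .ofNat 1, .ofNat 1, .ofNat 0, .ofNat 0,
  .negSucc 0, .ofNat 0, .ofNat 1, .ofNat 0, .ofNat 2, .negSucc 1, .ofNat 0, .ofNat 0, .ofNat 0, .ofNat 0,
  .ofNat 2, .ofNat 0, .ofNat 0, .ofNat 1, .negSucc 0, .ofNat 0, .negSucc 3, .ofNat 0, .ofNat 0, .ofNat 0,
  .ofNat 0, .ofNat 0, .ofNat 0, .negSucc 1, .ofNat 0, .ofNat 0, .ofNat 0, .negSucc 0, .negSucc 0, .ofNat 0,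
  .ofNat 0, .ofNat 2, .negSucc 1, .ofNat 0, .negSucc 0, .ofNat 0, .negSucc 3, .ofNat 0, .ofNat 0, .ofNat 2,
  .ofNat 0, .ofNat 1, .ofNat 1, .negSucc 0, .ofNat 0, .ofNat 0, .negSucc 1, .ofNat 0, .ofNat 1, .ofNat 0,
  .negSucc 0, .ofNat 1, .negSucc 0, .negSucc 1, .ofNat 1, .ofNat 2, .ofNat 0, .ofNat 0, .ofNat 2, .ofNat 0,
  .ofNat 0, .ofNat 0, .ofNat 0, .ofNat 0, .ofNat 0, .ofNat 0, .ofNat 4]

/-- the values at 42B -/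
def col158 : List ℤ :=
  [.ofNat 1, .ofNat 1, .negSucc 0, .negSucc 0, .ofNat 1, .ofNat 0, .negSucc 1, .ofNat 0, .ofNat 1, .ofNat 1,
  .negSucc 0, .ofNat 2, .ofNat 0, .ofNat 0, .ofNat 1, .ofNat 0, .ofNat 1, .ofNat 0, .ofNat 0, .ofNat 1,
  .ofNat 0, .negSucc 0, .ofNat 0, .negSucc 0, .negSucc 0, .ofNat 0, .ofNat 2, .negSucc 1, .ofNat 1, .ofNat 0,
  .ofNat 0, .negSucc 0, .ofNat 0, .negSucc 0, .ofNat 0, .ofNat 0, .negSucc 0, .ofNat 0, .negSucc 0, .ofNat 0,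
  .ofNat 0, .ofNat 0, .ofNat 1, .ofNat 0, .ofNat 0, .ofNat 1, .ofNat 1, .ofNat 0, .ofNat 0, .ofNat 0,
  .negSucc 0, .ofNat 0, .ofNat 0, .negSucc 0, .negSucc 0, .ofNat 0, .ofNat 0, .ofNat 0, .ofNat 0, .ofNat 0,
  .ofNat 0, .ofNat 1, .negSucc 0, .ofNat 1, .ofNat 1, .ofNat 0, .ofNat 0, .ofNat 0, .ofNat 0, .ofNat 0,
  .ofNat 0, .ofNat 0, .ofNat 0, .ofNat 0, .ofNat 0, .negSucc 0, .ofNat 0, .negSucc 0, .ofNat 2, .ofNat 1,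
  .ofNat 1, .ofNat 0, .ofNat 0, .negSucc 0, .ofNat 1, .ofNat 0, .ofNat 0, .negSucc 1, .ofNat 0, .ofNat 0,
  .negSucc 0, .ofNat 0, .negSucc 0, .ofNat 1, .negSucc 0, .ofNat 0, .negSucc 0, .negSucc 0, .ofNat 0,
  .ofNat 0, .ofNat 0, .ofNat 0, .ofNat 0, .ofNat 0, .negSucc 0, .negSucc 0, .ofNat 0, .ofNat 0, .ofNat 1,
  .ofNat 0, .ofNat 1, .ofNat 0, .ofNat 0, .ofNat 0, .ofNat 0, .ofNat 0, .ofNat 0, .ofNat 0, .ofNat 0,
  .ofNat 0, .ofNat 0, .ofNat 1, .ofNat 1, .ofNat 0, .ofNat 0, .ofNat 0, .ofNat 0, .ofNat 0, .ofNat 0,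
  .ofNat 0, .ofNat 0, .ofNat 0, .ofNat 0, .ofNat 0, .ofNat 0, .ofNat 1, .ofNat 1, .ofNat 0, .ofNat 0,
  .ofNat 0, .ofNat 0, .ofNat 0, .ofNat 1, .ofNat 0, .ofNat 0, .ofNat 0, .ofNat 0, .ofNat 0, .ofNat 0,
  .negSucc 0, .negSucc 0, .ofNat 1, .ofNat 0, .ofNat 0, .ofNat 0, .ofNat 0, .ofNat 1, .ofNat 0, .negSucc 0,
  .negSucc 0, .ofNat 1, .ofNat 0, .negSucc 0, .ofNat 0, .ofNat 0, .ofNat 0, .negSucc 1, .ofNat 0, .ofNat 0,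
  .ofNat 0, .ofNat 0, .ofNat 0, .ofNat 0, .ofNat 0, .ofNat 0]

/-- the values at 42C -/
def col159 : List ℤ :=
  [.ofNat 1, .negSucc 0, .negSucc 0, .ofNat 1, .ofNat 1, .ofNat 0, .ofNat 0, .ofNat 0, .ofNat 1, .negSucc 0,
  .ofNat 1, .ofNat 0, .ofNat 0, .ofNat 0, .ofNat 1, .ofNat 0, .negSucc 0, .ofNat 0, .ofNat 0, .negSucc 0,
  .ofNat 0, .negSucc 0, .ofNat 0, .negSucc 0, .negSucc 0, .ofNat 0, .ofNat 0, .ofNat 0, .ofNat 1, .ofNat 0,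
  .ofNat 0, .ofNat 1, .ofNat 0, .negSucc 0, .ofNat 0, .ofNat 0, .negSucc 0, .ofNat 0, .negSucc 0, .ofNat 0,
  .ofNat 0, .ofNat 0, .ofNat 1, .ofNat 0, .ofNat 0, .ofNat 1, .ofNat 1, .ofNat 0, .ofNat 0, .ofNat 0,
  .ofNat 1, .ofNat 0, .ofNat 0, .negSucc 0, .ofNat 1, .ofNat 0, .ofNat 2, .ofNat 0, .ofNat 0, .ofNat 0,
  .ofNat 0, .negSucc 0, .negSucc 0, .negSucc 0, .negSucc 0, .ofNat 0, .ofNat 0, .ofNat 0, .ofNat 0, .ofNat 0,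
  .ofNat 0, .ofNat 0, .ofNat 0, .ofNat 0, .ofNat 0, .ofNat 1, .ofNat 0, .ofNat 1, .negSucc 1, .negSucc 0,
  .ofNat 1, .ofNat 0, .ofNat 0, .negSucc 0, .ofNat 1, .ofNat 0, .ofNat 0, .ofNat 2, .ofNat 0, .ofNat 0,
  .ofNat 1, .ofNat 0, .ofNat 1, .negSucc 0, .negSucc 0, .ofNat 0, .negSucc 0, .negSucc 0, .ofNat 0,
  .negSucc 1, .ofNat 0, .ofNat 0, .ofNat 2, .ofNat 0, .ofNat 1, .ofNat 1, .negSucc 1, .ofNat 0, .negSucc 0,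
  .ofNat 0, .ofNat 1, .ofNat 0, .ofNat 0, .ofNat 0, .ofNat 0, .ofNat 0, .ofNat 0, .ofNat 0, .ofNat 0,
  .ofNat 0, .ofNat 0, .ofNat 1, .negSucc 0, .ofNat 0, .ofNat 0, .ofNat 0, .ofNat 0, .ofNat 0, .ofNat 0,
  .ofNat 0, .ofNat 0, .ofNat 0, .ofNat 0, .ofNat 0, .ofNat 0, .ofNat 1, .ofNat 1, .ofNat 0, .ofNat 0,
  .ofNat 0, .ofNat 0, .ofNat 0, .ofNat 1, .ofNat 0, .ofNat 0, .ofNat 0, .ofNat 0, .ofNat 0, .ofNat 0,
  .negSucc 0, .negSucc 0, .negSucc 0, .ofNat 0, .ofNat 0, .ofNat 0, .ofNat 0, .ofNat 1, .ofNat 0, .negSucc 0,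
  .ofNat 1, .ofNat 1, .ofNat 0, .negSucc 0, .ofNat 0, .ofNat 0, .ofNat 0, .ofNat 2, .ofNat 0, .ofNat 0,
  .ofNat 0, .ofNat 0, .ofNat 0, .ofNat 0, .ofNat 0, .ofNat 0]

/-- the values at 44A -/
def col160 : List ℤ :=
  [.ofNat 1, .ofNat 0, .negSucc 0, .ofNat 1, .ofNat 0, .ofNat 0, .negSucc 0, .ofNat 1, .ofNat 0, .ofNat 0,
  .ofNat 0, .negSucc 0, .ofNat 0, .ofNat 0, .ofNat 0, .ofNat 0, .ofNat 1, .ofNat 0, .ofNat 0, .negSucc 0,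
  .ofNat 0, .ofNat 0, .ofNat 1, .ofNat 0, .ofNat 0, .ofNat 0, .ofNat 0, .ofNat 1, .ofNat 0, .ofNat 1,
  .ofNat 0, .ofNat 0, .ofNat 0, .ofNat 0, .negSucc 0, .ofNat 0, .negSucc 0, .ofNat 0, .ofNat 0, .ofNat 0,
  .ofNat 0, .ofNat 0, .ofNat 0, .negSucc 0, .ofNat 0, .ofNat 0, .ofNat 1, .ofNat 0, .ofNat 0, .negSucc 0,
  .negSucc 0, .ofNat 0, .ofNat 0, .ofNat 0, .ofNat 0, .ofNat 0, .negSucc 0, .ofNat 0, .ofNat 0, .ofNat 1,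
  .negSucc 0, .ofNat 0, .ofNat 0, .ofNat 0, .ofNat 1, .ofNat 0, .ofNat 0, .ofNat 0, .ofNat 0, .ofNat 0,
  .ofNat 0, .ofNat 0, .ofNat 1, .ofNat 0, .ofNat 1, .ofNat 0, .ofNat 1, .ofNat 0, .negSucc 0, .ofNat 1,
  .negSucc 0, .ofNat 0, .ofNat 1, .negSucc 0, .ofNat 0, .ofNat 1, .ofNat 0, .ofNat 0, .negSucc 0, .ofNat 0,
  .ofNat 0, .ofNat 0, .negSucc 0, .ofNat 0, .ofNat 0, .ofNat 0, .ofNat 1, .ofNat 0, .ofNat 0, .ofNat 0,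
  .negSucc 0, .negSucc 0, .ofNat 0, .ofNat 0, .ofNat 0, .ofNat 0, .ofNat 0, .ofNat 0, .negSucc 0, .ofNat 1,
  .ofNat 0, .ofNat 1, .ofNat 1, .ofNat 0, .ofNat 0, .ofNat 0, .ofNat 0, .ofNat 0, .ofNat 0, .ofNat 0,
  .ofNat 0, .ofNat 0, .ofNat 0, .ofNat 0, .ofNat 0, .negSucc 0, .ofNat 0, .ofNat 0, .ofNat 0, .ofNat 0,
  .ofNat 0, .ofNat 0, .ofNat 0, .ofNat 0, .ofNat 0, .negSucc 0, .ofNat 0, .ofNat 0, .ofNat 0, .ofNat 1,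
  .ofNat 0, .ofNat 0, .ofNat 0, .ofNat 0, .ofNat 0, .ofNat 0, .ofNat 0, .ofNat 0, .ofNat 0, .ofNat 0,
  .ofNat 0, .ofNat 0, .ofNat 0, .ofNat 0, .ofNat 0, .ofNat 0, .ofNat 0, .ofNat 0, .ofNat 0, .ofNat 0,
  .ofNat 0, .ofNat 0, .ofNat 0, .ofNat 0, .ofNat 0, .ofNat 0, .ofNat 0, .ofNat 0, .ofNat 0, .ofNat 0,
  .ofNat 0, .negSucc 1, .ofNat 0, .ofNat 0, .ofNat 0]

/-- the values at 46AB -/
def col161 : List ℤ :=
  [.ofNat 1, .negSucc 0, .ofNat 0, .ofNat 0, .ofNat 0, .ofNat 0, .ofNat 1, .ofNat 0, .ofNat 0, .ofNat 0,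
  .ofNat 0, .ofNat 0, .negSucc 0, .ofNat 0, .ofNat 0, .ofNat 0, .ofNat 0, .ofNat 0, .ofNat 0, .ofNat 0,
  .ofNat 0, .ofNat 0, .negSucc 0, .ofNat 0, .ofNat 0, .ofNat 1, .ofNat 0, .ofNat 0, .ofNat 0, .ofNat 0,
  .ofNat 0, .ofNat 0, .ofNat 0, .ofNat 0, .ofNat 0, .ofNat 0, .ofNat 0, .ofNat 0, .ofNat 0, .ofNat 0,
  .ofNat 0, .ofNat 0, .ofNat 1, .ofNat 0, .ofNat 0, .ofNat 0, .ofNat 0, .ofNat 0, .ofNat 0, .ofNat 0,
  .ofNat 0, .ofNat 0, .ofNat 0, .ofNat 1, .ofNat 0, .ofNat 0, .ofNat 0, .ofNat 0, .ofNat 0, .ofNat 0,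
  .ofNat 0, .ofNat 0, .ofNat 0, .ofNat 0, .ofNat 0, .ofNat 0, .negSucc 0, .ofNat 0, .ofNat 0, .ofNat 0,
  .ofNat 0, .ofNat 0, .ofNat 0, .ofNat 0, .ofNat 0, .negSucc 0, .ofNat 0, .ofNat 0, .ofNat 0, .ofNat 0,
  .ofNat 0, .ofNat 0, .ofNat 0, .negSucc 0, .ofNat 0, .negSucc 0, .ofNat 0, .ofNat 0, .ofNat 0, .ofNat 0,
  .ofNat 0, .ofNat 0, .ofNat 0, .ofNat 0, .ofNat 0, .ofNat 1, .ofNat 1, .ofNat 0, .ofNat 0, .ofNat 0,
  .ofNat 0, .ofNat 0, .ofNat 0, .ofNat 0, .negSucc 0, .ofNat 0, .ofNat 0, .ofNat 0, .ofNat 0, .ofNat 0,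
  .ofNat 0, .ofNat 0, .ofNat 0, .ofNat 0, .ofNat 0, .ofNat 0, .ofNat 0, .ofNat 0, .ofNat 0, .ofNat 0,
  .ofNat 0, .ofNat 0, .ofNat 0, .negSucc 0, .ofNat 0, .ofNat 0, .ofNat 0, .ofNat 0, .ofNat 0, .ofNat 0,
  .ofNat 1, .ofNat 0, .ofNat 1, .negSucc 0, .ofNat 0, .ofNat 0, .ofNat 0, .ofNat 0, .ofNat 0, .ofNat 0,
  .negSucc 0, .ofNat 0, .ofNat 0, .ofNat 0, .ofNat 0, .ofNat 0, .ofNat 0, .ofNat 0, .ofNat 0, .ofNat 0,
  .ofNat 0, .ofNat 0, .ofNat 0, .ofNat 0, .ofNat 0, .ofNat 0, .ofNat 0, .ofNat 0, .ofNat 0, .ofNat 0,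
  .ofNat 0, .ofNat 0, .ofNat 0, .ofNat 0, .ofNat 0, .ofNat 0, .ofNat 0, .negSucc 0, .ofNat 0, .ofNat 0,
  .ofNat 1, .ofNat 0, .ofNat 2, .ofNat 0, .ofNat 0]

/-- the values at 47AB -/
def col162 : List ℤ :=
  [.ofNat 1, .ofNat 0, .negSucc 0, .ofNat 0, .ofNat 0, .ofNat 0, .ofNat 0, .ofNat 0, .ofNat 0, .ofNat 0,
  .ofNat 0, .ofNat 0, .ofNat 0, .ofNat 1, .ofNat 0, .ofNat 0, .ofNat 0, .ofNat 0, .ofNat 0, .ofNat 0,
  .ofNat 0, .ofNat 0, .ofNat 0, .ofNat 0, .ofNat 0, .ofNat 0, .negSucc 0, .ofNat 0, .ofNat 0, .ofNat 0,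
  .ofNat 0, .ofNat 0, .ofNat 0, .ofNat 0, .ofNat 0, .ofNat 0, .ofNat 0, .ofNat 0, .ofNat 0, .ofNat 0,
  .ofNat 0, .ofNat 0, .ofNat 0, .ofNat 0, .ofNat 0, .ofNat 0, .ofNat 0, .ofNat 0, .ofNat 0, .ofNat 0,
  .ofNat 0, .ofNat 0, .ofNat 0, .ofNat 0, .ofNat 0, .ofNat 0, .ofNat 0, .ofNat 0, .ofNat 0, .ofNat 0,
  .ofNat 0, .ofNat 0, .ofNat 0, .ofNat 0, .ofNat 0, .ofNat 0, .ofNat 0, .ofNat 0, .ofNat 0, .ofNat 0,
  .ofNat 0, .ofNat 0, .ofNat 0, .ofNat 0, .ofNat 0, .ofNat 0, .ofNat 0, .ofNat 0, .ofNat 1, .ofNat 0,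
  .ofNat 0, .ofNat 0, .ofNat 0, .ofNat 0, .ofNat 0, .ofNat 0, .ofNat 0, .ofNat 1, .ofNat 1, .ofNat 0,
  .ofNat 0, .ofNat 0, .ofNat 0, .ofNat 0, .ofNat 0, .ofNat 0, .ofNat 0, .ofNat 0, .ofNat 0, .ofNat 0,
  .ofNat 0, .ofNat 0, .ofNat 0, .ofNat 0, .ofNat 0, .ofNat 0, .negSucc 0, .ofNat 0, .ofNat 0, .ofNat 0,
  .ofNat 0, .ofNat 0, .ofNat 0, .ofNat 0, .ofNat 0, .ofNat 0, .ofNat 0, .ofNat 0, .ofNat 0, .ofNat 0,
  .ofNat 0, .ofNat 0, .ofNat 0, .ofNat 0, .ofNat 0, .ofNat 0, .ofNat 0, .ofNat 0, .ofNat 0, .ofNat 0,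
  .ofNat 0, .ofNat 0, .ofNat 0, .ofNat 0, .ofNat 0, .ofNat 0, .ofNat 0, .ofNat 0, .ofNat 0, .ofNat 0,
  .ofNat 0, .ofNat 0, .ofNat 0, .ofNat 1, .ofNat 1, .ofNat 0, .ofNat 0, .ofNat 0, .ofNat 0, .ofNat 0,
  .ofNat 0, .ofNat 0, .ofNat 0, .ofNat 0, .ofNat 0, .ofNat 0, .ofNat 0, .ofNat 0, .ofNat 1, .negSucc 0,
  .negSucc 0, .ofNat 0, .ofNat 0, .ofNat 0, .ofNat 0, .ofNat 0, .negSucc 0, .negSucc 1, .negSucc 1, .ofNat 0,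
  .ofNat 0, .ofNat 0, .negSucc 1, .negSucc 1, .ofNat 2]

/-- the values at 48A -/
def col163 : List ℤ :=
  [.ofNat 1, .ofNat 0, .negSucc 0, .ofNat 0, .ofNat 1, .negSucc 0, .negSucc 0, .ofNat 0, .ofNat 1, .ofNat 1,
  .ofNat 0, .ofNat 1, .negSucc 0, .ofNat 2, .ofNat 0, .ofNat 0, .ofNat 1, .negSucc 0, .ofNat 1, .ofNat 0,
  .ofNat 0, .ofNat 0, .negSucc 0, .ofNat 0, .negSucc 0, .negSucc 0, .negSucc 0, .ofNat 0, .ofNat 0, .ofNat 1,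
  .ofNat 1, .ofNat 0, .negSucc 0, .ofNat 1, .ofNat 0, .ofNat 0, .ofNat 0, .ofNat 0, .ofNat 0, .ofNat 0,
  .ofNat 0, .ofNat 1, .ofNat 0, .negSucc 0, .ofNat 0, .ofNat 0, .negSucc 0, .ofNat 1, .ofNat 0, .ofNat 0,
  .negSucc 0, .ofNat 0, .ofNat 1, .ofNat 0, .ofNat 0, .ofNat 1, .negSucc 0, .ofNat 1, .ofNat 0, .ofNat 0,
  .negSucc 0, .ofNat 1, .ofNat 0, .ofNat 0, .ofNat 0, .ofNat 0, .negSucc 0, .ofNat 0, .ofNat 0, .ofNat 0,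
  .ofNat 0, .ofNat 0, .negSucc 0, .ofNat 1, .ofNat 2, .ofNat 0, .negSucc 0, .ofNat 0, .negSucc 0, .ofNat 0,
  .ofNat 0, .ofNat 1, .ofNat 0, .ofNat 0, .ofNat 0, .negSucc 0, .negSucc 0, .ofNat 0, .ofNat 0, .ofNat 0,
  .ofNat 0, .ofNat 0, .ofNat 1, .negSucc 0, .ofNat 1, .ofNat 0, .ofNat 0, .ofNat 0, .ofNat 0, .ofNat 0,
  .ofNat 0, .negSucc 0, .ofNat 0, .negSucc 0, .ofNat 0, .ofNat 0, .ofNat 0, .ofNat 0, .ofNat 0, .negSucc 0,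
  .ofNat 0, .negSucc 0, .negSucc 0, .negSucc 0, .ofNat 1, .ofNat 1, .ofNat 0, .ofNat 2, .negSucc 0, .ofNat 0,
  .ofNat 0, .ofNat 0, .ofNat 0, .ofNat 0, .negSucc 1, .ofNat 2, .ofNat 0, .ofNat 1, .ofNat 1, .ofNat 1,
  .ofNat 0, .negSucc 0, .ofNat 0, .ofNat 0, .negSucc 1, .ofNat 0, .negSucc 0, .ofNat 1, .ofNat 0, .negSucc 0,
  .ofNat 1, .ofNat 0, .ofNat 0, .ofNat 0, .ofNat 1, .ofNat 0, .ofNat 0, .ofNat 0, .ofNat 0, .ofNat 1,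
  .ofNat 0, .ofNat 0, .ofNat 0, .ofNat 0, .ofNat 0, .negSucc 0, .ofNat 0, .ofNat 0, .ofNat 0, .ofNat 0,
  .ofNat 0, .ofNat 0, .ofNat 0, .ofNat 0, .ofNat 0, .ofNat 0, .ofNat 2, .ofNat 4, .ofNat 0, .ofNat 0,
  .ofNat 0, .ofNat 0, .ofNat 0, .ofNat 0, .ofNat 0]

/-- the values at 48B -/
def col164 : List ℤ :=
  [.ofNat 1, .negSucc 1, .ofNat 1, .ofNat 0, .ofNat 1, .ofNat 1, .ofNat 1, .negSucc 1, .negSucc 0, .ofNat 1,
  .negSucc 1, .ofNat 1, .negSucc 0, .ofNat 0, .ofNat 0, .negSucc 1, .negSucc 0, .ofNat 1, .negSucc 0,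
  .ofNat 0, .ofNat 0, .ofNat 0, .ofNat 1, .ofNat 0, .negSucc 0, .ofNat 1, .ofNat 1, .ofNat 0, .ofNat 0,
  .ofNat 1, .negSucc 0, .ofNat 0, .ofNat 1, .ofNat 1, .ofNat 0, .negSucc 1, .ofNat 0, .ofNat 0, .ofNat 2,
  .ofNat 0, .ofNat 2, .ofNat 1, .ofNat 0, .ofNat 1, .ofNat 0, .ofNat 0, .negSucc 0, .negSucc 0, .ofNat 0,
  .ofNat 0, .negSucc 0, .ofNat 0, .ofNat 1, .ofNat 0, .ofNat 0, .negSucc 0, .negSucc 0, .negSucc 0, .ofNat 0,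
  .ofNat 0, .ofNat 1, .negSucc 0, .ofNat 0, .ofNat 0, .ofNat 0, .ofNat 0, .ofNat 1, .ofNat 0, .ofNat 0,
  .ofNat 0, .ofNat 0, .ofNat 0, .ofNat 1, .negSucc 0, .ofNat 0, .ofNat 0, .ofNat 1, .ofNat 0, .negSucc 0,
  .ofNat 0, .ofNat 0, .ofNat 1, .ofNat 0, .ofNat 0, .ofNat 0, .ofNat 1, .negSucc 0, .ofNat 0, .ofNat 0,
  .ofNat 0, .ofNat 0, .ofNat 0, .ofNat 1, .negSucc 0, .negSucc 0, .negSucc 1, .ofNat 0, .ofNat 0, .ofNat 0,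
  .ofNat 0, .ofNat 0, .negSucc 0, .ofNat 0, .negSucc 0, .ofNat 0, .ofNat 0, .ofNat 0, .ofNat 0, .ofNat 0,
  .ofNat 1, .ofNat 0, .negSucc 0, .ofNat 1, .ofNat 1, .ofNat 1, .ofNat 1, .ofNat 0, .ofNat 0, .negSucc 0,
  .ofNat 0, .ofNat 0, .ofNat 0, .ofNat 0, .ofNat 0, .ofNat 0, .ofNat 0, .ofNat 0, .ofNat 1, .ofNat 1,
  .ofNat 1, .ofNat 0, .negSucc 0, .ofNat 0, .ofNat 0, .ofNat 0, .ofNat 0, .ofNat 1, .negSucc 0, .ofNat 0,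
  .negSucc 0, .ofNat 1, .ofNat 0, .ofNat 0, .ofNat 0, .ofNat 1, .ofNat 0, .ofNat 0, .ofNat 0, .ofNat 0,
  .negSucc 0, .ofNat 0, .ofNat 0, .ofNat 0, .ofNat 0, .ofNat 0, .negSucc 0, .ofNat 0, .ofNat 0, .ofNat 0,
  .ofNat 0, .ofNat 0, .ofNat 0, .ofNat 0, .ofNat 0, .ofNat 0, .ofNat 0, .negSucc 1, .ofNat 0, .ofNat 0,
  .ofNat 0, .ofNat 0, .ofNat 0, .ofNat 0, .ofNat 0, .ofNat 0]

/-- the values at 52A -/
def col165 : List ℤ :=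
  [.ofNat 1, .negSucc 0, .negSucc 0, .ofNat 0, .ofNat 0, .ofNat 1, .ofNat 1, .ofNat 0, .ofNat 1, .ofNat 0,
  .negSucc 0, .ofNat 0, .ofNat 0, .ofNat 0, .ofNat 0, .negSucc 0, .ofNat 0, .negSucc 0, .ofNat 0, .ofNat 0,
  .ofNat 0, .ofNat 0, .ofNat 0, .ofNat 1, .ofNat 1, .ofNat 0, .negSucc 0, .negSucc 0, .ofNat 0, .ofNat 0,
  .negSucc 0, .ofNat 0, .ofNat 0, .ofNat 0, .ofNat 0, .ofNat 1, .ofNat 0, .ofNat 0, .ofNat 0, .ofNat 0,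
  .ofNat 0, .ofNat 1, .ofNat 0, .ofNat 0, .ofNat 0, .ofNat 0, .ofNat 0, .ofNat 0, .ofNat 0, .ofNat 0,
  .negSucc 0, .ofNat 1, .ofNat 0, .ofNat 0, .ofNat 0, .ofNat 0, .ofNat 0, .ofNat 0, .ofNat 0, .ofNat 1,
  .ofNat 0, .ofNat 1, .ofNat 0, .negSucc 0, .ofNat 0, .ofNat 0, .ofNat 1, .ofNat 0, .ofNat 0, .ofNat 0,
  .ofNat 1, .ofNat 0, .negSucc 0, .negSucc 0, .ofNat 0, .ofNat 0, .ofNat 0, .ofNat 0, .ofNat 0, .negSucc 0,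
  .ofNat 1, .ofNat 0, .ofNat 0, .negSucc 0, .negSucc 0, .ofNat 0, .ofNat 1, .ofNat 0, .ofNat 0, .ofNat 0,
  .ofNat 0, .ofNat 1, .ofNat 0, .ofNat 0, .ofNat 0, .ofNat 0, .negSucc 0, .ofNat 0, .ofNat 0, .ofNat 0,
  .ofNat 0, .ofNat 0, .negSucc 0, .ofNat 0, .ofNat 0, .ofNat 0, .ofNat 0, .ofNat 0, .ofNat 0, .ofNat 0,
  .ofNat 1, .ofNat 0, .ofNat 0, .negSucc 0, .ofNat 0, .ofNat 0, .ofNat 0, .ofNat 0, .ofNat 1, .ofNat 0,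
  .ofNat 0, .ofNat 0, .ofNat 0, .ofNat 1, .ofNat 0, .ofNat 0, .ofNat 0, .ofNat 0, .ofNat 0, .ofNat 0,
  .ofNat 0, .ofNat 0, .ofNat 0, .ofNat 0, .ofNat 0, .negSucc 0, .ofNat 0, .ofNat 0, .ofNat 0, .ofNat 0,
  .ofNat 0, .ofNat 0, .ofNat 0, .ofNat 0, .negSucc 0, .ofNat 0, .ofNat 0, .negSucc 0, .ofNat 1, .ofNat 0,
  .ofNat 1, .negSucc 0, .ofNat 0, .negSucc 0, .ofNat 0, .ofNat 1, .negSucc 0, .ofNat 0, .ofNat 0, .negSucc 0,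
  .ofNat 1, .ofNat 0, .ofNat 0, .ofNat 0, .ofNat 0, .ofNat 0, .ofNat 0, .ofNat 0, .ofNat 0, .ofNat 0,
  .negSucc 1, .ofNat 0, .ofNat 0, .ofNat 2, .ofNat 0]

/-- the values at 55A -/
def col166 : List ℤ :=
  [.ofNat 1, .negSucc 0, .ofNat 0, .ofNat 0, .negSucc 0, .ofNat 1, .ofNat 0, .ofNat 0, .ofNat 1, .negSucc 0,
  .ofNat 0, .ofNat 1, .ofNat 0, .negSucc 0, .ofNat 0, .ofNat 0, .ofNat 1, .ofNat 0, .ofNat 0, .ofNat 1,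
  .ofNat 0, .ofNat 1, .negSucc 0, .ofNat 0, .ofNat 0, .ofNat 0, .ofNat 0, .negSucc 0, .negSucc 0, .ofNat 0,
  .ofNat 0, .ofNat 0, .ofNat 0, .ofNat 0, .ofNat 0, .ofNat 0, .ofNat 1, .negSucc 0, .ofNat 0, .ofNat 0,
  .ofNat 0, .ofNat 1, .ofNat 0, .negSucc 0, .ofNat 0, .ofNat 0, .ofNat 0, .ofNat 1, .ofNat 0, .negSucc 0,
  .ofNat 1, .negSucc 0, .ofNat 0, .ofNat 0, .ofNat 0, .ofNat 0, .ofNat 0, .ofNat 0, .ofNat 0, .ofNat 1,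
  .ofNat 0, .ofNat 0, .ofNat 1, .ofNat 0, .ofNat 0, .ofNat 1, .negSucc 0, .ofNat 0, .ofNat 0, .ofNat 1,
  .ofNat 0, .ofNat 0, .ofNat 1, .ofNat 1, .negSucc 0, .ofNat 0, .ofNat 0, .ofNat 0, .ofNat 0, .negSucc 0,
  .negSucc 0, .ofNat 0, .negSucc 0, .ofNat 1, .ofNat 0, .ofNat 1, .ofNat 0, .negSucc 0, .negSucc 0,
  .negSucc 0, .ofNat 0, .ofNat 0, .ofNat 1, .ofNat 0, .ofNat 0, .ofNat 0, .ofNat 0, .ofNat 0, .negSucc 0,
  .ofNat 0, .ofNat 0, .ofNat 0, .ofNat 0, .ofNat 0, .ofNat 0, .ofNat 0, .ofNat 0, .ofNat 0, .negSucc 0,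
  .ofNat 0, .ofNat 0, .ofNat 1, .ofNat 0, .ofNat 0, .ofNat 0, .ofNat 0, .ofNat 0, .ofNat 0, .ofNat 0,
  .ofNat 0, .ofNat 0, .ofNat 0, .ofNat 0, .ofNat 1, .ofNat 0, .ofNat 0, .ofNat 0, .ofNat 0, .ofNat 0,
  .ofNat 1, .negSucc 0, .ofNat 0, .ofNat 0, .ofNat 0, .ofNat 0, .ofNat 0, .ofNat 1, .ofNat 0, .ofNat 0,
  .ofNat 0, .ofNat 0, .ofNat 0, .ofNat 0, .ofNat 0, .ofNat 0, .ofNat 0, .ofNat 0, .ofNat 1, .ofNat 0,
  .ofNat 0, .negSucc 0, .negSucc 0, .ofNat 0, .ofNat 0, .ofNat 0, .ofNat 0, .ofNat 1, .ofNat 0, .ofNat 0,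
  .negSucc 0, .negSucc 0, .ofNat 1, .negSucc 0, .ofNat 0, .ofNat 0, .ofNat 1, .ofNat 0, .ofNat 0, .ofNat 0,
  .ofNat 0, .ofNat 0, .ofNat 0, .ofNat 0, .ofNat 0, .ofNat 0]

/-- the values at 56AB -/
def col167 : List ℤ :=
  [.ofNat 1, .ofNat 0, .negSucc 0, .ofNat 0, .negSucc 0, .ofNat 1, .negSucc 0, .ofNat 0, .ofNat 1, .ofNat 0,
  .negSucc 0, .ofNat 1, .ofNat 1, .ofNat 0, .ofNat 1, .ofNat 0, .ofNat 0, .ofNat 0, .ofNat 0, .ofNat 0,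
  .ofNat 0, .ofNat 1, .ofNat 0, .ofNat 1, .ofNat 1, .ofNat 0, .negSucc 0, .negSucc 0, .ofNat 1, .ofNat 0,
  .ofNat 0, .negSucc 0, .ofNat 0, .negSucc 0, .ofNat 0, .ofNat 0, .negSucc 0, .ofNat 0, .ofNat 1, .ofNat 0,
  .ofNat 0, .ofNat 0, .negSucc 0, .ofNat 0, .ofNat 0, .negSucc 0, .negSucc 0, .ofNat 0, .ofNat 0, .ofNat 0,
  .ofNat 0, .ofNat 0, .ofNat 0, .negSucc 1, .ofNat 1, .ofNat 0, .ofNat 2, .ofNat 0, .ofNat 0, .ofNat 0,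
  .ofNat 0, .negSucc 0, .ofNat 1, .ofNat 1, .ofNat 0, .ofNat 0, .ofNat 0, .ofNat 0, .ofNat 0, .ofNat 0,
  .ofNat 0, .negSucc 0, .ofNat 0, .ofNat 0, .ofNat 0, .ofNat 0, .ofNat 0, .ofNat 1, .negSucc 0, .ofNat 0,
  .ofNat 0, .ofNat 0, .ofNat 0, .ofNat 0, .ofNat 1, .ofNat 0, .ofNat 0, .ofNat 0, .ofNat 0, .ofNat 0,
  .ofNat 0, .ofNat 0, .negSucc 0, .ofNat 0, .ofNat 0, .ofNat 0, .ofNat 1, .ofNat 1, .ofNat 1, .ofNat 0,
  .ofNat 0, .ofNat 0, .ofNat 0, .ofNat 0, .negSucc 0, .ofNat 0, .ofNat 0, .ofNat 0, .ofNat 0, .ofNat 0,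
  .negSucc 0, .negSucc 0, .ofNat 0, .ofNat 1, .ofNat 0, .ofNat 0, .ofNat 0, .ofNat 0, .negSucc 0, .ofNat 0,
  .ofNat 0, .ofNat 0, .ofNat 0, .ofNat 0, .ofNat 0, .ofNat 0, .negSucc 0, .ofNat 0, .ofNat 0, .negSucc 0,
  .ofNat 0, .ofNat 0, .ofNat 0, .ofNat 0, .ofNat 0, .ofNat 1, .negSucc 0, .ofNat 0, .ofNat 0, .ofNat 0,
  .ofNat 0, .ofNat 0, .negSucc 0, .ofNat 0, .ofNat 0, .ofNat 0, .ofNat 0, .ofNat 0, .ofNat 0, .ofNat 0,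
  .ofNat 0, .ofNat 0, .ofNat 0, .ofNat 0, .ofNat 0, .ofNat 0, .ofNat 0, .ofNat 0, .ofNat 0, .ofNat 0,
  .ofNat 0, .ofNat 0, .ofNat 1, .ofNat 0, .ofNat 0, .ofNat 0, .ofNat 0, .ofNat 0, .ofNat 0, .ofNat 0,
  .ofNat 0, .ofNat 0, .ofNat 2, .ofNat 0, .ofNat 0]

/-- the values at 60A -/
def col168 : List ℤ :=
  [.ofNat 1, .negSucc 0, .negSucc 0, .ofNat 2, .ofNat 0, .ofNat 1, .ofNat 0, .negSucc 0, .ofNat 0,
  .negSucc 2, .ofNat 1, .ofNat 1, .ofNat 2, .negSucc 0, .negSucc 0, .ofNat 0, .ofNat 0, .ofNat 1, .negSucc 0,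
  .negSucc 0, .ofNat 1, .negSucc 1, .ofNat 1, .ofNat 0, .negSucc 0, .ofNat 1, .ofNat 1, .ofNat 0, .negSucc 0,
  .ofNat 0, .ofNat 0, .ofNat 1, .ofNat 0, .ofNat 0, .negSucc 0, .ofNat 1, .ofNat 1, .ofNat 0, .ofNat 0,
  .ofNat 1, .negSucc 0, .negSucc 0, .ofNat 1, .negSucc 0, .ofNat 1, .ofNat 0, .ofNat 0, .negSucc 0,
  .negSucc 0, .negSucc 1, .negSucc 1, .ofNat 0, .ofNat 2, .ofNat 0, .ofNat 1, .ofNat 0, .ofNat 1, .ofNat 0,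
  .ofNat 2, .negSucc 1, .negSucc 0, .ofNat 0, .negSucc 0, .ofNat 1, .ofNat 0, .ofNat 0, .ofNat 1, .negSucc 0,
  .ofNat 1, .ofNat 0, .ofNat 0, .ofNat 0, .negSucc 0, .ofNat 1, .ofNat 1, .ofNat 1, .ofNat 0, .ofNat 0,
  .ofNat 1, .negSucc 0, .ofNat 1, .ofNat 0, .negSucc 0, .ofNat 1, .negSucc 0, .negSucc 0, .ofNat 0,
  .negSucc 1, .negSucc 0, .ofNat 0, .negSucc 0, .ofNat 0, .ofNat 0, .ofNat 0, .ofNat 0, .ofNat 0, .ofNat 1,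
  .ofNat 0, .ofNat 0, .ofNat 0, .ofNat 2, .ofNat 1, .ofNat 0, .negSucc 0, .ofNat 0, .ofNat 0, .ofNat 0,
  .ofNat 0, .ofNat 1, .ofNat 0, .negSucc 0, .ofNat 1, .ofNat 0, .ofNat 1, .ofNat 0, .ofNat 0, .ofNat 0,
  .ofNat 1, .ofNat 0, .ofNat 0, .ofNat 1, .ofNat 0, .ofNat 0, .ofNat 0, .ofNat 0, .ofNat 0, .ofNat 0,
  .ofNat 0, .ofNat 0, .negSucc 0, .ofNat 0, .ofNat 0, .ofNat 0, .ofNat 0, .negSucc 0, .negSucc 0, .ofNat 0,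
  .ofNat 0, .negSucc 0, .negSucc 0, .ofNat 0, .ofNat 0, .ofNat 0, .ofNat 0, .ofNat 1, .ofNat 1, .ofNat 0,
  .ofNat 0, .ofNat 0, .ofNat 0, .ofNat 0, .ofNat 0, .ofNat 0, .ofNat 0, .ofNat 0, .ofNat 0, .negSucc 0,
  .ofNat 0, .ofNat 1, .ofNat 0, .ofNat 0, .ofNat 0, .ofNat 1, .ofNat 0, .ofNat 0, .negSucc 0, .ofNat 0,
  .ofNat 0, .ofNat 0, .ofNat 0, .ofNat 0, .ofNat 0, .ofNat 0, .ofNat 0, .ofNat 0]

/-- the values at 60B -/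
def col169 : List ℤ :=
  [.ofNat 1, .negSucc 0, .ofNat 1, .negSucc 1, .negSucc 1, .ofNat 1, .ofNat 0, .ofNat 1, .ofNat 2,
  .negSucc 0, .ofNat 1, .negSucc 0, .ofNat 0, .negSucc 0, .ofNat 1, .ofNat 0, .ofNat 0, .ofNat 1, .negSucc 0,
  .negSucc 0, .ofNat 1, .negSucc 1, .ofNat 1, .ofNat 0, .negSucc 0, .negSucc 0, .ofNat 1, .ofNat 0, .ofNat 1,
  .negSucc 1, .ofNat 0, .negSucc 0, .ofNat 0, .ofNat 0, .ofNat 1, .negSucc 0, .ofNat 1, .ofNat 2, .ofNat 0,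
  .negSucc 0, .ofNat 1, .ofNat 1, .negSucc 0, .negSucc 0, .ofNat 1, .ofNat 2, .ofNat 0, .ofNat 1, .negSucc 0,
  .ofNat 0, .ofNat 0, .ofNat 0, .ofNat 0, .ofNat 0, .negSucc 0, .ofNat 0, .ofNat 1, .ofNat 0, .ofNat 0,
  .ofNat 0, .negSucc 0, .ofNat 0, .negSucc 0, .ofNat 1, .ofNat 0, .ofNat 0, .negSucc 0, .ofNat 1, .negSucc 0,
  .negSucc 1, .ofNat 0, .ofNat 0, .negSucc 0, .ofNat 1, .negSucc 0, .negSucc 0, .ofNat 0, .ofNat 0,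
  .negSucc 0, .ofNat 1, .negSucc 0, .ofNat 0, .ofNat 1, .ofNat 1, .ofNat 1, .ofNat 1, .ofNat 0, .ofNat 0,
  .ofNat 1, .ofNat 0, .ofNat 1, .ofNat 0, .ofNat 2, .ofNat 0, .ofNat 0, .ofNat 0, .ofNat 1, .ofNat 0,
  .ofNat 0, .ofNat 0, .ofNat 0, .negSucc 0, .negSucc 1, .ofNat 1, .ofNat 0, .ofNat 0, .ofNat 0, .ofNat 0,
  .ofNat 1, .ofNat 0, .ofNat 1, .negSucc 0, .ofNat 0, .negSucc 0, .ofNat 0, .ofNat 0, .ofNat 0, .negSucc 0,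
  .ofNat 0, .ofNat 0, .negSucc 0, .ofNat 0, .ofNat 0, .ofNat 0, .ofNat 0, .ofNat 0, .ofNat 0, .ofNat 0,
  .ofNat 0, .ofNat 1, .ofNat 0, .ofNat 0, .ofNat 0, .ofNat 0, .negSucc 0, .negSucc 0, .ofNat 0, .ofNat 0,
  .negSucc 0, .ofNat 1, .ofNat 0, .ofNat 2, .ofNat 0, .ofNat 0, .ofNat 1, .ofNat 1, .ofNat 0, .negSucc 1,
  .ofNat 0, .ofNat 0, .ofNat 0, .ofNat 0, .ofNat 0, .ofNat 0, .ofNat 0, .ofNat 0, .negSucc 0, .ofNat 0,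
  .ofNat 1, .ofNat 0, .ofNat 0, .ofNat 0, .ofNat 1, .ofNat 0, .ofNat 0, .negSucc 0, .ofNat 0, .ofNat 0,
  .ofNat 0, .ofNat 0, .ofNat 0, .ofNat 0, .ofNat 0, .ofNat 0, .ofNat 0]

/-- the values at 60C -/
def col170 : List ℤ :=
  [.ofNat 1, .ofNat 0, .negSucc 1, .ofNat 0, .ofNat 0, .ofNat 1, .ofNat 0, .ofNat 1, .ofNat 0, .ofNat 0,
  .ofNat 0, .ofNat 0, .ofNat 3, .ofNat 0, .negSucc 1, .ofNat 0, .ofNat 0, .ofNat 0, .ofNat 0, .ofNat 0,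
  .negSucc 1, .negSucc 0, .ofNat 0, .negSucc 1, .ofNat 0, .ofNat 0, .ofNat 0, .ofNat 0, .ofNat 0, .ofNat 0,
  .ofNat 1, .ofNat 0, .ofNat 1, .ofNat 0, .ofNat 1, .ofNat 0, .ofNat 0, .ofNat 0, .ofNat 0, .ofNat 0,
  .ofNat 2, .ofNat 0, .ofNat 0, .ofNat 0, .ofNat 0, .ofNat 0, .negSucc 1, .ofNat 0, .ofNat 2, .ofNat 1,
  .ofNat 0, .ofNat 0, .negSucc 0, .ofNat 2, .ofNat 0, .ofNat 0, .ofNat 0, .ofNat 0, .ofNat 0, .ofNat 0,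
  .ofNat 0, .ofNat 0, .ofNat 0, .ofNat 0, .ofNat 0, .negSucc 0, .ofNat 0, .ofNat 0, .ofNat 0, .ofNat 0,
  .ofNat 0, .ofNat 0, .ofNat 0, .ofNat 0, .ofNat 0, .ofNat 0, .ofNat 0, .ofNat 0, .ofNat 0, .ofNat 0,
  .ofNat 0, .ofNat 0, .ofNat 0, .ofNat 0, .ofNat 0, .ofNat 0, .ofNat 0, .ofNat 0, .ofNat 0, .negSucc 0,
  .ofNat 0, .ofNat 0, .ofNat 0, .ofNat 0, .ofNat 0, .ofNat 0, .ofNat 0, .ofNat 0, .ofNat 0, .ofNat 0,
  .ofNat 0, .ofNat 0, .ofNat 0, .ofNat 0, .ofNat 0, .ofNat 0, .ofNat 0, .negSucc 0, .ofNat 0, .ofNat 0,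
  .ofNat 0, .ofNat 0, .ofNat 0, .ofNat 0, .ofNat 0, .ofNat 0, .ofNat 0, .ofNat 0, .ofNat 0, .ofNat 0,
  .negSucc 0, .ofNat 0, .ofNat 0, .ofNat 0, .ofNat 0, .ofNat 0, .ofNat 0, .ofNat 0, .ofNat 0, .ofNat 0,
  .ofNat 0, .ofNat 0, .ofNat 0, .ofNat 0, .ofNat 0, .ofNat 0, .ofNat 0, .ofNat 0, .ofNat 0, .ofNat 0,
  .ofNat 0, .ofNat 0, .ofNat 0, .negSucc 0, .ofNat 0, .negSucc 0, .ofNat 0, .ofNat 0, .ofNat 0, .ofNat 0,
  .ofNat 0, .ofNat 0, .ofNat 0, .ofNat 1, .ofNat 0, .ofNat 0, .ofNat 0, .ofNat 0, .ofNat 0, .ofNat 0,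
  .ofNat 0, .ofNat 0, .ofNat 0, .ofNat 1, .ofNat 0, .ofNat 0, .ofNat 0, .ofNat 0, .ofNat 2, .ofNat 0,
  .ofNat 0, .ofNat 0, .ofNat 0, .ofNat 0, .ofNat 0]

/-- the values at 66A -/
def col171 : List ℤ :=
  [.ofNat 1, .negSucc 0, .ofNat 1, .negSucc 0, .negSucc 0, .ofNat 0, .ofNat 1, .negSucc 0, .ofNat 0,
  .ofNat 1, .ofNat 0, .negSucc 0, .ofNat 0, .ofNat 1, .ofNat 0, .ofNat 0, .ofNat 1, .ofNat 0, .ofNat 0,
  .negSucc 0, .ofNat 0, .negSucc 0, .ofNat 1, .ofNat 0, .ofNat 0, .ofNat 0, .ofNat 0, .ofNat 1, .ofNat 0,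
  .negSucc 0, .ofNat 0, .ofNat 0, .ofNat 0, .ofNat 0, .ofNat 1, .ofNat 0, .negSucc 0, .ofNat 1, .ofNat 0,
  .ofNat 0, .ofNat 0, .negSucc 0, .ofNat 0, .negSucc 0, .ofNat 0, .ofNat 0, .negSucc 0, .ofNat 1, .ofNat 0,
  .negSucc 0, .negSucc 0, .ofNat 0, .ofNat 0, .ofNat 0, .ofNat 0, .ofNat 0, .ofNat 1, .ofNat 0, .ofNat 0,
  .ofNat 1, .ofNat 1, .ofNat 0, .ofNat 0, .ofNat 0, .negSucc 0, .ofNat 0, .ofNat 0, .ofNat 0, .ofNat 0,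
  .ofNat 0, .ofNat 0, .ofNat 0, .ofNat 1, .negSucc 0, .ofNat 1, .ofNat 0, .negSucc 0, .ofNat 0, .ofNat 1,
  .ofNat 1, .negSucc 0, .ofNat 0, .ofNat 1, .negSucc 0, .ofNat 0, .ofNat 1, .ofNat 0, .negSucc 0, .negSucc 0,
  .ofNat 1, .ofNat 0, .ofNat 0, .negSucc 0, .ofNat 0, .ofNat 0, .ofNat 0, .negSucc 0, .ofNat 0, .ofNat 0,
  .ofNat 0, .ofNat 1, .ofNat 1, .ofNat 0, .ofNat 0, .ofNat 0, .ofNat 0, .ofNat 0, .ofNat 0, .negSucc 0,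
  .negSucc 0, .ofNat 0, .ofNat 1, .negSucc 0, .ofNat 0, .ofNat 0, .ofNat 0, .ofNat 0, .ofNat 0, .ofNat 0,
  .ofNat 0, .ofNat 0, .ofNat 0, .ofNat 0, .ofNat 1, .ofNat 0, .ofNat 1, .ofNat 0, .ofNat 0, .ofNat 0,
  .negSucc 0, .ofNat 0, .ofNat 0, .ofNat 0, .ofNat 0, .ofNat 0, .ofNat 1, .ofNat 0, .ofNat 0, .ofNat 0,
  .negSucc 0, .ofNat 0, .ofNat 0, .ofNat 0, .ofNat 0, .ofNat 0, .ofNat 0, .ofNat 0, .ofNat 1, .ofNat 0,
  .ofNat 0, .ofNat 1, .negSucc 0, .ofNat 0, .ofNat 0, .ofNat 0, .ofNat 0, .ofNat 1, .ofNat 0, .ofNat 0,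
  .ofNat 1, .negSucc 0, .ofNat 1, .negSucc 0, .ofNat 0, .ofNat 0, .negSucc 0, .ofNat 0, .ofNat 0, .ofNat 0,
  .ofNat 0, .ofNat 0, .ofNat 2, .ofNat 0, .ofNat 0, .ofNat 0]

/-- the values at 70A -/
def col172 : List ℤ :=
  [.ofNat 1, .ofNat 0, .negSucc 0, .negSucc 0, .ofNat 0, .ofNat 0, .ofNat 2, .ofNat 0, .negSucc 0, .ofNat 1,
  .ofNat 0, .negSucc 1, .ofNat 0, .ofNat 1, .ofNat 1, .negSucc 0, .negSucc 0, .ofNat 0, .ofNat 0, .ofNat 0,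
  .ofNat 1, .negSucc 0, .ofNat 0, .ofNat 0, .ofNat 0, .ofNat 0, .negSucc 0, .ofNat 1, .ofNat 0, .negSucc 0,
  .ofNat 0, .ofNat 1, .ofNat 0, .negSucc 0, .ofNat 0, .ofNat 1, .ofNat 0, .ofNat 0, .ofNat 0, .ofNat 0,
  .ofNat 0, .ofNat 0, .ofNat 0, .ofNat 0, .ofNat 1, .ofNat 0, .ofNat 0, .ofNat 0, .ofNat 0, .ofNat 0,
  .ofNat 0, .negSucc 0, .ofNat 0, .negSucc 0, .ofNat 0, .ofNat 0, .negSucc 0, .ofNat 1, .ofNat 0, .ofNat 0,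
  .negSucc 0, .ofNat 1, .ofNat 0, .ofNat 0, .ofNat 0, .ofNat 0, .ofNat 0, .ofNat 0, .ofNat 0, .ofNat 0,
  .ofNat 0, .ofNat 0, .ofNat 1, .ofNat 0, .ofNat 0, .ofNat 0, .ofNat 0, .ofNat 0, .negSucc 0, .negSucc 0,
  .ofNat 1, .ofNat 0, .ofNat 0, .ofNat 2, .ofNat 1, .ofNat 0, .ofNat 0, .negSucc 0, .ofNat 0, .negSucc 0,
  .negSucc 0, .ofNat 0, .ofNat 0, .ofNat 0, .ofNat 2, .ofNat 0, .ofNat 0, .ofNat 0, .ofNat 0, .ofNat 0,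
  .ofNat 0, .ofNat 0, .negSucc 0, .negSucc 0, .ofNat 0, .ofNat 0, .ofNat 0, .ofNat 0, .ofNat 0, .ofNat 0,
  .ofNat 0, .ofNat 0, .ofNat 0, .ofNat 1, .ofNat 0, .ofNat 0, .ofNat 0, .ofNat 0, .ofNat 0, .ofNat 0,
  .ofNat 0, .negSucc 0, .ofNat 1, .ofNat 0, .ofNat 0, .ofNat 0, .ofNat 0, .ofNat 0, .ofNat 0, .ofNat 0,
  .ofNat 0, .ofNat 0, .ofNat 0, .ofNat 0, .ofNat 1, .ofNat 1, .ofNat 0, .ofNat 0, .negSucc 0, .ofNat 1,
  .ofNat 0, .ofNat 0, .ofNat 0, .negSucc 0, .ofNat 0, .ofNat 0, .ofNat 0, .ofNat 1, .ofNat 0, .negSucc 0,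
  .negSucc 0, .ofNat 1, .ofNat 0, .ofNat 0, .ofNat 0, .ofNat 0, .ofNat 1, .ofNat 1, .negSucc 0, .negSucc 0,
  .ofNat 1, .negSucc 0, .ofNat 0, .ofNat 0, .ofNat 0, .ofNat 0, .ofNat 0, .ofNat 0, .ofNat 0, .negSucc 1,
  .ofNat 0, .ofNat 0, .ofNat 0, .ofNat 0, .ofNat 0]

/-- the values at 16F -/
def col173 : List ℤ :=
  [.ofNat 1, .ofNat 3, .ofNat 3, .ofNat 2, .ofNat 2, .ofNat 3, .ofNat 1, .negSucc 1, .ofNat 3, .negSucc 1,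
  .negSucc 2, .negSucc 5, .ofNat 0, .ofNat 2, .negSucc 1, .ofNat 3, .ofNat 0, .negSucc 0, .negSucc 0,
  .ofNat 0, .negSucc 1, .ofNat 0, .negSucc 0, .negSucc 0, .negSucc 1, .ofNat 0, .ofNat 1, .negSucc 1,
  .negSucc 0, .ofNat 1, .negSucc 1, .ofNat 3, .ofNat 3, .ofNat 4, .ofNat 0, .ofNat 2, .negSucc 0, .ofNat 4,
  .negSucc 2, .ofNat 1, .ofNat 1, .ofNat 4, .ofNat 0, .negSucc 0, .negSucc 5, .negSucc 1, .ofNat 2, .ofNat 0,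
  .negSucc 3, .ofNat 0, .ofNat 4, .ofNat 1, .negSucc 3, .ofNat 0, .negSucc 0, .negSucc 6, .ofNat 0,
  .negSucc 0, .ofNat 0, .ofNat 0, .ofNat 0, .negSucc 2, .ofNat 0, .ofNat 6, .ofNat 0, .ofNat 1, .ofNat 5,
  .negSucc 1, .negSucc 1, .ofNat 1, .ofNat 4, .ofNat 0, .negSucc 1, .negSucc 1, .negSucc 0, .ofNat 0,
  .ofNat 2, .negSucc 2, .negSucc 1, .ofNat 0, .ofNat 0, .ofNat 0, .ofNat 0, .ofNat 0, .ofNat 5, .ofNat 0,
  .negSucc 0, .ofNat 0, .ofNat 0, .ofNat 0, .ofNat 0, .ofNat 4, .negSucc 0, .ofNat 1, .negSucc 2, .negSucc 0,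
  .ofNat 4, .negSucc 2, .ofNat 0, .ofNat 0, .ofNat 0, .ofNat 2, .ofNat 0, .ofNat 0, .ofNat 0, .ofNat 4,
  .ofNat 0, .ofNat 0, .ofNat 0, .negSucc 0, .negSucc 3, .ofNat 0, .ofNat 0, .negSucc 4, .negSucc 6,
  .negSucc 2, .ofNat 0, .ofNat 7, .ofNat 1, .ofNat 0, .ofNat 0, .negSucc 1, .ofNat 6, .ofNat 0, .negSucc 4,
  .ofNat 1, .ofNat 0, .negSucc 3, .ofNat 4, .ofNat 2, .ofNat 0, .ofNat 0, .negSucc 0, .negSucc 4, .negSucc 1,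
  .ofNat 3, .negSucc 2, .ofNat 0, .ofNat 0, .ofNat 0, .ofNat 0, .ofNat 2, .ofNat 0, .ofNat 0, .ofNat 4,
  .ofNat 0, .negSucc 2, .ofNat 5, .ofNat 0, .ofNat 0, .ofNat 0, .ofNat 0, .ofNat 0, .ofNat 2, .negSucc 4,
  .ofNat 4, .ofNat 0, .ofNat 2, .ofNat 0, .ofNat 0, .ofNat 0, .ofNat 0, .ofNat 0, .ofNat 0, .negSucc 3,
  .ofNat 0, .negSucc 1, .ofNat 2, .negSucc 1, .negSucc 3, .negSucc 1, .ofNat 0, .ofNat 0, .ofNat 2, .ofNat 0]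

/-- the values at 18B -/
def col174 : List ℤ :=
  [.ofNat 1, .ofNat 2, .ofNat 3, .ofNat 2, .ofNat 1, .negSucc 0, .ofNat 0, .ofNat 1, .ofNat 2, .negSucc 2,
  .negSucc 2, .negSucc 1, .ofNat 3, .ofNat 1, .negSucc 0, .negSucc 3, .negSucc 0, .negSucc 0, .negSucc 3,
  .ofNat 4, .negSucc 1, .negSucc 2, .ofNat 0, .ofNat 0, .ofNat 0, .ofNat 0, .ofNat 0, .ofNat 0, .ofNat 0,
  .ofNat 0, .negSucc 1, .ofNat 0, .ofNat 0, .negSucc 2, .ofNat 2, .negSucc 2, .ofNat 0, .ofNat 0, .ofNat 2,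
  .negSucc 2, .negSucc 2, .ofNat 3, .ofNat 3, .ofNat 2, .ofNat 0, .ofNat 3, .ofNat 0, .ofNat 0, .ofNat 0,
  .ofNat 0, .ofNat 0, .ofNat 0, .negSucc 2, .ofNat 0, .ofNat 0, .ofNat 3, .negSucc 2, .ofNat 0, .negSucc 3,
  .ofNat 3, .ofNat 0, .ofNat 0, .negSucc 0, .ofNat 0, .negSucc 1, .ofNat 0, .ofNat 0, .negSucc 4, .ofNat 5,
  .ofNat 0, .ofNat 0, .negSucc 3, .ofNat 0, .ofNat 0, .ofNat 0, .ofNat 3, .ofNat 1, .ofNat 3, .ofNat 0,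
  .ofNat 2, .negSucc 3, .ofNat 0, .ofNat 0, .ofNat 0, .ofNat 0, .negSucc 2, .ofNat 0, .ofNat 0, .ofNat 3,
  .ofNat 2, .negSucc 2, .ofNat 0, .ofNat 0, .ofNat 0, .ofNat 0, .ofNat 3, .ofNat 0, .ofNat 3, .ofNat 0,
  .ofNat 0, .negSucc 1, .ofNat 0, .ofNat 3, .ofNat 0, .ofNat 0, .ofNat 3, .ofNat 0, .ofNat 3, .negSucc 0,
  .ofNat 0, .ofNat 0, .ofNat 0, .ofNat 0, .ofNat 0, .negSucc 0, .negSucc 2, .negSucc 0, .ofNat 0, .ofNat 0,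
  .ofNat 3, .ofNat 3, .ofNat 0, .ofNat 0, .ofNat 3, .negSucc 2, .ofNat 0, .ofNat 3, .ofNat 1, .negSucc 2,
  .ofNat 0, .ofNat 0, .ofNat 0, .ofNat 0, .ofNat 0, .ofNat 0, .ofNat 0, .ofNat 0, .ofNat 2, .negSucc 2,
  .ofNat 0, .ofNat 0, .ofNat 0, .negSucc 2, .ofNat 0, .ofNat 0, .ofNat 0, .ofNat 0, .ofNat 0, .ofNat 3,
  .ofNat 0, .negSucc 1, .ofNat 2, .ofNat 0, .ofNat 0, .ofNat 0, .negSucc 2, .ofNat 0, .ofNat 0, .ofNat 3,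
  .negSucc 1, .ofNat 2, .ofNat 4, .ofNat 0, .negSucc 1, .ofNat 4, .negSucc 3, .negSucc 1, .ofNat 2, .ofNat 0,
  .ofNat 0, .ofNat 4, .ofNat 2, .ofNat 0, .ofNat 0, .negSucc 3]

/-- the columns -/
def cols : List (List ℤ) :=
  [col0, col1, col2, col3, col4, col5, col6, col7, col8, col9, col10, col11, col12, col13, col14, col15,
  col16, col17, col18, col19, col20, col21, col22, col23, col24, col25, col26, col27, col28, col29, col30,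
  col31, col32, col33, col34, col35, col36, col37, col38, col39, col40, col41, col42, col43, col44, col45,
  col46, col47, col48, col49, col50, col51, col52, col53, col54, col55, col56, col57, col58, col59, col60,
  col61, col62, col63, col64, col65, col66, col67, col68, col69, col70, col71, col72, col73, col74, col75,
  col76, col77, col78, col79, col80, col81, col82, col83, col84, col85, col86, col87, col88, col89, col90,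
  col91, col92, col93, col94, col95, col96, col97, col98, col99, col100, col101, col102, col103, col104,
  col105, col106, col107, col108, col109, col110, col111, col112, col113, col114, col115, col116, col117,
  col118, col119, col120, col121, col122, col123, col124, col125, col126, col127, col128, col129, col130,
  col131, col132, col133, col134, col135, col136, col137, col138, col139, col140, col141, col142, col143,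
  col144, col145, col146, col147, col148, col149, col150, col151, col152, col153, col154, col155, col156,
  col157, col158, col159, col160, col161, col162, col163, col164, col165, col166, col167, col168, col169,
  col170, col171, col172, col173, col174]

/-- the norms -/
def ms : List (ℕ × ℕ) :=
  [(1, 0), (1, 0), (1, 0), (1, 0), (1, 0), (1, 0), (1, 0), (1, 0), (1, 0), (1, 0), (1, 0), (1, 0), (1, 0),
  (1, 0), (1, 0), (1, 0), (1, 0), (1, 0), (1, 0), (1, 0), (1, 0), (1, 0), (1, 0), (1, 0), (1, 0), (1, 0),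
  (1, 0), (1, 0), (1, 0), (1, 0), (1, 0), (1, 0), (1, 0), (1, 0), (1, 0), (1, 0), (1, 0), (1, 0), (1, 0),
  (1, 0), (1, 0), (1, 0), (1, 0), (1, 0), (1, 0), (1, 0), (1, 0), (1, 0), (1, 0), (1, 0), (1, 0), (1, 0),
  (1, 0), (1, 0), (1, 0), (1, 0), (1, 0), (1, 0), (1, 0), (1, 0), (1, 0), (1, 0), (1, 0), (1, 0), (1, 0),
  (1, 0), (1, 0), (1, 0), (1, 0), (1, 0), (1, 0), (1, 0), (1, 0), (1, 0), (1, 0), (1, 0), (1, 0), (1, 0),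
  (1, 0), (1, 0), (1, 0), (1, 0), (1, 0), (1, 0), (1, 0), (1, 0), (1, 0), (1, 0), (1, 0), (1, 0), (1, 0),
  (1, 0), (1, 0), (1, 0), (1, 0), (1, 0), (1, 0), (1, 0), (1, 0), (1, 0), (1, 0), (1, 0), (1, 0), (1, 0),
  (1, 0), (1, 0), (1, 0), (1, 0), (1, 0), (1, 0), (1, 0), (1, 0), (1, 0), (1, 0), (1, 0), (1, 0), (1, 0),
  (1, 0), (1, 0), (1, 0), (1, 0), (1, 0), (1, 0), (1, 0), (1, 0), (1, 0), (1, 0), (1, 0), (1, 0), (1, 0),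
  (1, 0), (1, 0), (1, 0), (1, 0), (1, 0), (1, 0), (1, 0), (1, 0), (1, 0), (1, 0), (1, 0), (1, 0), (1, 0),
  (1, 0), (1, 0), (1, 0), (1, 0), (1, 0), (1, 0), (1, 0), (1, 0), (1, 0), (1, 0), (1, 0), (1, 0), (1, 0),
  (1, 0), (1, 0), (1, 0), (1, 0), (1, 0), (1, 0), (1, 0), (1, 0), (1, 0), (1, 0), (2, 0), (2, 0), (2, 0),
  (2, 0), (2, 0), (2, 0), (2, 0), (2, 0), (2, 0)]

/-- twice the coefficients of the regular character -/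
def reg : List ℤ :=
  [.ofNat 2, .ofNat 8742, .ofNat 192510, .ofNat 2278748, .ofNat 18917500, .ofNat 19101270, .ofNat 127064970,
  .ofNat 695286228, .ofNat 712108750, .ofNat 2814253780, .ofNat 6429487482, .ofNat 8442761340,
  .ofNat 8550725040, .ofNat 9245827500, .ofNat 18574074948, .ofNat 25003562430, .ofNat 27016836288,
  .ofNat 54832373750, .ofNat 151688278742, .ofNat 160852800000, .ofNat 216697541060, .ofNat 313743905280,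
  .ofNat 619441728750, .ofNat 1072211588910, .ofNat 1103098342500, .ofNat 1271932466112,
  .ofNat 1282477556250, .ofNat 2191870732500, .ofNat 3834897033582, .ofNat 5248953596250,
  .ofNat 8751246850500, .ofNat 9673997368750, .ofNat 12286750578102, .ofNat 12291667245000,
  .ofNat 13238249781120, .ofNat 13394765587500, .ofNat 14662841598990, .ofNat 16330077855000,
  .ofNat 19917053406250, .ofNat 20477917630170, .ofNat 20477917630170, .ofNat 21059150175000,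
  .ofNat 21707440634880, .ofNat 25855956603750, .ofNat 34826390527500, .ofNat 38492326372500,
  .ofNat 39892047331500, .ofNat 44696971800000, .ofNat 49147002312408, .ofNat 70603998832640,
  .ofNat 76697940671640, .ofNat 77316472451250, .ofNat 81911670520680, .ofNat 94194787040640,
  .ofNat 156718757373750, .ofNat 179253480656250, .ofNat 189962130150000, .ofNat 236958761149110,
  .ofNat 238967380664320, .ofNat 246971072839680, .ofNat 281526558700608, .ofNat 325492803776250,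
  .ofNat 363688180800000, .ofNat 421838673694020, .ofNat 422138067000000, .ofNat 452375816739210,
  .ofNat 521045792606250, .ofNat 568831045282500, .ofNat 568831045282500, .ofNat 698110828301250,
  .ofNat 729270570875000, .ofNat 773919789500000, .ofNat 845933169172500, .ofNat 1127459727873108,
  .ofNat 1163518047168750, .ofNat 1190808171970560, .ofNat 1292797830187500, .ofNat 1305989644781250,
  .ofNat 1325895250972500, .ofNat 1330059632640000, .ofNat 1330059632640000, .ofNat 1354050063709200,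
  .ofNat 1429730976360960, .ofNat 1437779244810240, .ofNat 1550877476816250, .ofNat 1618807717800000,
  .ofNat 1640858784468750, .ofNat 1671035983994880, .ofNat 1689989333760000, .ofNat 1936566825123840,
  .ofNat 2085510169600000, .ofNat 2187811712625000, .ofNat 2396810645988750, .ofNat 2741951379011130,
  .ofNat 2741951379011130, .ofNat 2782325764968750, .ofNat 2917856438595000, .ofNat 3047309171156250,
  .ofNat 3358562454673920, .ofNat 3423573494415360, .ofNat 3614924740231168, .ofNat 3857099069039580,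
  .ofNat 4247609794560000, .ofNat 4875694673850000, .ofNat 5130435024000000, .ofNat 5223958579125000,
  .ofNat 5285352394719232, .ofNat 5460778034712000, .ofNat 5577669427200000, .ofNat 5817590235843750,
  .ofNat 5905741431716280, .ofNat 5982439372387920, .ofNat 6137238051000000, .ofNat 6938136080493750,
  .ofNat 7110388066031250, .ofNat 7110388066031250, .ofNat 7339755423000000, .ofNat 7679219111313750,
  .ofNat 8137320094406250, .ofNat 8191167052068000, .ofNat 8387755061317632, .ofNat 8462812898182500,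
  .ofNat 8462812898182500, .ofNat 8500815912960000, .ofNat 9141927513468750, .ofNat 9239702139281250,
  .ofNat 9287037474000000, .ofNat 9480517421375000, .ofNat 9480517421375000, .ofNat 9839538441427500,
  .ofNat 10383402339401728, .ofNat 10447917158250000, .ofNat 10514787462120942, .ofNat 10514787462120942,
  .ofNat 10970313016162500, .ofNat 11984053229943750, .ofNat 12829986399116250, .ofNat 13384259889000000,
  .ofNat 13868642627840000, .ofNat 13959025202238480, .ofNat 15150815930250000, .ofNat 15358438222627500,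
  .ofNat 15396930549000000, .ofNat 15488027962767360, .ofNat 15706759126905000, .ofNat 15727040739970560,
  .ofNat 16702920193781250, .ofNat 16777674521921250, .ofNat 17205651407831040, .ofNat 17548488825671232,
  .ofNat 18422867079200768, .ofNat 18422867079200768, .ofNat 19116000899424000, .ofNat 19138976862043500,
  .ofNat 19193659653077910, .ofNat 19690305413625000, .ofNat 20268049354260480, .ofNat 20322698456200140,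
  .ofNat 22763121638400000, .ofNat 23708219473920000, .ofNat 23708219473920000, .ofNat 26092689854300160,
  .ofNat 27881804059200000, .ofNat 28029256679424000, .ofNat 28441552264125000, .ofNat 33095624452800000,
  .ofNat 181614468750, .ofNat 505969406250, .ofNat 8194674237750, .ofNat 16758955797012,
  .ofNat 23780562093750, .ofNat 42693014000000, .ofNat 8663551182000000, .ofNat 19147171536281250,
  .ofNat 24848631808000000]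

/-- the degrees -/
def degs : List ℕ :=
  [1, 4371, 96255, 1139374, 9458750, 9550635, 63532485, 347643114, 356054375, 1407126890, 3214743741,
  4221380670, 4275362520, 4622913750, 9287037474, 12501781215, 13508418144, 27416186875, 75844139371,
  80426400000, 108348770530, 156871952640, 309720864375, 536105794455, 551549171250, 635966233056,
  641238778125, 1095935366250, 1917448516791, 2624476798125, 4375623425250, 4836998684375, 6143375289051,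
  6145833622500, 6619124890560, 6697382793750, 7331420799495, 8165038927500, 9958526703125, 10238958815085,
  10238958815085, 10529575087500, 10853720317440, 12927978301875, 17413195263750, 19246163186250,
  19946023665750, 22348485900000, 24573501156204, 35301999416320, 38348970335820, 38658236225625,
  40955835260340, 47097393520320, 78359378686875, 89626740328125, 94981065075000, 118479380574555,
  119483690332160, 123485536419840, 140763279350304, 162746401888125, 181844090400000, 210919336847010,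
  211069033500000, 226187908369605, 260522896303125, 284415522641250, 284415522641250, 349055414150625,
  364635285437500, 386959894750000, 422966584586250, 563729863936554, 581759023584375, 595404085985280,
  646398915093750, 652994822390625, 662947625486250, 665029816320000, 665029816320000, 677025031854600,
  714865488180480, 718889622405120, 775438738408125, 809403858900000, 820429392234375, 835517991997440,
  844994666880000, 968283412561920, 1042755084800000, 1093905856312500, 1198405322994375, 1370975689505565,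
  1370975689505565, 1391162882484375, 1458928219297500, 1523654585578125, 1679281227336960, 1711786747207680,
  1807462370115584, 1928549534519790, 2123804897280000, 2437847336925000, 2565217512000000, 2611979289562500,
  2642676197359616, 2730389017356000, 2788834713600000, 2908795117921875, 2952870715858140, 2991219686193960,
  3068619025500000, 3469068040246875, 3555194033015625, 3555194033015625, 3669877711500000, 3839609555656875,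
  4068660047203125, 4095583526034000, 4193877530658816, 4231406449091250, 4231406449091250, 4250407956480000,
  4570963756734375, 4619851069640625, 4643518737000000, 4740258710687500, 4740258710687500, 4919769220713750,
  5191701169700864, 5223958579125000, 5257393731060471, 5257393731060471, 5485156508081250, 5992026614971875,
  6414993199558125, 6692129944500000, 6934321313920000, 6979512601119240, 7575407965125000, 7679219111313750,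
  7698465274500000, 7744013981383680, 7853379563452500, 7863520369985280, 8351460096890625, 8388837260960625,
  8602825703915520, 8774244412835616, 9211433539600384, 9211433539600384, 9558000449712000, 9569488431021750,
  9596829826538955, 9845152706812500, 10134024677130240, 10161349228100070, 11381560819200000,
  11854109736960000, 11854109736960000, 13046344927150080, 13940902029600000, 14014628339712000,
  14220776132062500, 16547812226400000, 90807234375, 90807234375, 252984703125, 252984703125, 4097337118875,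
  4097337118875, 8379477898506, 8379477898506, 11890281046875, 11890281046875, 21346507000000,
  21346507000000, 4331775591000000, 4331775591000000, 9573585768140625, 9573585768140625, 12424315904000000,
  12424315904000000]

end Cfsg.Agent.TAB.B.Fin
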