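import Cfsg.Agent.TAB.Co2.Main
import Cfsg.Agent.TAB.B.C2.Head
import Cfsg.Agent.TAB.B.Geo.Bg

/-!
# The elements of order 30 over the central involution are conjugate to their 17th powers (helper51, TAB)
-/

set_option autoImplicit false
set_option maxRecDepth 100000

namespace Cfsg.Agent.TAB.B.Fin

open Cfsg Cfsg.Agent.TAB.Eng Cfsg.Agent.BabyM Cfsg.Agent.BabyM.Conc
open Subgroup (centralizer mem_centralizer_singleton_iff)

universe u v

theorem fix_step {G : Type u} [Group G] [Finite G] (H : Subgroup G) {p : ℕ} (hp : p.Prime) (hH : ¬ p ∣ Nat.card H)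
    {a b : G} (ha : a ^ p = 1) (hb : b ^ p = 1) (h : ∀ x ∈ H, a * x * b⁻¹ ∈ H) : ∃ x ∈ H, a * x = x * b := by
  have : Fact p.Prime := ⟨hp⟩
  have := Fintype.ofFinite H
  let f : H → H := fun x => ⟨a * x * b⁻¹, h x x.2⟩
  have hf : Function.Injective f := fun x y hxy =>
    Subtype.ext (mul_left_cancel (mul_right_cancel (congrArg Subtype.val hxy : a * x * b⁻¹ = a * y * b⁻¹)))
  let σ : Equiv.Perm H := Equiv.ofBijective f (Finite.injective_iff_bijective.1 hf)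
  have h1 : ∀ (n : ℕ) (x : H), ((σ ^ n) x : G) = a ^ n * x * b⁻¹ ^ n := fun n => by
    induction n with
    | zero => simp
    | succ n ih =>
      intro x
      rw [pow_succ', Equiv.Perm.mul_apply]
      show a * (σ ^ n) x * b⁻¹ = _
      rw [ih, pow_succ', pow_succ]
      group
  obtain ⟨x, hx⟩ := Equiv.Perm.exists_fixed_point_of_prime (n := 1) (σ := σ) (by rwa [← Nat.card_eq_fintype_card])
    (Equiv.ext fun x => Subtype.ext (by rw [pow_one, h1, inv_pow, ha, hb]; simp))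
  exact ⟨x, x.2, mul_inv_eq_iff_eq_mul.1 (congrArg Subtype.val hx)⟩

/-- elements of order dividing 15 with the same image modulo a normal `2`-subgroup are conjugate -/
theorem lift15 {G : Type u} {K : Type v} [Group G] [Group K] [Finite G] (φ : G →* K) {n : ℕ}
    (hφ : Nat.card φ.ker ∣ 2 ^ n) {a b : G} (ha : a ^ 15 = 1) (hb : b ^ 15 = 1) (h : φ a = φ b) : IsConj a b := by
  have h0 : ∀ (H : Subgroup G) (p : ℕ), p.Prime → p ≠ 2 → H ≤ φ.ker → ¬ p ∣ Nat.card H := fun H p hp h2 hH hd =>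
    h2 ((Nat.prime_dvd_prime_iff_eq hp Nat.prime_two).1
      (hp.dvd_of_dvd_pow (hd.trans ((Subgroup.card_dvd_of_le hH).trans hφ))))
  have h1 : ∀ {c : G}, c ^ 15 = 1 → (c ^ 10) ^ 3 = 1 ∧ (c ^ 6) ^ 5 = 1 ∧ c = c ^ 6 * c ^ 10 := fun {c} hc => by
    refine ⟨?_, ?_, ?_⟩
    · rw [← pow_mul, show 10 * 3 = 15 * 2 from rfl, pow_mul, hc, one_pow]
    · rw [← pow_mul, show 6 * 5 = 15 * 2 from rfl, pow_mul, hc, one_pow]
    · rw [← pow_add, show 6 + 10 = 15 + 1 from rfl, pow_succ, hc, one_mul]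
  obtain ⟨x, hx, h2⟩ := fix_step φ.ker Nat.prime_three (h0 _ _ Nat.prime_three (by decide) le_rfl) (h1 ha).1 (h1 hb).1
    fun x hx => by
      rw [MonoidHom.mem_ker] at hx ⊢
      simp only [map_mul, map_inv, map_pow, hx, h, mul_one, mul_inv_cancel]
  rw [MonoidHom.mem_ker] at hx
  have h3 : (x * b * x⁻¹) ^ 15 = 1 := by rw [conj_pow, hb, mul_one, mul_inv_cancel]
  have h4 : (x * b * x⁻¹) ^ 10 = a ^ 10 := by rw [conj_pow, ← h2, mul_inv_cancel_right]
  have h5 : φ (x * b * x⁻¹) = φ a := by simp only [map_mul, map_inv, hx, h, one_mul, inv_one, mul_one]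
  refine IsConj.trans ?_ (isConj_iff.2 ⟨x, rfl⟩ : IsConj b (x * b * x⁻¹)).symm
  generalize x * b * x⁻¹ = c at h3 h4 h5
  obtain ⟨y, ⟨-, hy⟩, h6⟩ := fix_step (φ.ker ⊓ centralizer {a ^ 10}) Nat.prime_five
    (h0 _ _ Nat.prime_five (by decide) inf_le_left) (h1 ha).2.1 (h1 h3).2.1 fun y hy => by
      refine ⟨?_, Subgroup.mul_mem _ (Subgroup.mul_mem _ ?_ hy.2) (Subgroup.inv_mem _ ?_)⟩
      · have h7 : φ y = 1 := hy.1
        show φ _ = 1
        simp only [map_mul, map_inv, map_pow, h7, h5, mul_one, mul_inv_cancel]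
      · exact mem_centralizer_singleton_iff.2 (Commute.pow_pow_self a 6 10).eq
      · rw [← h4]
        exact mem_centralizer_singleton_iff.2 (Commute.pow_pow_self c 6 10).eq
  have h7 : y * a ^ 10 = a ^ 10 * y := mem_centralizer_singleton_iff.1 hy
  refine (isConj_iff.2 ⟨y, mul_inv_eq_iff_eq_mul.2 ?_⟩ : IsConj c a).symm
  rw [(h1 h3).2.2, ← mul_assoc, ← h6, h4, mul_assoc, h7, ← mul_assoc, ← (h1 ha).2.2]

theorem co2_15 {x : Spor.Co2} (hx : x ^ 15 = 1) : IsConj x (x ^ 2) := by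
  have := Co2.finite
  obtain ⟨T, -, h, hT, -⟩ := Co2.str
  have h0 : orderOf x ∣ 15 := orderOf_dvd_of_pow_eq_one hx
  rcases h x (x ^ 2) (TD.pow_coprime (Nat.Coprime.coprime_dvd_right h0 (by norm_num))).symm with h1 | ⟨h1, -⟩
  · exact h1
  rw [T.ord] at h0
  have h2 : T.ty x = 44 := by
    have h3 : ∀ t ∈ Co2.S, Co2.D.ord t ∣ 15 → t = 44 := by decide +kernel
    exact h3 _ h1 h0
  have h3 := (hT _ 55 (by decide)).2 (Co2.ty_E (e := (H633.Ore.Co2.C10.w55, 55))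
    (List.mem_append_right _ (by simp [Co2.E3]))).2
  have h4 := Co.isConj_pow Co2.conj17 2
  generalize H633.Ore.Co2.wd H633.Ore.Co2.C10.w55 = w at h3 h4
  have h5 : w ^ 30 = 1 := by
    rw [← orderOf_dvd_iff_pow_eq_one, T.ord, h3]
    decide +kernel
  rw [← pow_mul, show 17 * 2 = 30 + 2 * 2 from rfl, pow_add, h5, one_mul, pow_mul] at h4
  have h6 : T.ty (w ^ 2) = T.ty x := by
    rw [T.pow, h3, h2]
    decide +kernel
  rcases h _ _ h6 with h7 | ⟨-, h7⟩
  · exact h7.symm.trans (h4.trans (Co.isConj_pow h7 2))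
  · refine h7.symm.trans ((Co.isConj_inv h4).trans ?_)
    rw [← inv_pow]
    exact Co.isConj_pow h7 2

theorem card_ker : Nat.card C2.pr2.ker ∣ 2 ^ 23 := by
  have h : C2.pr2.ker = C2.rq.range := Subgroup.ext fun _ => C2.pr2_eq_one
  rw [h, ← Monster.PauliBasic.Pauli.card 11]
  exact Subgroup.card_range_dvd _

theorem conj17_aux {G : Type u} {H K : Type v} [Group G] [Group H] [Group K] [Finite G] (ι : H →* G)
    (hι : Function.Injective ι) (φ : H →* K) {n : ℕ} (hφ : Nat.card φ.ker ∣ 2 ^ n) (hs : ∀ γ, ∃ c, φ c = γ)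
    (hK : ∀ x : K, x ^ 15 = 1 → IsConj x (x ^ 2)) {z : G} (hz : z * z = 1) (hC : ∀ g, g * z = z * g ↔ ∃ c, ι c = g)
    {g : G} (h : g ^ 15 = z) : IsConj g (g ^ 17) := by
  have : Finite H := Finite.of_injective ι hι
  have h1 : g ^ 30 = 1 := by rw [show 30 = 15 + 15 from rfl, pow_add, h, hz]
  obtain ⟨s, h3⟩ := (hC (g ^ 16)).1 (h ▸ (Commute.pow_pow_self g 16 15).eq)
  have h4 : s ^ 15 = 1 := hι (by
    rw [map_pow, map_one, h3, ← pow_mul, show 16 * 15 = 30 * 8 from rfl, pow_mul, h1, one_pow])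
  obtain ⟨γ, hγ⟩ := isConj_iff.1 (hK (φ s) (by rw [← map_pow, h4, map_one]))
  obtain ⟨c, rfl⟩ := hs γ
  have h5 : IsConj s (s ^ 2) := (isConj_iff.2 ⟨c, rfl⟩ : IsConj s (c * s * c⁻¹)).trans (lift15 φ hφ
    (by rw [conj_pow, h4, mul_one, mul_inv_cancel]) (by rw [← pow_mul, mul_comm, pow_mul, h4, one_pow])
    (by rw [map_mul, map_mul, map_inv, hγ, map_pow]))
  obtain ⟨d, hd⟩ := isConj_iff.1 h5
  have h6 : ι d * z = z * ι d := (hC _).2 ⟨d, rfl⟩
  have h7 := congrArg ι hd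
  rw [map_mul, map_mul, map_inv, map_pow, h3] at h7
  have h8 : g = z * g ^ 16 := by rw [← h, ← pow_add, show 15 + 16 = 30 + 1 from rfl, pow_succ, h1, one_mul]
  refine isConj_iff.2 ⟨ι d, ?_⟩
  conv_lhs => rw [h8]
  rw [← mul_assoc, h6, mul_assoc z, mul_assoc z, h7, ← h, ← pow_mul, ← pow_add,
    show 15 + 16 * 2 = 30 + 17 from rfl, pow_add, h1, one_mul]

/-- **the conjugacy** -/
theorem conj17 {g : BG} (h : g ^ 15 = zB) : IsConj g (g ^ 17) :=
  have : Finite BG := Nat.finite_of_card_ne_zero (by rw [card_B]; norm_num)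
  conj17_aux (G := BG) (Subgroup.inclusion InstMem.C_le_G) (Subgroup.inclusion_injective _) C2.pr2 card_ker C2.pr2_surj
    (fun _ => co2_15) Geo.zB_sq (fun g => Geo.comm_zB_iff.trans
      ⟨fun h => ⟨⟨g, h⟩, rfl⟩, fun ⟨c, hc⟩ => hc ▸ c.2⟩) h

end Cfsg.Agent.TAB.B.Fin
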